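import Groth.Agent.DQGen.Lift

/-!
# Perfect generators with support on quasi-compact quasi-separated schemes
-/

set_option backward.isDefEq.respectTransparency false

universe u

open CategoryTheory CategoryTheory.Limits AlgebraicGeometry Pretriangulated TopologicalSpace ZeroObject

attribute [local instance] HasDerivedCategory.standard

namespace Groth.Agent.DQGen

open Groth.Agent.KFlatLib

/-- Perfect generators with support exist on every qcqs scheme. -/
theorem hasDetector (X : Scheme.{u}) [CompactSpace X] [QuasiSeparatedSpace X] : HasDetector X := by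
  refine qcqs_induction (Q := HasDetector) (fun X _ => hasDetector_of_isAffine X)
    (fun X _ _ U V hUV hU hV hQU hQV _ W hW => ?_) X
  haveI : CompactSpace (U : Scheme.{u}) := compactSpace_opens hU
  haveI : CompactSpace (V : Scheme.{u}) := compactSpace_opens hV.isCompact
  haveI : QuasiSeparatedSpace (U : Scheme.{u}) := quasiSeparatedSpace_of_imm U.ι
  haveI : QuasiSeparatedSpace (V : Scheme.{u}) := quasiSeparatedSpace_of_imm V.ι
  let O := U ⊔ W
  have hOc : IsCompact (O : Set X) := by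
    simp only [O, Opens.coe_sup]; exact hU.union hW
  -- the part supported off `U`
  obtain ⟨P₁, hP₁, hdet₁⟩ := hQV (V.ι ⁻¹ᵁ O) (isCompact_preimage V.ι hOc)
  let R₁ := (DCoh.Rpush V.ι).obj P₁
  have hR₁O : IsZero ((rho O.ι).obj R₁) := isZero_rho_rpush V.ι O hP₁.2
  have hVO : V.ι.opensRange ⊔ O = ⊤ := by
    rw [Scheme.Opens.opensRange_ι]
    refine top_unique ?_
    rw [← hUV]
    exact sup_le (le_sup_left.trans le_sup_right) le_sup_left
  have hR₁ : PP W R₁ := by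
    refine ⟨isPerfect_rpush_of_support V P₁ hP₁.1 (((V.ι ⁻¹ᵁ O : V.toScheme.Opens) : Set V.toScheme)ᶜ) ?_
      ((isZero_rho_iff_support _ P₁).1 hP₁.2), isZero_rho_of_le le_sup_right hR₁O⟩
    have : (fun x : (V : Scheme.{u}) => V.ι.base x) '' ((V.ι ⁻¹ᵁ O : V.toScheme.Opens) : Set V.toScheme)ᶜ =
        (O : Set X)ᶜ := by
      ext x
      constructor
      · rintro ⟨y, hy, rfl⟩; exact hy
      · intro hx
        have hxV : x ∈ V := by
          rcases Opens.mem_sup.1 (show x ∈ U ⊔ V by rw [hUV]; trivial) with h | h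
          · exact absurd (Opens.mem_sup.2 (Or.inl h)) hx
          · exact h
        exact ⟨⟨x, hxV⟩, hx, rfl⟩
    rw [this]
    exact O.2.isClosed_compl
  have hR₁U : IsZero ((rho U.ι).obj R₁) := isZero_rho_of_le le_sup_left hR₁O
  -- the part extending a generator of `U`
  obtain ⟨PU, hPU, hdetU⟩ := hQU (U.ι ⁻¹ᵁ W) (isCompact_preimage U.ι hW)
  let iU : ((U ⊓ V : X.Opens) : Scheme.{u}) ⟶ (U : Scheme.{u}) := X.homOfLE inf_le_left
  let iV : ((U ⊓ V : X.Opens) : Scheme.{u}) ⟶ (V : Scheme.{u}) := X.homOfLE inf_le_right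
  haveI : CompactSpace ((U ⊓ V : X.Opens) : Scheme.{u}) := compactSpace_opens (by
    rw [Opens.coe_inf]
    exact QuasiSeparatedSpace.inter_isCompact _ _ U.2 hU V.2 hV.isCompact)
  let p := (rho iU).obj PU
  have hp : DCoh.IsPerfect p := isPerfect_rho iU hPU.1
  have hpW : IsZero ((rho (iV ⁻¹ᵁ (V.ι ⁻¹ᵁ W)).ι).obj p) := by
    refine (isZero_rho_comp _ iU ((iV ⁻¹ᵁ (V.ι ⁻¹ᵁ W)).ι ≫ iU) rfl PU).2
      (isZero_rho_of_range_le (U.ι ⁻¹ᵁ W).ι _ ?_ hPU.2)
    rw [Scheme.Opens.opensRange_ι, Scheme.Hom.opensRange_comp, Scheme.Opens.opensRange_ι]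
    rintro _ ⟨z, hz, rfl⟩
    have e : U.ι.base (iU.base z) = V.ι.base (iV.base z) := by
      rw [← Scheme.Hom.comp_apply, ← Scheme.Hom.comp_apply, X.homOfLE_ι, X.homOfLE_ι]
    change U.ι.base (iU.base z) ∈ W
    rw [e]
    exact hz
  obtain ⟨CV, hCV, ⟨eV⟩⟩ := exists_extension_double iV hQV (V.ι ⁻¹ᵁ W) (isCompact_preimage V.ι hW) hp hpW
  haveI : PreservesBinaryBiproducts (rho iU) := preservesBinaryBiproducts_of_preservesBiproducts _
  obtain ⟨R₂, ⟨eU⟩, ⟨eV'⟩⟩ := exists_glue U V hUV (PU ⊞ PU⟦(1 : ℤ)⟧) CV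
    ((rho iU).mapBiprod _ _ ≪≫ biprod.mapIso (Iso.refl _) (((rho iU).commShiftIso (1 : ℤ)).app PU) ≪≫ eV.symm)
  have hR₂ : PP W R₂ := by
    have hA : PP (U.ι ⁻¹ᵁ W) (PU ⊞ PU⟦(1 : ℤ)⟧) :=
      prop_biprod _ hPU ((PP _).le_shift (1 : ℤ) _ hPU)
    refine ⟨isPerfect_of_cover hUV (isPerfect_of_iso eU.symm hA.1) (isPerfect_of_iso eV'.symm hCV.1),
      (isZero_rho_iff_support W R₂).2 fun i x hx hxW => ?_⟩
    have key : ∀ (A : X.Opens) (hxA : x ∈ A) (B : DCoh.D (A : Scheme.{u}))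
        (e : (rho A.ι).obj R₂ ≅ B) (hB : IsZero ((rho (A.ι ⁻¹ᵁ W).ι).obj B)), False :=
      fun A hxA B e hB => by
      have hz : IsZero ((rho ((A.ι ⁻¹ᵁ W).ι ≫ A.ι)).obj R₂) :=
        (isZero_rho_comp _ A.ι _ rfl R₂).1 (hB.of_iso ((rho _).mapIso e))
      have hz' : IsZero ((rho (A ⊓ W).ι).obj R₂) := isZero_rho_of_range_le _ _ (by
        rw [Scheme.Opens.opensRange_ι, Scheme.Hom.opensRange_comp, Scheme.Opens.opensRange_ι,
          Scheme.Hom.image_preimage_eq_opensRange_inf, Scheme.Opens.opensRange_ι]) hz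
      exact (isZero_rho_iff_support _ R₂).1 hz' i hx ⟨hxA, hxW⟩
    rcases Opens.mem_sup.1 (show x ∈ U ⊔ V by rw [hUV]; trivial) with h | h
    · exact key U h _ eU hA.2
    · exact key V h _ eV' hCV.2
  refine ⟨R₁ ⊞ R₂, prop_biprod _ hR₁ hR₂, fun E hE hEP => ?_⟩
  have h1 : ∀ (n : ℤ) (φ : R₁ ⟶ E⟦n⟧), φ = 0 := fun n φ => by
    have := hEP n (biprod.fst ≫ φ)
    rw [← Category.id_comp φ, ← biprod.inl_fst (X := R₁) (Y := R₂), Category.assoc, this, comp_zero]
  have h2 : ∀ (n : ℤ) (φ : R₂ ⟶ E⟦n⟧), φ = 0 := fun n φ => by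
    have := hEP n (biprod.snd ≫ φ)
    rw [← Category.id_comp φ, ← biprod.inr_snd (X := R₁) (Y := R₂), Category.assoc, this, comp_zero]
  have hunit : ∀ E : DCoh.D X, PQ W E → (∀ (n : ℤ) (φ : R₁ ⟶ E⟦n⟧), φ = 0) →
      IsIso ((adj U.ι).unit.app E) := fun E hE h1 => by
    obtain ⟨C, b, c, hT⟩ := distinguished_cocone_triangle ((adj U.ι).unit.app E)
    have hpush : PQ W ((DCoh.Rpush U.ι).obj ((rho U.ι).obj E)) :=
      pq_rpush U.ι W (isQCohD_rho U.ι hE.1) (isZero_rho_preimage U.ι W hE.2)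
    have hC : PQ O C := ⟨isQCohD_obj₃ hT hE.1 hpush.1, isZero_rho_inf
      (isZero_rho_of_range_le U.ι _ le_rfl
        (isZero_rho_cone_unit U.ι b c hT))
      (isZero_rho_obj₂ W (rot_of_distTriang _ hT) hpush.2 (isZero_rho_shift W hE.2 1))⟩
    have horth : ∀ (n : ℤ) (φ : R₁ ⟶ C⟦n⟧), φ = 0 := fun n φ => by
      have hTn := Triangle.shift_distinguished _ hT n
      have h3 : φ ≫ ((Triangle.shiftFunctor (DCoh.D X) n).obj (Triangle.mk ((adj U.ι).unit.app E) b c)).mor₃ = 0 := by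
        rw [← cancel_mono ((shiftFunctorAdd' (DCoh.D X) n 1 (n + 1) rfl).inv.app E), zero_comp]
        exact h1 (n + 1) _
      obtain ⟨χ, hχ⟩ := Triangle.coyoneda_exact₃ _ hTn φ h3
      have hχ0 : χ = 0 := by
        change R₁ ⟶ ((DCoh.Rpush U.ι).obj ((rho U.ι).obj E))⟦n⟧ at χ
        apply (shiftFunctor _ (-n)).map_injective
        rw [Functor.map_zero,
          ← cancel_mono ((shiftFunctorCompIsoId (DCoh.D X) n (-n) (by simp)).hom.app _), zero_comp]
        exact eq_zero_of_restrict_isZero U.ι (isZero_rho_shift U hR₁U (-n)) _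
      rw [hχ, hχ0, zero_comp]
    have hC0 : IsZero C := by
      haveI : ∀ n : ℤ, IsIso ((adj V.ι).unit.app (C⟦n⟧)) := fun n =>
        isIso_unit V.ι O hVO (isZero_rho_shift O hC.2 n)
      haveI := isIso_unit V.ι O hVO hC.2
      refine IsZero.of_iso ?_ (asIso ((adj V.ι).unit.app C))
      refine (DCoh.Rpush V.ι).map_isZero (hdet₁ _ ⟨isQCohD_rho V.ι hC.1,
        isZero_rho_preimage V.ι O hC.2⟩ fun n ψ => ?_)
      obtain ⟨φ, hφ⟩ := exists_preimage V.ι (A := R₁) (B := C⟦n⟧)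
        ((restrictPushIso V.ι P₁).hom ≫ ψ ≫ ((rho V.ι).commShiftIso n).inv.app C)
      rw [horth n φ, Functor.map_zero] at hφ
      rw [← cancel_epi (restrictPushIso V.ι P₁).hom, comp_zero,
        ← cancel_mono (((rho V.ι).commShiftIso n).inv.app C), Category.assoc, ← hφ, zero_comp]
    exact (Triangle.isZero₃_iff_isIso₁ _ hT).1 hC0
  haveI := hunit E hE h1
  haveI : ∀ n : ℤ, IsIso ((adj U.ι).unit.app (E⟦n⟧)) := fun n =>
    hunit _ ((PQ W).le_shift n _ hE) fun k φ => by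
      rw [← cancel_mono ((shiftFunctorAdd' (DCoh.D X) n k (n + k) rfl).inv.app E), zero_comp]
      exact h1 (n + k) _
  refine IsZero.of_iso ?_ (asIso ((adj U.ι).unit.app E))
  refine (DCoh.Rpush U.ι).map_isZero (hdetU _ ⟨isQCohD_rho U.ι hE.1,
    isZero_rho_preimage U.ι W hE.2⟩ fun n ψ => ?_)
  obtain ⟨φ, hφ⟩ := exists_preimage U.ι (A := R₂) (B := E⟦n⟧)
    (eU.hom ≫ biprod.fst ≫ ψ ≫ ((rho U.ι).commShiftIso n).inv.app E)
  rw [h2 n φ, Functor.map_zero] at hφ
  have := congrArg (fun t => (biprod.inl ≫ eU.inv) ≫ t) hφ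
  simp only [comp_zero, Category.assoc, Iso.inv_hom_id_assoc, biprod.inl_fst_assoc] at this
  rw [← cancel_mono (((rho U.ι).commShiftIso n).inv.app E), zero_comp, ← this]

end Groth.Agent.DQGen
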