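import Groth.Agent.DQGen.Support
import Groth.Agent.KFlatLib.Scheme.RpushQCoh

/-!
# Lifting maps and objects from quasi-compact opens
-/

set_option backward.isDefEq.respectTransparency false

universe u

open CategoryTheory CategoryTheory.Limits AlgebraicGeometry Pretriangulated TopologicalSpace ZeroObject

attribute [local instance] HasDerivedCategory.standard

namespace Groth.Agent.DQGen

open Groth.Agent.KFlatLib

variable {X U : Scheme.{u}}

/-- Small hom sets. -/
instance locallySmall_D : LocallySmall.{u} (DCoh.D X) := ⟨fun A B => by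
  obtain ⟨I, hI, -, ⟨eB⟩⟩ := exists_kInjective_rep B
  haveI := hI
  let K := DerivedCategory.Q.objPreimage A
  let q := HomotopyCategory.quotient X.Modules (ComplexShape.up ℤ)
  let F : (q.obj K ⟶ q.obj I) → (A ⟶ B) := fun g =>
    (DerivedCategory.Q.objObjPreimageIso A).inv ≫ ((DerivedCategory.quotientCompQhIso X.Modules).app K).inv ≫
      DerivedCategory.Qh.map g ≫ ((DerivedCategory.quotientCompQhIso X.Modules).app I).hom ≫ eB.inv
  refine small_of_surjective (f := F) fun φ => ?_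
  obtain ⟨g, hg⟩ := (CochainComplex.IsKInjective.Qh_map_bijective (q.obj K) I).2
    (((DerivedCategory.quotientCompQhIso X.Modules).app K).hom ≫
      (DerivedCategory.Q.objObjPreimageIso A).hom ≫ φ ≫ eB.hom ≫
      ((DerivedCategory.quotientCompQhIso X.Modules).app I).inv)
  refine ⟨g, ?_⟩
  simp only [F, hg, Category.assoc, Iso.inv_hom_id_assoc, Iso.inv_hom_id, Iso.hom_inv_id_assoc, Iso.hom_inv_id,
    Category.comp_id]⟩

instance hasSmallSums_D (J : Type u) : HasColimitsOfShape (Discrete J) (DCoh.D X) :=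
  TriCat.hasColimitsOfShape_derivedCategory

instance hasNatSums_D : HasColimitsOfShape (Discrete ℕ) (DCoh.D X) :=
  hasColimitsOfShape_of_equivalence (Discrete.equivalence (Equiv.ulift.{u} : ULift.{u} ℕ ≃ ℕ))

/-- The factorization lemma on a scheme with a detector. -/
theorem exists_factor_scheme [CompactSpace X] [QuasiSeparatedSpace X] {W : X.Opens} {P : DCoh.D X}
    (hP : PP W P) (hdet : ∀ E, PQ W E → (∀ (n : ℤ) (φ : P ⟶ E⟦n⟧), φ = 0) → IsZero E)
    {D' : Type (u + 1)} [Category.{u + 1} D'] [Preadditive D'] [HasZeroObject D'] [HasShift D' ℤ]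
    [∀ n : ℤ, (shiftFunctor D' n).Additive] [Pretriangulated D']
    {F : DCoh.D X ⥤ D'} [F.CommShift ℤ] [F.IsTriangulated]
    {p : D'} (hp : CompactFor.{u} F (PQ W) p) {T : DCoh.D X} (hT : PQ W T) (φ : p ⟶ F.obj T) :
    ∃ (R : DCoh.D X) (ψ : p ⟶ F.obj R) (h : R ⟶ T), PP W R ∧ φ = ψ ≫ F.map h :=
  exists_factor (PQ W) (PP W) (fun _ M => pq_sigma W M) (fun M => pq_sigma_nat W M)
    (fun _ h => h.pq) (fun _ h => compactIn_of_isPerfect W h.1)
    (fun n : ULift.{u} ℤ => P⟦n.down⟧) (fun n => (PP W).le_shift n.down _ hP)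
    (fun E hE h => hdet E hE (eq_zero_of_forall_shift fun n φ => h ⟨n⟩ φ)) hp hT φ

variable (j : U ⟶ X) [IsOpenImmersion j]

/-- The pushforward lies in `PQ`. -/
lemma pq_rpush [QuasiCompact j] [QuasiSeparated j] (W : X.Opens) {F : DCoh.D U} (hF : DCoh.IsQCohD F)
    (hW : IsZero ((rho (j ⁻¹ᵁ W).ι).obj F)) : PQ W ((DCoh.Rpush j).obj F) := by
  refine ⟨isQCohD_rpush j hF, isZero_rho_rpush j W hW⟩

/-- Maps on a quasi-compact open lift after a modification supported off the open. -/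
theorem exists_lift_map [CompactSpace X] [QuasiSeparatedSpace X] [CompactSpace U] (hX : HasDetector X)
    (W : X.Opens) (hW : IsCompact (W : Set X)) {E E' : DCoh.D X} (hE : PP W E) (hE' : PQ W E')
    (α : (rho j).obj E ⟶ (rho j).obj E') :
    ∃ (E₁ : DCoh.D X) (β : E₁ ⟶ E) (γ : E₁ ⟶ E'), PP W E₁ ∧ IsIso ((rho j).map β) ∧
      (rho j).map β ≫ α = (rho j).map γ := by
  haveI := quasiSeparatedSpace_of_imm j
  obtain ⟨C, b, c, h⟩ := distinguished_cocone_triangle ((adj j).unit.app E')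
  have hj : IsCompact (j.opensRange : Set X) := by
    rw [Scheme.Hom.coe_opensRange]; exact isCompact_range j.continuous
  have hO : IsCompact ((j.opensRange ⊔ W : X.Opens) : Set X) := by
    rw [Opens.coe_sup]; exact hj.union hW
  have hpush : PQ W ((DCoh.Rpush j).obj ((rho j).obj E')) :=
    pq_rpush j W (isQCohD_rho j hE'.1) (isZero_rho_preimage j W hE'.2)
  have hC : PQ (j.opensRange ⊔ W) C :=
    ⟨isQCohD_obj₃ h hE'.1 hpush.1, isZero_rho_inf
      (isZero_rho_of_range_le j _ (by rw [Scheme.Opens.opensRange_ι]) (isZero_rho_cone_unit j b c h))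
      (isZero_rho_obj₂ W (rot_of_distTriang _ h) hpush.2 (isZero_rho_shift W hE'.2 1))⟩
  obtain ⟨P, hP, hdet⟩ := hX _ hO
  obtain ⟨R, ψ, k, hR, hk⟩ := exists_factor_scheme hP hdet (F := 𝟭 _)
    (compactIn_of_isPerfect _ hE.1) hC ((adj j).homEquiv _ _ α ≫ b)
  replace hk : (adj j).homEquiv _ _ α ≫ b = ψ ≫ k := hk
  obtain ⟨E₁, β, c₁, hT⟩ := distinguished_cocone_triangle₁ ψ
  have hR' : IsZero ((rho j).obj R) :=
    isZero_rho_of_range_le (j.opensRange ⊔ W).ι j (by rw [Scheme.Opens.opensRange_ι]; exact le_sup_left) hR.2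
  have hE₁ : PP W E₁ := ObjectProperty.ext_of_isTriangulatedClosed₁ _ _ hT hE
    ⟨hR.1, isZero_rho_of_le le_sup_right hR.2⟩
  obtain ⟨γ, hγ⟩ := Triangle.coyoneda_exact₂ _ h (β ≫ (adj j).homEquiv _ _ α) (by
    change (β ≫ (adj j).homEquiv _ _ α) ≫ b = 0
    have h0 : β ≫ ψ = 0 := comp_distTriang_mor_zero₁₂ _ hT
    rw [Category.assoc, hk, ← Category.assoc, h0, zero_comp])
  change E₁ ⟶ E' at γ
  change β ≫ (adj j).homEquiv _ _ α = γ ≫ (adj j).unit.app E' at hγ
  haveI : IsIso ((rho j).map β) :=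
    (Triangle.isZero₃_iff_isIso₁ _ ((rho j).map_distinguished _ hT)).1 hR'
  refine ⟨E₁, β, γ, hE₁, inferInstance, ?_⟩
  apply ((adj j).homEquiv _ _).injective
  rw [Adjunction.homEquiv_naturality_left, hγ, Adjunction.homEquiv_unit]
  exact (adj j).unit.naturality γ

/-- A perfect object on a quasi-compact open, plus its shift, extends. -/
theorem exists_extension_double [CompactSpace X] [QuasiSeparatedSpace X] [CompactSpace U]
    (hX : HasDetector X) (W : X.Opens) (hW : IsCompact (W : Set X)) {p : DCoh.D U}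
    (hp : DCoh.IsPerfect p) (hpW : IsZero ((rho (j ⁻¹ᵁ W).ι).obj p)) :
    ∃ C : DCoh.D X, PP W C ∧ Nonempty ((rho j).obj C ≅ p ⊞ p⟦(1 : ℤ)⟧) := by
  haveI := quasiSeparatedSpace_of_imm j
  obtain ⟨P, hP, hdet⟩ := hX W hW
  obtain ⟨R, ψ, h, hR, hψ⟩ := exists_factor_scheme hP hdet (F := rho j)
    (compactFor_of_isPerfect j W hp) (pq_rpush j W (isQCohD_of_isPerfect hp) hpW) (restrictPushIso j p).inv
  let r := (rho j).map h ≫ (restrictPushIso j p).hom
  have hr : ψ ≫ r = 𝟙 p := by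
    simp only [r]
    rw [← Category.assoc, ← hψ, Iso.inv_hom_id]
  obtain ⟨E₁, β, γ, hE₁, hβ, hγ⟩ := exists_lift_map j hX W hW hR hR.pq (𝟙 _ - r ≫ ψ)
  obtain ⟨C, g, d, hT⟩ := distinguished_cocone_triangle γ
  refine ⟨C, ObjectProperty.ext_of_isTriangulatedClosed₃ _ _ hT hE₁ hR, ?_⟩
  have hT' := (rho j).map_distinguished _ hT
  let T₂ : Triangle (DCoh.D U) := Triangle.mk (𝟙 ((rho j).obj R) - r ≫ ψ) ((rho j).map g)
    (((rho j).map d ≫ ((rho j).commShiftIso (1 : ℤ)).hom.app E₁) ≫ ((rho j).map β)⟦(1 : ℤ)⟧')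
  have hT₂ : T₂ ∈ distTriang _ := by
    refine isomorphic_distinguished _ hT' _ (Triangle.isoMk _ _ (asIso ((rho j).map β)).symm
      (Iso.refl _) (Iso.refl _) ?_ ?_ ?_)
    · simp only [T₂, Triangle.mk_mor₁, Functor.mapTriangle_obj, Iso.refl_hom, Iso.symm_hom, asIso_inv]
      refine (Category.comp_id _).trans ?_
      rw [IsIso.eq_inv_comp]
      exact hγ
    · change (rho j).map g ≫ 𝟙 _ = 𝟙 _ ≫ (rho j).map g
      exact (Category.comp_id _).trans (Category.id_comp _).symm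
    · change (((rho j).map d ≫ ((rho j).commShiftIso (1 : ℤ)).hom.app E₁) ≫ ((rho j).map β)⟦(1 : ℤ)⟧') ≫
        (inv ((rho j).map β))⟦(1 : ℤ)⟧' = 𝟙 _ ≫ ((rho j).map d ≫ ((rho j).commShiftIso (1 : ℤ)).hom.app E₁)
      rw [Category.assoc, ← Functor.map_comp, IsIso.hom_inv_id, CategoryTheory.Functor.map_id]
      exact (Category.comp_id _).trans (Category.id_comp _).symm
  exact nonempty_cone_iso ψ r hr _ _ hT₂

end Groth.Agent.DQGen
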