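import Groth.Agent.DQGen.RpushCoh
import Groth.Agent.KFlatLib.Scheme.RpushBound

/-!
# Higher direct images of coherent modules with proper support
-/

set_option linter.style.haveILetI false

universe u

open CategoryTheory CategoryTheory.Limits AlgebraicGeometry

namespace Groth.Agent.DQGen

/-- Coherent modules with proper support have good direct images. -/
theorem goodPush_of_properSupport {X S : Scheme.{u}} (f : X ⟶ S) [LocallyOfFiniteType f]
    [IsNoetherian S] [HasInjectiveResolutions X.Modules] {F : X.Modules} (hF : Coh.IsCoh F)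
    (hs : ClSub.IsProperOver f (CohB1.support F)) : GoodPush f F := by
  refine ⟨fun p => QCoh.isCoh_Rpush_of_properSupport f hF hs p, ?_⟩
  obtain ⟨T, i, G, hi, hr, hG, -, ⟨e⟩⟩ := QCoh.exists_closed_model hF.1 hF.2
  haveI := hi
  rw [← hr] at hs
  haveI : IsProper (i ≫ f) := (QCoh.isProperOver_iff i).1 hs
  haveI : HasInjectiveResolutions T.Modules := KFlatLib.hasInjectiveResolutions_modules
  obtain ⟨N, hN⟩ := KFlatLib.exists_Rpush_bound (i ≫ f)
  refine ⟨N, fun p hp => ?_⟩
  obtain ⟨e'⟩ := QCoh.nonempty_Rpush_affine_push i f hG p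
  exact (hN G hG p hp).of_iso ((Coh.Rpush f p).mapIso e.symm ≪≫ e')

end Groth.Agent.DQGen
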