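import Mathlib.AlgebraicGeometry.Morphisms.QuasiSeparated

/-!
# Induction over quasi-compact quasi-separated schemes
-/

universe u

open CategoryTheory AlgebraicGeometry TopologicalSpace

namespace Groth.Agent.DQGen

variable {Q : Scheme.{u} → Prop}

/-- A property of affine schemes which glues along two opens holds for all qcqs schemes. -/
theorem qcqs_induction (haff : ∀ X : Scheme.{u}, IsAffine X → Q X)
    (hstep : ∀ (X : Scheme.{u}) [CompactSpace X] [QuasiSeparatedSpace X] (U V : X.Opens),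
      U ⊔ V = ⊤ → IsCompact (U : Set X) → IsAffineOpen V → Q U → Q V → Q (U ⊓ V : X.Opens) → Q X)
    (X : Scheme.{u}) [CompactSpace X] [QuasiSeparatedSpace X] : Q X := by
  let G : X.Opens → Prop := fun W =>
    ∀ (Y : Scheme.{u}) (j : Y ⟶ X) [IsOpenImmersion j], j.opensRange = W → Q Y
  have hbase : ∀ W : X.Opens, IsAffineOpen W → G W := fun W hW Y j _ hj => by
    haveI : IsAffine (W : Scheme.{u}) := hW
    have hr : Set.range j.base = Set.range W.ι.base := by
      rw [Scheme.Opens.range_ι]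
      exact congrArg (fun O : X.Opens => (O : Set X)) hj
    exact haff Y (IsAffine.of_isIso (IsOpenImmersion.isoOfRangeEq j W.ι hr).hom)
  have hglue : ∀ (S U : X.Opens), IsCompact (S : Set X) → IsAffineOpen U → G S → G U → G (S ⊓ U) →
      G (S ⊔ U) := fun S U hSc hU gS gU gSU Y j _ hj => by
    have hle : S ⊔ U ≤ j.opensRange := hj.ge
    have himg : ∀ O : X.Opens, O ≤ S ⊔ U → j ''ᵁ (j ⁻¹ᵁ O) = O := fun O hO => by
      rw [Scheme.Hom.image_preimage_eq_opensRange_inf]
      exact inf_eq_right.2 (hO.trans hle)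
    have hrange : ∀ O : Y.Opens, (O.ι ≫ j).opensRange = j ''ᵁ O := fun O => by
      rw [Scheme.Hom.opensRange_comp, Scheme.Opens.opensRange_ι]
    have hcomp : ∀ O : X.Opens, O ≤ S ⊔ U → IsCompact (O : Set X) →
        IsCompact ((j ⁻¹ᵁ O : Y.Opens) : Set Y) := fun O hO hOc => by
      refine j.isOpenEmbedding.isEmbedding.isCompact_iff.2 ?_
      rwa [show j.base '' ((j ⁻¹ᵁ O : Y.Opens) : Set Y) = (O : Set X) from
        congrArg (fun T : X.Opens => (T : Set X)) (himg O hO)]
    haveI : QuasiSeparatedSpace Y := QuasiSeparatedSpace.of_isOpenEmbedding j.isOpenEmbedding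
    have hcU := hcomp U le_sup_right hU.isCompact
    have hcS := hcomp S le_sup_left hSc
    have htop : j ⁻¹ᵁ S ⊔ j ⁻¹ᵁ U = ⊤ := top_unique fun y _ => by
      have : j.base y ∈ (S ⊔ U : X.Opens) := hj.le ⟨y, rfl⟩
      exact Opens.mem_sup.2 ((Opens.mem_sup.1 this).imp id id)
    haveI : CompactSpace Y := ⟨by
      have : ((j ⁻¹ᵁ S : Y.Opens) : Set Y) ∪ (j ⁻¹ᵁ U : Y.Opens) = Set.univ := by
        rw [← Opens.coe_sup, htop]; rfl
      exact this ▸ hcS.union hcU⟩
    refine hstep Y (j ⁻¹ᵁ S) (j ⁻¹ᵁ U) htop hcS ?_ ?_ ?_ ?_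
    · rw [← Scheme.Hom.isAffineOpen_iff_of_isOpenImmersion j, himg U le_sup_right]
      exact hU
    · exact gS _ ((j ⁻¹ᵁ S).ι ≫ j) ((hrange _).trans (himg S le_sup_left))
    · exact gU _ ((j ⁻¹ᵁ U).ι ≫ j) ((hrange _).trans (himg U le_sup_right))
    · exact gSU _ ((j ⁻¹ᵁ S ⊓ j ⁻¹ᵁ U).ι ≫ j)
        ((hrange _).trans (himg (S ⊓ U) (inf_le_left.trans le_sup_left)))
  -- compact opens inside an affine open
  have hinner : ∀ (A : X.Opens), IsAffineOpen A → ∀ S : X.Opens, IsCompact (S : Set X) → S ≤ A → G S := by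
    intro A hA
    let sup : List Γ(X, A) → X.Opens := fun l => l.foldr (fun f W => X.basicOpen f ⊔ W) ⊥
    have hsc : ∀ l, IsCompact (sup l : Set X) := fun l => by
      induction l with
      | nil => simp [sup]
      | cons f l ih =>
        change IsCompact ((X.basicOpen f ⊔ sup l : X.Opens) : Set X)
        rw [Opens.coe_sup]
        exact (hA.basicOpen f).isCompact.union ih
    have hmul : ∀ (g : Γ(X, A)) l, sup l ⊓ X.basicOpen g = sup (l.map (· * g)) := fun g l => by
      induction l with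
      | nil => exact bot_inf_eq _
      | cons f l ih =>
        change (X.basicOpen f ⊔ sup l) ⊓ X.basicOpen g = X.basicOpen (f * g) ⊔ sup (l.map (· * g))
        rw [inf_sup_right, ih, Scheme.basicOpen_mul]
    have hl : ∀ n l, l.length = n → G (sup l) := by
      intro n
      induction n with
      | zero =>
        intro l hl
        rw [List.length_eq_zero_iff.1 hl]
        exact hbase _ (isAffineOpen_bot X)
      | succ n ih =>
        intro l hl
        obtain ⟨f, l, rfl⟩ := List.exists_cons_of_length_eq_add_one hl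
        change G (X.basicOpen f ⊔ sup l)
        rw [sup_comm]
        refine hglue _ _ (hsc l) (hA.basicOpen f) (ih l (by simpa using hl)) (hbase _ (hA.basicOpen f)) ?_
        rw [hmul]
        exact ih _ (by simpa using hl)
    intro S hS hSA
    have hex : ∀ x : S, ∃ f : Γ(X, A), X.basicOpen f ≤ S ∧ x.1 ∈ X.basicOpen f := fun x =>
      hA.exists_basicOpen_le x (hSA x.2)
    choose f hfS hxf using hex
    obtain ⟨t, ht⟩ := hS.elim_finite_subcover (fun x : S => (X.basicOpen (f x) : Set X))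
      (fun x => (X.basicOpen (f x)).2) (fun x hx => Set.mem_iUnion.2 ⟨⟨x, hx⟩, hxf ⟨x, hx⟩⟩)
    have hmem : ∀ (l : List Γ(X, A)) (x : X), x ∈ sup l ↔ ∃ g ∈ l, x ∈ X.basicOpen g := fun l x => by
      induction l with
      | nil =>
        refine ⟨fun h => h.elim, ?_⟩
        rintro ⟨g, hg, -⟩
        simp at hg
      | cons g l ih =>
        change x ∈ X.basicOpen g ⊔ sup l ↔ _
        rw [Opens.mem_sup, ih]
        simp
    have : S = sup (t.toList.map f) := by
      ext x
      refine ⟨fun hx => (hmem _ x).2 ?_, fun hx => ?_⟩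
      · obtain ⟨i, hi, hxi⟩ := Set.mem_iUnion₂.1 (ht hx)
        exact ⟨f i, List.mem_map.2 ⟨i, Finset.mem_toList.2 hi, rfl⟩, hxi⟩
      · obtain ⟨g, hg, hxg⟩ := (hmem _ x).1 hx
        obtain ⟨i, -, rfl⟩ := List.mem_map.1 hg
        exact hfS i hxg
    rw [this]
    exact hl _ _ rfl
  refine compact_open_induction_on (P := G) (⊤ : X.Opens) (by simpa using isCompact_univ)
    (hbase _ (isAffineOpen_bot X)) (fun S hS U gS => ?_) X (𝟙 X) (Scheme.Hom.opensRange_of_isIso _)
  refine hglue S U.1 hS U.2 gS (hbase _ U.2) (hinner U.1 U.2 _ ?_ inf_le_right)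
  rw [Opens.coe_inf]
  exact QuasiSeparatedSpace.inter_isCompact _ _ S.2 hS U.1.2 U.2.isCompact

end Groth.Agent.DQGen
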