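import Groth.Agent.DQGen.Basic
import Groth.Agent.DQGen.Induction
import Groth.Agent.KFlatLib.Scheme.TildePerf
import Groth.Agent.QCoh.Tilde
import Mathlib.Algebra.Homology.DerivedCategory.KProjective

/-!
# Perfect objects do not map to very negative quasi-coherent objects, and are compact
-/

set_option backward.isDefEq.respectTransparency false

universe u

open CategoryTheory CategoryTheory.Limits AlgebraicGeometry Pretriangulated TopologicalSpace

attribute [local instance] HasDerivedCategory.standard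

namespace Groth.Agent.DQGen

open Groth.Agent.KFlatLib

variable {X U : Scheme.{u}}

/-- An open immersion with full range detects zero objects. -/
lemma isZero_of_isZero_rho (j : U ⟶ X) [IsOpenImmersion j] (hj : j.opensRange = ⊤) {K : DCoh.D X}
    (hK : IsZero ((rho j).obj K)) : IsZero K := by
  have hr : Set.range (⊤ : X.Opens).ι.base ⊆ Set.range j.base := fun x _ => hj.ge (Opens.mem_top x)
  let i := IsOpenImmersion.lift j (⊤ : X.Opens).ι hr
  haveI : IsOpenImmersion (i ≫ j) := by rw [IsOpenImmersion.lift_fac]; infer_instance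
  haveI : IsOpenImmersion i := IsOpenImmersion.of_comp i j
  exact isZero_of_isZero_rho_top K ((isZero_rho_comp i j _ (IsOpenImmersion.lift_fac _ _ _) K).1
    (Functor.map_isZero _ hK))

/-- The cone of the unit vanishes on the open. -/
lemma isZero_rho_cone_unit (j : U ⟶ X) [IsOpenImmersion j] {L K : DCoh.D X}
    (b : (DCoh.Rpush j).obj ((rho j).obj L) ⟶ K) (c : K ⟶ L⟦(1 : ℤ)⟧)
    (h : Triangle.mk ((adj j).unit.app L) b c ∈ distTriang _) : IsZero ((rho j).obj K) := by
  haveI : IsIso ((rho j).map ((adj j).unit.app L)) := by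
    have h1 := (adj j).left_triangle_components L
    haveI : IsIso ((rho j).map ((adj j).unit.app L) ≫ (adj j).counit.app ((rho j).obj L)) := by
      rw [h1]; exact IsIso.id _
    exact IsIso.of_isIso_comp_right _ ((adj j).counit.app ((rho j).obj L))
  exact (Triangle.isZero₃_iff_isIso₁ _ ((rho j).map_distinguished _ h)).2 (by
    change IsIso ((rho j).map ((adj j).unit.app L))
    infer_instance)

/-- An open immersion with full range gives a faithful restriction. -/
lemma rho_map_injective (j : U ⟶ X) [IsOpenImmersion j] (hj : j.opensRange = ⊤) {A B : DCoh.D X}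
    (f : A ⟶ B) (hf : (rho j).map f = 0) : f = 0 := by
  obtain ⟨K, b, c, h⟩ := distinguished_cocone_triangle ((adj j).unit.app B)
  haveI : IsIso ((adj j).unit.app B) :=
    (Triangle.isZero₃_iff_isIso₁ _ h).1 (isZero_of_isZero_rho j hj (isZero_rho_cone_unit j b c h))
  rw [← cancel_mono ((adj j).unit.app B), zero_comp]
  exact ((adj j).unit.naturality f).trans (by rw [Functor.comp_map, hf, Functor.map_zero, comp_zero])

lemma isLE_rho (j : U ⟶ X) [IsOpenImmersion j] {L : DCoh.D X} {n : ℤ} (h : L.IsLE n) :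
    ((rho j).obj L).IsLE n :=
  (DerivedCategory.isLE_iff _ _).2 fun i hi =>
    ((Scheme.Modules.restrictFunctor j).map_isZero (DerivedCategory.isZero_of_isLE L n i hi)).of_iso
      (restrictHDIso j L i)

/-- The bound. -/
def VanishBound (X : Scheme.{u}) : Prop :=
  ∀ E : DCoh.D X, DCoh.IsPerfect E →
    ∃ N : ℤ, ∀ L : DCoh.D X, DCoh.IsQCohD L → L.IsLE N → ∀ φ : E ⟶ L, φ = 0

/-- No maps from bounded complexes of projectives to more negative quasi-coherent objects. -/
lemma eq_zero_of_projective (R : CommRingCat.{u}) [PreservesFiniteLimits (tilde.functor R)]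
    (P : CochainComplex (ModuleCat.{u} R) ℤ) (a b : ℤ) (hz : ∀ i, i < a ∨ b < i → IsZero (P.X i))
    (hP : ∀ i, Module.Projective R (P.X i)) {E L : DCoh.D (Spec R)}
    (eE : (DCoh.tildeD R).obj (DerivedCategory.Q.obj P) ≅ E) (hL : DCoh.IsQCohD L) (n : ℤ) (hn : n < a)
    (hle : L.IsLE n) (φ : E ⟶ L) : φ = 0 := by
  haveI : (DCoh.tildeD R).Full := ⟨fun f => (tildeD_map_bijective _ _).2 f⟩
  haveI : P.IsStrictlyLE b :=
    (CochainComplex.isStrictlyLE_iff _ _).2 fun i hi => hz i (Or.inr hi)
  haveI : ∀ n, CategoryTheory.Projective (P.X n) := fun n =>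
    haveI := hP n
    inferInstance
  haveI : P.IsKProjective := CochainComplex.isKProjective_of_projective P b
  obtain ⟨N, ⟨eN⟩⟩ := exists_tildeD_iso hL
  haveI : N.IsLE n := (DerivedCategory.isLE_iff _ _).2 fun i hi => by
    have hT : IsZero ((tilde.functor R).obj ((DerivedCategory.homologyFunctor _ i).obj N)) :=
      ((DerivedCategory.isZero_of_isLE L n i hi).of_iso
        ((DerivedCategory.homologyFunctor _ i).mapIso eN)).of_iso
          ((mapDCHomologyIso (tilde.functor R) i).app N).symm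
    refine (IsZero.iff_id_eq_zero _).2 ((tilde.functor R).map_injective ?_)
    rw [Functor.map_zero]
    exact hT.eq_of_src _ _
  obtain ⟨N', hN', ⟨eN'⟩⟩ := DerivedCategory.exists_iso_Q_obj_of_isLE N n
  have key : ∀ ψ : DerivedCategory.Q.obj P ⟶ DerivedCategory.Q.obj N', ψ = 0 := fun ψ => by
    obtain ⟨q, hq⟩ := (CochainComplex.IsKProjective.Qh_map_bijective P
      ((HomotopyCategory.quotient _ _).obj N')).2 (ψ : _)
    obtain ⟨g, rfl⟩ := (HomotopyCategory.quotient _ _).map_surjective q
    have : g = 0 := HomologicalComplex.hom_ext _ _ fun i => by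
      rcases lt_or_ge i a with hi | hi
      · exact (hz i (Or.inl hi)).eq_of_src _ _
      · exact (CochainComplex.isZero_of_isStrictlyLE N' n i (by omega)).eq_of_tgt _ _
    rw [this, Functor.map_zero, Functor.map_zero] at hq
    exact hq.symm
  obtain ⟨χ, hχ⟩ := (DCoh.tildeD R).map_surjective (eE.hom ≫ φ ≫ eN.inv)
  have h0 : χ = 0 := by
    have := key (χ ≫ eN'.hom)
    rwa [← cancel_mono eN'.hom, zero_comp]
  rw [← cancel_epi eE.hom, ← cancel_mono eN.inv, Category.assoc, ← hχ, h0, Functor.map_zero,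
    comp_zero, zero_comp]

lemma vanishBound_spec (R : CommRingCat.{u}) : VanishBound (Spec R) := by
  intro E hE
  haveI := QCoh.tilde_preservesFiniteLimits (R := R)
  obtain ⟨M, ⟨eM⟩⟩ := exists_tildeD_iso (isQCohD_of_isPerfect hE)
  obtain ⟨P, a, b, hz, hP, ⟨eP⟩⟩ := (perfect_tildeD_iff M).1 (isPerfect_of_iso eM.symm hE)
  exact ⟨a - 1, fun L hL hle φ => eq_zero_of_projective R P a b hz (fun i => (hP i).2)
    ((DCoh.tildeD R).mapIso eP ≪≫ eM) hL (a - 1) (by omega) hle φ⟩

/-- Perfect objects do not map to very negative quasi-coherent objects. -/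
theorem vanishBound (X : Scheme.{u}) [CompactSpace X] [QuasiSeparatedSpace X] : VanishBound X := by
  refine qcqs_induction (Q := VanishBound) (fun X _ E hE => ?_) (fun X _ _ U V hUV _ _ hU hV hW E hE => ?_) X
  · let j := X.isoSpec.inv
    obtain ⟨N, hN⟩ := vanishBound_spec _ ((rho j).obj E) (isPerfect_rho j hE)
    refine ⟨N, fun L hL hle φ => rho_map_injective j (Scheme.Hom.opensRange_of_isIso _) φ ?_⟩
    exact hN _ (isQCohD_rho j hL) (isLE_rho j hle) _
  · obtain ⟨NU, hNU⟩ := hU _ (isPerfect_rho U.ι hE)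
    obtain ⟨NV, hNV⟩ := hV _ (isPerfect_rho V.ι hE)
    obtain ⟨NW, hNW⟩ := hW _ (isPerfect_rho (U ⊓ V).ι
      ((isPerfect_iff _).2 (((isPerfect_iff _).1 hE).shift 1)))
    refine ⟨min NU (min NV NW), fun L hL hle φ => ?_⟩
    obtain ⟨a, b, c, h⟩ := exists_mvRpush_triangle U V hUV L
    have hz : ∀ (O : X.Opens) (M : DCoh.D X) (hM : ∀ ψ : (rho O.ι).obj M ⟶ (rho O.ι).obj L, ψ = 0)
        (ψ : M ⟶ (DCoh.Rpush O.ι).obj ((rho O.ι).obj L)), ψ = 0 := fun O M hM ψ =>
      ((adj O.ι).homEquiv _ _).symm.injective ((hM _).trans (hM _).symm)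
    have hle' : ∀ (O : X.Opens) (n : ℤ), min NU (min NV NW) ≤ n → ((rho O.ι).obj L).IsLE n :=
      fun O n hn => isLE_rho O.ι (DerivedCategory.TStructure.t.isLE_of_le L _ n hn)
    have ha : φ ≫ a = 0 := biprod.hom_ext _ _
      (by rw [zero_comp]; exact hz U E (hNU _ (isQCohD_rho U.ι hL) (hle' U _ (min_le_left _ _))) _)
      (by rw [zero_comp]; exact hz V E (hNV _ (isQCohD_rho V.ι hL)
        (hle' V _ ((min_le_right _ _).trans (min_le_left _ _)))) _)
    obtain ⟨ψ, hψ⟩ := Triangle.coyoneda_exact₂ _ (inv_rot_of_distTriang _ h) φ ha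
    have h0 : ψ = 0 := by
      apply (shiftFunctor (DCoh.D X) (1 : ℤ)).map_injective
      rw [Functor.map_zero, ← cancel_mono ((shiftFunctorCompIsoId (DCoh.D X) (-1 : ℤ) 1 (by simp)).hom.app _),
        zero_comp]
      exact hz (U ⊓ V) _ (hNW _ (isQCohD_rho (U ⊓ V).ι hL)
        (hle' _ _ ((min_le_right _ _).trans (min_le_right _ _)))) _
    rw [hψ, h0, zero_comp]

/-- Perfect objects of a quasi-compact scheme are bounded. -/
theorem exists_bounds_of_isPerfect [CompactSpace X] {E : DCoh.D X} (hE : DCoh.IsPerfect E) :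
    ∃ a b : ℤ, E.IsGE a ∧ E.IsLE b := by
  choose O j hj hx P hP eP using (isPerfect_iff _).1 hE
  choose lo hi hb using fun x => (hP x).1
  obtain ⟨t, ht⟩ := isCompact_univ.elim_finite_subcover
    (fun x : X => Set.range (j x).base)
    (fun x => haveI := hj x; (j x).isOpenEmbedding.isOpen_range)
    (fun x _ => Set.mem_iUnion.2 ⟨x, hx x⟩)
  let N : ℕ := ∑ x ∈ t, ((lo x).natAbs + (hi x).natAbs)
  have key : ∀ i : ℤ, (i < -(N : ℤ) ∨ (N : ℤ) < i) → IsZero (DCoh.HD E i) := fun i hi' => by
    refine isZero_of_stalk _ fun y => ?_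
    obtain ⟨x, hxt, hy⟩ := Set.mem_iUnion₂.1 (ht (Set.mem_univ y))
    have hxN : (lo x).natAbs + (hi x).natAbs ≤ N :=
      Finset.single_le_sum (f := fun x => (lo x).natAbs + (hi x).natAbs) (fun _ _ => Nat.zero_le _) hxt
    haveI := hj x
    obtain ⟨u', rfl⟩ := hy
    have hz : IsZero ((P x).homology i) :=
      ShortComplex.isZero_homology_of_isZero_X₂ _ (hb x i (by omega))
    refine isZero_stalk_of_restrict (j x) u' ((DerSch.stalkFunctor _ _).map_isZero (hz.of_iso ?_))
    exact (restrictHDIso (j x) E i).symm ≪≫ (DerivedCategory.homologyFunctor _ i).mapIso (eP x).some.symm ≪≫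
      (DerivedCategory.homologyFunctorFactors _ i).app (P x)
  exact ⟨-(N : ℤ), N, (DerivedCategory.isGE_iff _ _).2 fun i hi => key i (Or.inl hi),
    (DerivedCategory.isLE_iff _ _).2 fun i hi => key i (Or.inr hi)⟩

/-- Both truncations of an object with quasi-coherent cohomology. -/
lemma isQCohD_of_trunc {M A B : DCoh.D X} (hM : DCoh.IsQCohD M) (b : ℤ) (hA : A.IsLE b)
    (hB : B.IsGE (b + 1)) (f : A ⟶ M) (g : M ⟶ B) (h : B ⟶ A⟦(1 : ℤ)⟧)
    (hT : Triangle.mk f g h ∈ distTriang _) : DCoh.IsQCohD A ∧ DCoh.IsQCohD B := by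
  let H := DerivedCategory.homologyFunctor X.Modules
  have hexact : ∀ j, (ShortComplex.mk ((H j).map f) ((H j).map g)
      ((Functor.map_comp _ _ _).symm.trans ((congrArg (H j).map (comp_distTriang_mor_zero₁₂ _ hT)).trans
        (Functor.map_zero _ _ _)))).Exact :=
    fun j => DerivedCategory.HomologySequence.exact₂ _ hT j
  have hqA : DCoh.IsQCohD A := fun j => by
    by_cases hj : b < j
    · exact isQCoh_of_isZero (DerivedCategory.isZero_of_isLE A b j hj)
    · haveI : Epi ((H j).map f) := (hexact j).epi_f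
        ((DerivedCategory.isZero_of_isGE B (b + 1) j (by omega)).eq_of_tgt _ _)
      haveI : Mono ((H j).map f) := (DerivedCategory.HomologySequence.mono_homologyMap_mor₁_iff _ hT
        (j - 1) j (by omega)).2 ((DerivedCategory.isZero_of_isGE B (b + 1) (j - 1) (by omega)).eq_of_src _ _)
      haveI : IsIso ((H j).map f) := isIso_of_mono_of_epi _
      exact isQCoh_of_iso (asIso ((H j).map f)).symm (hM j)
  exact ⟨hqA, isQCohD_obj₃ hT hqA hM⟩

/-- Perfect objects are compact in `D_QCoh`. -/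
theorem fixAt_of_isPerfect [CompactSpace X] [QuasiSeparatedSpace X] {E : DCoh.D X}
    (hE : DCoh.IsPerfect E) {J : Type u} (M : J → DCoh.D X) [HasCoproduct M]
    (hM : ∀ j, DCoh.IsQCohD (M j)) : FixAt M E := by
  obtain ⟨b, hb⟩ := vanishBound X E hE
  haveI : HasColimitsOfShape (Discrete J) (DCoh.D X) := TriCat.hasColimitsOfShape_derivedCategory
  choose A B hA hB f g h hT using fun j =>
    DerivedCategory.TStructure.t.exists_triangle (M j) b (b + 1) rfl
  haveI : ∀ j, (A j).IsLE b := fun j => ⟨hA j⟩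
  haveI : ∀ j, (B j).IsGE (b + 1) := fun j => ⟨hB j⟩
  have hq := fun j => isQCohD_of_trunc (hM j) b inferInstance inferInstance (f j) (g j) (h j) (hT j)
  choose K eK hK using hA
  haveI : ∀ j, (K j).IsStrictlyLE b := hK
  haveI := preservesColimit_Q K
  haveI : (∐ A).IsLE b := by
    haveI : (∐ K).IsStrictlyLE b := (CochainComplex.isStrictlyLE_iff _ b).2 fun k hk => by
      refine IsZero.of_iso ?_ (PreservesCoproduct.iso
        (HomologicalComplex.eval X.Modules (ComplexShape.up ℤ) k) K)
      rw [IsZero.iff_id_eq_zero]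
      exact Sigma.hom_ext _ _ fun j => ((K j).isZero_of_isStrictlyLE b k hk).eq_of_src _ _
    exact ⟨⟨∐ K, Limits.Sigma.mapIso eK ≪≫ (PreservesCoproduct.iso DerivedCategory.Q K).symm,
      inferInstance⟩⟩
  let S : Triangle (DCoh.D X) := Triangle.mk (Limits.Sigma.map f) (Limits.Sigma.map g)
    (Sigma.desc fun j => h j ≫ (Sigma.ι A j)⟦(1 : ℤ)⟧')
  have hS : S ∈ distTriang (DCoh.D X) := TriCat.distinguished_of_isSum
    (fun j => Triangle.mk (f j) (g j) (h j)) hT S
    (fun j =>
      { hom₁ := Sigma.ι A j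
        hom₂ := Sigma.ι M j
        hom₃ := Sigma.ι B j
        comm₁ := (Limits.Sigma.ι_map f j).symm
        comm₂ := (Limits.Sigma.ι_map g j).symm
        comm₃ := (Sigma.ι_desc (fun j => h j ≫ (Sigma.ι A j)⟦(1 : ℤ)⟧') j).symm })
    (TriCat.isSum_sigma A) (TriCat.isSum_sigma M) (TriCat.isSum_sigma B)
  intro φ
  obtain ⟨F, hF⟩ := (fix_of_isPerfect hE B (b + 1)).at_zero (φ ≫ S.mor₂)
  obtain ⟨ψ, hψ⟩ := Triangle.coyoneda_exact₂ _ hS (φ - φ ≫ partProj M F) (by
    rw [Preadditive.sub_comp, Category.assoc, sub_eq_zero]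
    exact (((congrArg (φ ≫ ·) (sigmaMap_partProj M g F)).trans (Category.assoc _ _ _).symm).trans hF).symm)
  refine ⟨F, (sub_eq_zero.1 (hψ.trans ?_)).symm⟩
  rw [hb S.obj₁ (isQCohD_sigma A fun j => (hq j).1) (show (∐ A).IsLE b from inferInstance) ψ, zero_comp]

lemma fixAt_of_isPerfect_nat [CompactSpace X] [QuasiSeparatedSpace X] {E : DCoh.D X}
    (hE : DCoh.IsPerfect E) (M : ℕ → DCoh.D X) [HasCoproduct M]
    (hM : ∀ j, DCoh.IsQCohD (M j)) : FixAt M E := by
  haveI : HasColimitsOfShape (Discrete (ULift.{u} ℕ)) (DCoh.D X) :=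
    TriCat.hasColimitsOfShape_derivedCategory
  exact (fixAt_of_isPerfect hE (fun j : ULift.{u} ℕ => M j.down) fun j => hM _).reindex Equiv.ulift
    fun _ => Iso.refl _

/-- Perfect objects are compact in `PQ W`. -/
lemma compactIn_of_isPerfect [CompactSpace X] [QuasiSeparatedSpace X] (W : X.Opens) {E : DCoh.D X}
    (hE : DCoh.IsPerfect E) : CompactIn.{u} (PQ W) E :=
  ⟨fun J M _ hM φ => fixAt_of_isPerfect hE M (fun j => (hM j).1) φ,
    fun M _ hM φ => fixAt_of_isPerfect_nat hE M (fun j => (hM j).1) φ⟩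

/-- Perfect objects on an open are compact for restrictions from `PQ W`. -/
lemma compactFor_of_isPerfect (j : U ⟶ X) [IsOpenImmersion j] [CompactSpace U] [QuasiSeparatedSpace U]
    (W : X.Opens) {p : DCoh.D U} (hp : DCoh.IsPerfect p) : CompactFor.{u} (rho j) (PQ W) p := by
  refine ⟨fun J M _ hM φ => ?_, fun M _ hM φ => ?_⟩
  · haveI := preservesColimit_restrictD j M
    haveI : HasColimitsOfShape (Discrete J) (DCoh.D U) := TriCat.hasColimitsOfShape_derivedCategory
    obtain ⟨s, hs⟩ := fixAt_of_isPerfect hp (fun k => (rho j).obj (M k))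
      (fun k => isQCohD_rho j (hM k).1) (φ ≫ inv (sigmaComparison (rho j) M))
    refine ⟨s, ?_⟩
    rw [← cancel_mono (inv (sigmaComparison (rho j) M)), Category.assoc]
    conv_rhs => rw [← hs]
    rw [Category.assoc]
    congr 1
    rw [IsIso.comp_inv_eq, Category.assoc, ← sigmaComparison_partProj, IsIso.inv_hom_id_assoc]
  · haveI : HasColimitsOfShape (Discrete (ULift.{u} ℕ)) (DCoh.D U) :=
      TriCat.hasColimitsOfShape_derivedCategory
    haveI : HasColimitsOfShape (Discrete ℕ) (DCoh.D U) :=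
      hasColimitsOfShape_of_equivalence (Discrete.equivalence (Equiv.ulift.{u} : ULift.{u} ℕ ≃ ℕ))
    haveI : HasColimitsOfShape (Discrete (ULift.{u} ℕ)) (DCoh.D X) :=
      TriCat.hasColimitsOfShape_derivedCategory
    haveI := preservesColimit_restrictD j (fun k : ULift.{u} ℕ => M k.down)
    let c := Sigma.whiskerEquiv (f := fun k : ULift.{u} ℕ => M k.down) (g := M) Equiv.ulift fun _ => Iso.refl _
    haveI : IsIso (sigmaComparison (rho j) M) := by
      let c' := Sigma.whiskerEquiv (f := fun k : ULift.{u} ℕ => (rho j).obj (M k.down))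
        (g := fun k => (rho j).obj (M k)) Equiv.ulift fun _ => Iso.refl _
      have : sigmaComparison (rho j) M =
          c'.inv ≫ sigmaComparison (rho j) (fun k : ULift.{u} ℕ => M k.down) ≫ (rho j).map c.hom := by
        rw [Iso.eq_inv_comp]
        refine Sigma.hom_ext _ _ fun k => ?_
        simp [c, c', ← Functor.map_comp]
        exact (Category.id_comp _).trans (congrArg (rho j).map (Category.id_comp _).symm)
      rw [this]
      infer_instance
    obtain ⟨s, hs⟩ := fixAt_of_isPerfect_nat hp (fun k => (rho j).obj (M k))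
      (fun k => isQCohD_rho j (hM k).1) (φ ≫ inv (sigmaComparison (rho j) M))
    refine ⟨s, ?_⟩
    rw [← cancel_mono (inv (sigmaComparison (rho j) M)), Category.assoc]
    conv_rhs => rw [← hs]
    rw [Category.assoc]
    congr 1
    rw [IsIso.comp_inv_eq, Category.assoc, ← sigmaComparison_partProj, IsIso.inv_hom_id_assoc]

end Groth.Agent.DQGen
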