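import Groth.Agent.DQGen.Vanish
import Groth.Agent.KFlatLib.Perfect.LocFree
import Groth.Agent.S12451

/-!
# Vanishing of maps out of perfect objects in a range
-/

set_option backward.isDefEq.respectTransparency false

universe u

open CategoryTheory CategoryTheory.Limits AlgebraicGeometry Pretriangulated TopologicalSpace

attribute [local instance] HasDerivedCategory.standard

namespace Groth.Agent.DQGen

open Groth.Agent.KFlatLib

variable {X : Scheme.{u}}

lemma isLE_shift {L : DCoh.D X} (b n c : ℤ) (h : L.IsLE b) (hc : b - n ≤ c) : (L⟦n⟧).IsLE c := by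
  haveI := h
  haveI := DerivedCategory.TStructure.t.isLE_shift L b n (b - n) (by omega)
  exact DerivedCategory.TStructure.t.isLE_of_le (L⟦n⟧) (b - n) c hc

lemma isGE_shift {L : DCoh.D X} (a n c : ℤ) (h : L.IsGE a) (hc : c ≤ a - n) : (L⟦n⟧).IsGE c := by
  haveI := h
  haveI := DerivedCategory.TStructure.t.isGE_shift L a n (a - n) (by omega)
  exact DerivedCategory.TStructure.t.isGE_of_ge (L⟦n⟧) c (a - n) hc

/-- Maps out of a perfect object see only finitely many degrees. -/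
theorem exists_range [CompactSpace X] [QuasiSeparatedSpace X] {K : DCoh.D X} (hK : DCoh.IsPerfect K) :
    ∃ N b : ℤ, (∀ L : DCoh.D X, DCoh.IsQCohD L → L.IsLE N → ∀ φ : K ⟶ L, φ = 0) ∧
      ∀ L : DCoh.D X, L.IsGE (b + 1) → ∀ φ : K ⟶ L, φ = 0 := by
  obtain ⟨N, hN⟩ := vanishBound X K hK
  obtain ⟨a, b, -, hb⟩ := exists_bounds_of_isPerfect hK
  exact ⟨N, b, hN, fun L hL φ =>
    DerivedCategory.TStructure.t.zero_of_isLE_of_isGE φ b (b + 1) (by omega) hb hL⟩

/-- The bound, uniformly in locally free modules. -/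
def LFBound (X : Scheme.{u}) : Prop :=
  ∃ N : ℤ, ∀ F : X.Modules, FlatMod.IsFinLocFree F → ∀ L : DCoh.D X, DCoh.IsQCohD L → L.IsLE N →
    ∀ φ : DCoh.inD X F ⟶ L, φ = 0

lemma lfBound_spec (R : CommRingCat.{u}) : LFBound (Spec R) := by
  haveI := QCoh.tilde_preservesFiniteLimits (R := R)
  refine ⟨-1, fun F hF L hL hle φ => ?_⟩
  obtain ⟨M, ⟨eM⟩⟩ := QCoh.isQCoh_spec_iff.1 (QCoh.isQCoh_of_isFinLocFree hF)
  have hM := (Groth.Agent.S12451.result M).1 (H23.PullPush.isFinLocFree_of_iso eM.symm hF)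
  refine eq_zero_of_projective R ((CochainComplex.singleFunctor (ModuleCat.{u} R) 0).obj M) 0 0
    (fun i hi => HomologicalComplex.isZero_single_obj_X _ _ _ _ (by omega)) (fun i => ?_)
    ((((tilde.functor R).mapDerivedCategorySingleFunctor 0).app M) ≪≫
      (DerivedCategory.singleFunctor _ 0).mapIso eM) hL (-1) (by omega) hle φ
  by_cases hi : i = 0
  · subst hi
    haveI := hM.2
    exact Module.Projective.of_equiv
      (HomologicalComplex.singleObjXSelf (ComplexShape.up ℤ) (0 : ℤ) M).toLinearEquiv.symm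
  · haveI : Subsingleton (((CochainComplex.singleFunctor (ModuleCat.{u} R) 0).obj M).X i : Type u) :=
      ModuleCat.subsingleton_of_isZero
        (HomologicalComplex.isZero_single_obj_X (ComplexShape.up ℤ) 0 M i hi)
    infer_instance

theorem lfBound (X : Scheme.{u}) [CompactSpace X] [QuasiSeparatedSpace X] : LFBound X := by
  have hres : ∀ {X U : Scheme.{u}} (j : U ⟶ X) [IsOpenImmersion j] {F : X.Modules},
      FlatMod.IsFinLocFree F → FlatMod.IsFinLocFree ((Scheme.Modules.restrictFunctor j).obj F) :=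
    fun j _ F hF => H23.PullPush.isFinLocFree_of_iso
      ((Scheme.Modules.restrictFunctorIsoPullback j).app F).symm (isFinLocFree_pullback j hF)
  refine qcqs_induction (Q := LFBound) (fun X _ => ?_) (fun X _ _ U V hUV _ _ hU hV hW => ?_) X
  · let j := X.isoSpec.inv
    obtain ⟨N, hN⟩ := lfBound_spec Γ(X, ⊤)
    refine ⟨N, fun F hF L hL hle φ => rho_map_injective j (Scheme.Hom.opensRange_of_isIso _) φ ?_⟩
    rw [← cancel_epi (((Scheme.Modules.restrictFunctor j).mapDerivedCategorySingleFunctor 0).app F).inv,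
      comp_zero]
    exact hN _ (hres j hF) _ (isQCohD_rho j hL) (isLE_rho j hle) _
  · obtain ⟨NU, hNU⟩ := hU
    obtain ⟨NV, hNV⟩ := hV
    obtain ⟨NW, hNW⟩ := hW
    refine ⟨min NU (min NV (NW - 1)), fun F hF L hL hle φ => ?_⟩
    obtain ⟨a, b, c, h⟩ := exists_mvRpush_triangle U V hUV L
    have hle' : ∀ (O : X.Opens) (n : ℤ), min NU (min NV (NW - 1)) ≤ n → ((rho O.ι).obj L).IsLE n :=
      fun O n hn => isLE_rho O.ι (DerivedCategory.TStructure.t.isLE_of_le L _ n hn)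
    have hz : ∀ (O : X.Opens) (M : DCoh.D (O : Scheme.{u})),
        (∀ ψ : DCoh.inD _ ((Scheme.Modules.restrictFunctor O.ι).obj F) ⟶ M, ψ = 0) →
        ∀ ψ : DCoh.inD X F ⟶ (DCoh.Rpush O.ι).obj M, ψ = 0 := fun O M hM ψ => by
      refine ((adj O.ι).homEquiv _ _).symm.injective ?_
      rw [← cancel_epi (((Scheme.Modules.restrictFunctor O.ι).mapDerivedCategorySingleFunctor 0).app F).inv]
      exact (hM _).trans (hM _).symm
    have ha : φ ≫ a = 0 := biprod.hom_ext _ _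
      (by rw [zero_comp]; exact hz U _ (hNU _ (hres U.ι hF) _ (isQCohD_rho U.ι hL)
        (hle' U _ (min_le_left _ _))) _)
      (by rw [zero_comp]; exact hz V _ (hNV _ (hres V.ι hF) _ (isQCohD_rho V.ι hL)
        (hle' V _ ((min_le_right _ _).trans (min_le_left _ _)))) _)
    obtain ⟨ψ, hψ⟩ := Triangle.coyoneda_exact₂ _ (inv_rot_of_distTriang _ h) φ ha
    let M := (rho (U ⊓ V).ι).obj L
    have h0 : ψ = 0 := by
      change DCoh.inD X F ⟶ ((DCoh.Rpush (U ⊓ V).ι).obj M)⟦(-1 : ℤ)⟧ at ψ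
      let e := (shiftFunctorCompIsoId (DCoh.D X) (-1 : ℤ) 1 (by simp)).hom.app
        ((DCoh.Rpush (U ⊓ V).ι).obj M)
      apply (shiftFunctor (DCoh.D X) (1 : ℤ)).map_injective
      rw [Functor.map_zero, ← cancel_mono e, zero_comp]
      refine ((adj (U ⊓ V).ι).homEquiv _ _).symm.injective ?_
      let s := ((rho (U ⊓ V).ι).commShiftIso (1 : ℤ)).app (DCoh.inD X F)
      let t := (((Scheme.Modules.restrictFunctor (U ⊓ V).ι).mapDerivedCategorySingleFunctor 0).app F)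
      have key : ∀ θ : (DCoh.inD _ ((Scheme.Modules.restrictFunctor (U ⊓ V).ι).obj F))⟦(1 : ℤ)⟧ ⟶ M,
          θ = 0 := fun θ => by
        let d := (shiftFunctorCompIsoId (DCoh.D (U ⊓ V : X.Opens).toScheme) (1 : ℤ) (-1) (by simp))
        apply (shiftFunctor _ (-1 : ℤ)).map_injective
        rw [Functor.map_zero, ← cancel_epi (d.inv.app _), comp_zero]
        refine hNW _ (hres _ hF) _ (isQCohD_shift (isQCohD_rho _ hL) (-1)) (isLE_shift (NW - 1) (-1) NW
          (hle' _ _ ((min_le_right _ _).trans (min_le_right _ _))) (by omega)) _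
      rw [← cancel_epi (t.inv⟦(1 : ℤ)⟧' ≫ s.inv)]
      exact (key _).trans (key _).symm
    rw [hψ, h0, zero_comp]

end Groth.Agent.DQGen

namespace Groth.Agent.DQGen

open Groth.Agent.KFlatLib

variable {X : Scheme.{u}}

/-- Moving a shift across. -/
lemma eq_zero_of_shift {P E : DCoh.D X} (n m : ℤ) (hnm : n + m = 0) (h : ∀ φ : P ⟶ E⟦m⟧, φ = 0)
    (φ : P⟦n⟧ ⟶ E) : φ = 0 := by
  apply (shiftFunctor _ m).map_injective
  rw [Functor.map_zero, ← cancel_epi ((shiftFunctorCompIsoId (DCoh.D X) n m hnm).inv.app P), comp_zero]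
  exact h _

/-- Eventual vanishing into the middle and the ends of a triangle. -/
lemma eventually_iff {P : DCoh.D X} {A E B : DCoh.D X} (f : A ⟶ E) (g : E ⟶ B) (d : B ⟶ A⟦(1 : ℤ)⟧)
    (hT : Triangle.mk f g d ∈ distTriang _) (S : ℤ → Prop)
    (h₁ : ∀ i, S i → ∀ φ : P⟦-i⟧ ⟶ A, φ = 0) (h₂ : ∀ i, S i → ∀ φ : P⟦-i⟧ ⟶ A⟦(1 : ℤ)⟧, φ = 0) (i : ℤ)
    (hi : S i) : (∀ φ : P⟦-i⟧ ⟶ E, φ = 0) ↔ (∀ φ : P⟦-i⟧ ⟶ B, φ = 0) := by
  refine ⟨fun h φ => ?_, fun h φ => ?_⟩
  · obtain ⟨χ, hχ⟩ := Triangle.coyoneda_exact₃ _ hT φ (h₂ i hi _)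
    rw [hχ, h χ, zero_comp]
  · obtain ⟨χ, hχ⟩ := Triangle.coyoneda_exact₂ _ hT φ (h _)
    rw [hχ, h₁ i hi χ, zero_comp]

/-- The truncation in a triangle, in high degrees. -/
lemma isZero_of_trunc {L A B : DCoh.D X} (b : ℤ) (hA : A.IsLE b) (f : A ⟶ L) (g : L ⟶ B)
    (h : B ⟶ A⟦(1 : ℤ)⟧) (hT : Triangle.mk f g h ∈ distTriang _) (i : ℤ) (hi : b + 1 ≤ i)
    (hL : IsZero (DCoh.HD L i)) : IsZero (DCoh.HD B i) := by
  haveI : (A⟦(1 : ℤ)⟧).IsLE (b - 1) := isLE_shift b 1 (b - 1) hA (by omega)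
  exact (DerivedCategory.HomologySequence.exact₂ _ (rot_of_distTriang _ hT) i).isZero_of_both_zeros
    (hL.eq_of_src _ _) ((DerivedCategory.isZero_of_isLE (A⟦(1 : ℤ)⟧) (b - 1) i (by omega)).eq_of_tgt _ _)

end Groth.Agent.DQGen
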