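import Groth.Agent.DQGen.Generator
import Groth.Prelude.Def_PerfAux

/-!
# Compact objects are the perfect ones
-/

set_option backward.isDefEq.respectTransparency false

universe u w

open CategoryTheory CategoryTheory.Limits AlgebraicGeometry Pretriangulated TopologicalSpace ZeroObject

attribute [local instance] HasDerivedCategory.standard

namespace Groth.Agent.DQGen

open Groth.Agent.KFlatLib

section Hom

variable {D : Type*} [Category D] [Preadditive D] {K : D} {ι : Type w} (N : ι → D) [HasCoproduct N]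

lemma homSum_of [DecidableEq ι] (i : ι) (g : K ⟶ N i) :
    PerfAux.homSumToHomCoprod K N (DirectSum.of _ i g) = g ≫ Sigma.ι N i := by
  rw [Subsingleton.elim (inferInstanceAs (DecidableEq ι)) (Classical.decEq ι)]
  simp [PerfAux.homSumToHomCoprod, Preadditive.rightComp]

lemma bijective_homSum_of_fixAt (h : FixAt N K) : Function.Bijective (PerfAux.homSumToHomCoprod K N) := by
  classical
  refine ⟨(injective_iff_map_eq_zero _).2 fun x hx => ?_, fun φ => ?_⟩
  · ext j
    have key : ∀ y, PerfAux.homSumToHomCoprod K N y ≫ TriCat.coprodProj N j = y j := fun y => by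
      induction y using DirectSum.induction_on with
      | zero => simp
      | of i g =>
        rw [homSum_of, Category.assoc]
        by_cases hij : i = j
        · subst hij
          simp [TriCat.ι_coprodProj_self]
        · rw [TriCat.ι_coprodProj_ne hij, comp_zero, DirectSum.of_eq_of_ne _ _ _ (Ne.symm hij)]
      | add a b ha hb => rw [map_add, Preadditive.add_comp, ha, hb]; rfl
    rw [← key x, hx, zero_comp]
    rfl
  · obtain ⟨F, hF⟩ := h φ
    refine ⟨∑ i ∈ F, DirectSum.of _ i (φ ≫ TriCat.coprodProj N i), ?_⟩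
    rw [map_sum]
    simp only [homSum_of, Category.assoc]
    rw [← Preadditive.comp_sum, ← partProj_eq_sum]
    exact hF

lemma fixAt_of_bijective_homSum (h : Function.Bijective (PerfAux.homSumToHomCoprod K N)) : FixAt N K := by
  classical
  intro φ
  obtain ⟨x, rfl⟩ := h.2 φ
  induction x using DirectSum.induction_on with
  | zero => exact ⟨∅, by simp⟩
  | of i g =>
    exact ⟨{i}, by rw [homSum_of, Category.assoc, ι_partProj_mem N (Finset.mem_singleton_self i)]⟩
  | add a b ha hb =>
    obtain ⟨F, hF⟩ := ha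
    obtain ⟨G, hG⟩ := hb
    exact ⟨F ∪ G, by rw [map_add, Preadditive.add_comp, fix_mono Finset.subset_union_left hF,
      fix_mono Finset.subset_union_right hG]⟩

end Hom

variable {X : Scheme.{u}} [CompactSpace X] [QuasiSeparatedSpace X]

/-- Retracts of perfect objects are perfect. -/
lemma isPerfect_of_retract {K R : DCoh.D X} (i : K ⟶ R) (r : R ⟶ K) (h : i ≫ r = 𝟙 K)
    (hR : DCoh.IsPerfect R) : DCoh.IsPerfect K := by
  obtain ⟨L, b, c, hT⟩ := distinguished_cocone_triangle i
  have hc : c = 0 := by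
    have h0 : c ≫ i⟦(1 : ℤ)⟧' = 0 := comp_distTriang_mor_zero₃₁ _ hT
    have := congrArg (· ≫ r⟦(1 : ℤ)⟧') h0
    simp only [Category.assoc, zero_comp, ← Functor.map_comp, h] at this
    simpa using this
  obtain ⟨e, -, -⟩ := exists_iso_binaryBiproduct_of_distTriang _ hT hc
  exact (isPerfect_iff _).2 (locSP_summand _ _ (((isPerfect_iff _).1 hR).of_iso e)).1

/-- Compact objects of `PQ W` are perfect, and conversely. -/
theorem isCompactObjRel_iff {W : X.Opens} (hW : IsCompact (W : Set X)) {P' : DCoh.D X → Prop}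
    (hP' : ∀ L, P' L ↔ PQ W L) {K : DCoh.D X} (hK : PQ W K) :
    PerfAux.IsCompactObjRel.{u} P' K ↔ DCoh.IsPerfect K := by
  refine ⟨fun h => ?_, fun h J M _ hM =>
    bijective_homSum_of_fixAt M (fixAt_of_isPerfect h M fun j => ((hP' _).1 (hM j)).1)⟩
  obtain ⟨P, hP, hdet⟩ := hasDetector X W hW
  have hc : CompactFor.{u} (𝟭 (DCoh.D X)) (PQ W) K := by
    refine ⟨fun J M _ hM φ => fixAt_of_bijective_homSum M (h J M fun j => (hP' _).2 (hM j)) φ,
      fun M _ hM φ => ?_⟩
    exact ((fixAt_of_bijective_homSum (fun j : ULift.{u} ℕ => M j.down)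
      (h _ _ fun j => (hP' _).2 (hM _))).reindex Equiv.ulift fun _ => Iso.refl _) φ
  obtain ⟨R, ψ, g, hR, hψ⟩ := exists_factor_scheme hP hdet hc hK (𝟙 K)
  exact isPerfect_of_retract ψ g hψ.symm hR.1

/-- The statement of generation with all shifts. -/
theorem exists_generator {W : X.Opens} (hW : IsCompact (W : Set X)) :
    ∃ P, PP W P ∧ ∀ E, PQ W E → (IsZero E ↔ ∀ (n : ℤ) (φ : P⟦n⟧ ⟶ E), φ = 0) := by
  obtain ⟨P, hP, hdet⟩ := hasDetector X W hW
  exact ⟨P, hP, fun E hE => ⟨fun h n φ => h.eq_of_tgt _ _,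
    fun h => hdet E hE (eq_zero_of_forall_shift h)⟩⟩

end Groth.Agent.DQGen
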