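import Groth.Agent.DQGen.BrownSmall
import Groth.Agent.DQGen.Compact
import Groth.Agent.KFlatLib.Scheme.RpushCoprodQCoh
import Groth.Agent.KFlatLib.Scheme.RpushTriangle

/-!
# Right adjoints out of `D_QCoh`
-/

set_option backward.isDefEq.respectTransparency false

universe u

open CategoryTheory CategoryTheory.Limits AlgebraicGeometry Pretriangulated ZeroObject

attribute [local instance] HasDerivedCategory.standard

namespace Groth.Agent.DQGen

open Groth.Agent.KFlatLib

variable {X Y : Scheme.{u}}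

instance isClosedUnderIso_isQCohD : (DCoh.IsQCohD (X := X)).IsClosedUnderIsomorphisms where
  of_iso e h := isQCohD_of_iso e h

instance isTriangulated_isQCohD : (DCoh.IsQCohD (X := X)).IsTriangulated where
  exists_zero := ⟨0, isZero_zero _, isQCohD_of_isZero (isZero_zero _)⟩
  isStableUnderShiftBy n := ⟨fun _ hK => isQCohD_shift hK n⟩
  toIsTriangulatedClosed₂ := .mk' fun _ hT h₁ h₃ => isQCohD_obj₂ hT h₁ h₃

instance isClosedUnderSums_isQCohD (J : Type u) :
    (DCoh.IsQCohD (X := X)).IsClosedUnderColimitsOfShape (Discrete J) := by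
  refine ObjectProperty.IsClosedUnderColimitsOfShape.mk' ?_
  rintro _ ⟨F, hF⟩
  haveI := hasSmallSums_D (X := X) J
  exact isQCohD_of_iso (HasColimit.isoOfNatIso (Discrete.natIsoFunctor (F := F))).symm
    (isQCohD_sigma (fun j => F.obj ⟨j⟩) fun j => hF ⟨j⟩)

instance hasSums_DQCoh : HasCoproducts.{u} (DCoh.DQCoh (X := X)) := fun J =>
  haveI := hasSmallSums_D (X := X) J
  inferInstance

instance locallySmall_DQCoh : LocallySmall.{u} (DCoh.DQCoh (X := X)) := ⟨fun A B => by
  haveI : Small.{u} (A.obj ⟶ B.obj) := LocallySmall.hom_small _ _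
  exact small_of_injective (f := fun g : A ⟶ B => g.hom) fun a b h =>
    ObjectProperty.hom_ext _ h⟩

/-- The inclusion preserves small sums. -/
instance preservesSums_ι (J : Type u) :
    PreservesColimitsOfShape (Discrete J) (DCoh.IsQCohD (X := X)).ι :=
  haveI := hasSmallSums_D (X := X) J
  preservesColimitOfShape_of_createsColimitsOfShape_and_hasColimitsOfShape _

variable [CompactSpace X] [QuasiSeparatedSpace X]

/-- A perfect generator of `D_QCoh`, countably perfect with its shifts. -/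
lemma exists_generator_DQCoh : ∃ E : PUnit.{u + 1} → DCoh.DQCoh (X := X),
    (∀ A, (∀ (p : PUnit.{u + 1} × ℤ) (f : TriCat.shiftClosure E p ⟶ A), f = 0) → IsZero A) ∧
      ∀ [HasColimitsOfShape (Discrete ℕ) (DCoh.DQCoh (X := X))], TriCat.CountPerfect E := by
  classical
  let ι' := (DCoh.IsQCohD (X := X)).ι
  obtain ⟨P, hP, hgen⟩ := exists_generator (X := X) (W := ⊥) (by simp)
  refine ⟨fun _ => ⟨P, hP.pq.1⟩, fun A hA => ?_, ?_⟩
  · have h0 := (hgen A.obj ((pq_bot_iff A.obj).2 A.property)).2 fun n φ => by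
      let e := (ι'.commShiftIso n).app ⟨P, hP.pq.1⟩
      obtain ⟨g, hg⟩ := ι'.map_surjective (e.hom ≫ φ)
      rw [hA ⟨PUnit.unit, n⟩ g, ι'.map_zero] at hg
      rw [← cancel_epi e.hom, ← hg, comp_zero]
    exact IsZero.of_full_of_faithful_of_isZero ι' A h0
  · intro _ M i α
    haveI : HasColimitsOfShape (Discrete ℕ) (DCoh.D X) := hasNatSums_D
    haveI : PreservesColimitsOfShape (Discrete ℕ) ι' :=
      preservesColimitsOfShape_of_equiv
        (Discrete.equivalence (Equiv.ulift.{u} : ULift.{u} ℕ ≃ ℕ)) ι'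
    obtain ⟨s, hs⟩ := fixAt_of_isPerfect_nat hP.1 (fun k => (M k).obj) (fun k => (M k).property)
      (ι'.map α ≫ inv (sigmaComparison ι' M))
    have hα : α ≫ partProj M s = α := by
      apply ι'.map_injective
      rw [← cancel_mono (inv (sigmaComparison ι' M)), Functor.map_comp, Category.assoc]
      refine Eq.trans ?_ hs
      rw [Category.assoc]
      congr 1
      rw [IsIso.comp_inv_eq, Category.assoc]
      erw [← sigmaComparison_partProj M ι' s]
      rw [IsIso.inv_hom_id_assoc]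
    refine ⟨fun _ => i, fun k => α ≫ TriCat.coprodProj M k,
      ∑ k ∈ s, Sigma.ι (fun _ : ℕ => (⟨P, hP.pq.1⟩ : DCoh.DQCoh (X := X))) k, ?_⟩
    conv_lhs => rw [← hα, partProj_eq_sum]
    simp [Preadditive.sum_comp, Preadditive.comp_sum]

/-- Exact sum-preserving functors out of `D_QCoh` have right adjoints. -/
theorem isLeftAdjoint_of_preservesSums {D' : Type (u + 1)} [Category.{u + 1} D'] [Preadditive D']
    [HasZeroObject D'] [HasShift D' ℤ] [∀ n : ℤ, (shiftFunctor D' n).Additive] [Pretriangulated D']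
    [LocallySmall.{u} D'] (F : DCoh.DQCoh (X := X) ⥤ D') [F.CommShift ℤ] [F.IsTriangulated]
    [∀ J : Type u, PreservesColimitsOfShape (Discrete J) F] : F.IsLeftAdjoint := by
  obtain ⟨E, h1, h2⟩ := exists_generator_DQCoh (X := X)
  exact Brown.isLeftAdjoint_of_generators E h1 h2 F

theorem isLeftAdjoint_ι : (DCoh.IsQCohD (X := X)).ι.IsLeftAdjoint :=
  isLeftAdjoint_of_preservesSums _

omit [CompactSpace X] [QuasiSeparatedSpace X] in
/-- `Rf_*` on `D_QCoh` preserves small sums. -/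
lemma preservesSums_ι_rpush [CompactSpace X] [QuasiSeparatedSpace X] [QuasiSeparatedSpace Y]
    (f : X ⟶ Y) [DCoh.HasRpush f] (J : Type u) :
    PreservesColimitsOfShape (Discrete J) ((DCoh.IsQCohD (X := X)).ι ⋙ DCoh.Rpush f) := by
  haveI := hasSmallSums_D (X := X) J
  haveI := hasSmallSums_D (X := Y) J
  refine ⟨fun {K} => ?_⟩
  let ι' := (DCoh.IsQCohD (X := X)).ι
  let C : J → DCoh.D X := fun j => (K.obj ⟨j⟩).obj
  haveI : IsIso (sigmaComparison (DCoh.Rpush f) C) :=
    isIso_sigmaDesc_rpush f C fun j => (K.obj ⟨j⟩).property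
  haveI : PreservesColimit (Discrete.functor ((K ⋙ ι').obj ∘ Discrete.mk)) (DCoh.Rpush f) :=
    PreservesCoproduct.of_iso_comparison (DCoh.Rpush f) C
  haveI : PreservesColimit (K ⋙ ι') (DCoh.Rpush f) :=
    preservesColimit_of_iso_diagram _ (Discrete.natIsoFunctor (F := K ⋙ ι')).symm
  exact comp_preservesColimit ι' (DCoh.Rpush f)

/-- `Rf_*` on `D_QCoh` has a right adjoint with values in `D_QCoh`. -/
theorem isLeftAdjoint_ι_rpush [QuasiSeparatedSpace Y] (f : X ⟶ Y) [DCoh.HasRpush f] :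
    ((DCoh.IsQCohD (X := X)).ι ⋙ DCoh.Rpush f).IsLeftAdjoint := by
  haveI := TriCat.qh_isLeftAdjoint_of_exists_resolution (A := X.Modules) exists_kInjective_res
  let adjQ := Adjunction.ofIsLeftAdjoint (DerivedCategory.Qh (C := X.Modules))
  let ρ := (DerivedCategory.Qh (C := X.Modules)).rightAdjoint
  let W := HomotopyCategory.quasiIso X.Modules (ComplexShape.up ℤ)
  haveI : (ρ ⋙ DCoh.pushKh f).IsRightDerivedFunctor
      (Functor.whiskerRight adjQ.unit (DCoh.pushKh f)) W :=
    TriCat.isRightDerivedFunctor_of_adjunction adjQ W (DCoh.pushKh f)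
  let e : ρ ⋙ DCoh.pushKh f ≅ DCoh.Rpush f :=
    Functor.rightDerivedUnique _ _ (Functor.whiskerRight adjQ.unit (DCoh.pushKh f))
      ((DCoh.pushKh f).totalRightDerivedUnit DerivedCategory.Qh W) W
  letI := adjQ.rightAdjointCommShift ℤ
  haveI := adjQ.commShift_of_leftAdjoint ℤ
  haveI : ρ.IsTriangulated := adjQ.isTriangulated_rightAdjoint
  let e' : (DCoh.IsQCohD (X := X)).ι ⋙ ρ ⋙ DCoh.pushKh f ≅
      (DCoh.IsQCohD (X := X)).ι ⋙ DCoh.Rpush f := Functor.isoWhiskerLeft _ e
  haveI : ∀ J : Type u, PreservesColimitsOfShape (Discrete J)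
      ((DCoh.IsQCohD (X := X)).ι ⋙ ρ ⋙ DCoh.pushKh f) := fun J =>
    haveI := preservesSums_ι_rpush f J
    preservesColimitsOfShape_of_natIso e'.symm
  haveI := isLeftAdjoint_of_preservesSums ((DCoh.IsQCohD (X := X)).ι ⋙ ρ ⋙ DCoh.pushKh f)
  exact Functor.isLeftAdjoint_of_iso e'

theorem isLeftAdjoint_lift_rpush [QuasiSeparatedSpace Y] (f : X ⟶ Y) [DCoh.HasRpush f]
    (h : ∀ K : DCoh.D X, DCoh.IsQCohD K → DCoh.IsQCohD ((DCoh.Rpush f).obj K)) :
    (ObjectProperty.lift (DCoh.IsQCohD (X := Y)) ((DCoh.IsQCohD (X := X)).ι ⋙ DCoh.Rpush f)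
      (fun K => h K.obj K.property)).IsLeftAdjoint := by
  haveI := isLeftAdjoint_ι_rpush f
  let adj₁ := Adjunction.ofIsLeftAdjoint ((DCoh.IsQCohD (X := X)).ι ⋙ DCoh.Rpush f)
  exact (adj₁.restrictFullyFaithful (Functor.FullyFaithful.id _)
    (ObjectProperty.fullyFaithfulι (DCoh.IsQCohD (X := Y)))
    (L := ObjectProperty.lift (DCoh.IsQCohD (X := Y)) ((DCoh.IsQCohD (X := X)).ι ⋙ DCoh.Rpush f)
      (fun K => h K.obj K.property))
    (R := (DCoh.IsQCohD (X := Y)).ι ⋙ _)
    (Iso.refl _) (Iso.refl _)).isLeftAdjoint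

end Groth.Agent.DQGen
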