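import Groth.Agent.DQGen.Generator

/-!
# Lifting maps out of perfect objects with support
-/

set_option backward.isDefEq.respectTransparency false

universe u

open CategoryTheory CategoryTheory.Limits AlgebraicGeometry Pretriangulated TopologicalSpace ZeroObject

attribute [local instance] HasDerivedCategory.standard

namespace Groth.Agent.DQGen

open Groth.Agent.KFlatLib

variable {X : Scheme.{u}} [CompactSpace X] [QuasiSeparatedSpace X]

/-- Maps from supported perfect objects on an open lift, up to a summand. -/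
theorem exists_lift_support (U W : X.Opens) (hU : IsCompact (U : Set X)) (hW : IsCompact (W : Set X))
    {E : DCoh.D X} (hE : DCoh.IsQCohD E) {P : DCoh.D (U : Scheme.{u})} (hP : DCoh.IsPerfect P)
    (hPW : IsZero ((rho (U.ι ⁻¹ᵁ W).ι).obj P)) (α : P ⟶ (rho U.ι).obj E) :
    ∃ (R : DCoh.D X) (β : R ⟶ E) (i : P ⟶ (rho U.ι).obj R) (p : (rho U.ι).obj R ⟶ P),
      PP W R ∧ i ≫ p = 𝟙 P ∧ i ≫ (rho U.ι).map β = α := by
  haveI : CompactSpace (U : Scheme.{u}) := compactSpace_opens hU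
  haveI : CompactSpace (W : Scheme.{u}) := compactSpace_opens hW
  haveI : QuasiSeparatedSpace (U : Scheme.{u}) := quasiSeparatedSpace_of_imm U.ι
  obtain ⟨G, g, c, hT⟩ := distinguished_cocone_triangle₁ ((adj W.ι).unit.app E)
  have hG : PQ W G := by
    refine ⟨isQCohD_obj₁ hT hE (isQCohD_rpush W.ι (isQCohD_rho W.ι hE)), ?_⟩
    have hrot := rot_of_distTriang _ hT
    have h := isZero_rho_cone_unit W.ι _ _ hrot
    exact (Functor.map_isZero (shiftFunctor _ (-1 : ℤ)) h).of_iso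
      ((rho W.ι).mapIso ((shiftFunctorCompIsoId (DCoh.D X) (1 : ℤ) (-1) (by simp)).app G).symm ≪≫
        ((rho W.ι).commShiftIso (-1 : ℤ)).app _)
  obtain ⟨eR⟩ := nonempty_rpush_restrictD_iso W.ι U
  have hz : α ≫ (rho U.ι).map ((adj W.ι).unit.app E) = 0 := by
    rw [← cancel_mono ((eR.app ((rho W.ι).obj E)).hom), zero_comp]
    refine eq_zero_of_restrict_isZero (W.ι ∣_ U) (isZero_rho_of_range_le (U.ι ⁻¹ᵁ W).ι _ ?_ hPW) _
    rw [Scheme.Opens.opensRange_ι]
    rintro y ⟨x, rfl⟩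
    change U.ι.base ((W.ι ∣_ U).base x) ∈ W
    rw [← Scheme.Hom.comp_apply, morphismRestrict_ι, Scheme.Hom.comp_apply]
    exact ((W.ι ⁻¹ᵁ U).ι.base x).2
  obtain ⟨α', hα'⟩ := Triangle.coyoneda_exact₂ _ ((rho U.ι).map_distinguished _ hT) α hz
  change P ⟶ (rho U.ι).obj G at α'
  change α = α' ≫ (rho U.ι).map g at hα'
  obtain ⟨Q, hQ, hdet⟩ := hasDetector X W hW
  obtain ⟨R, ψ, h, hR, hψ⟩ := exists_factor_scheme hQ hdet (F := rho U.ι)
    (compactFor_of_isPerfect U.ι W hP) hG α'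
  obtain ⟨R₀, ψ₀, h₀, hR₀, hψ₀⟩ := exists_factor_scheme hQ hdet (F := rho U.ι)
    (compactFor_of_isPerfect U.ι W hP) (pq_rpush U.ι W (isQCohD_of_isPerfect hP) hPW)
    (restrictPushIso U.ι P).inv
  refine ⟨R ⊞ R₀, biprod.fst ≫ h ≫ g,
    ψ ≫ (rho U.ι).map biprod.inl + ψ₀ ≫ (rho U.ι).map biprod.inr,
    (rho U.ι).map (biprod.snd ≫ h₀) ≫ (restrictPushIso U.ι P).hom, prop_biprod _ hR hR₀, ?_, ?_⟩
  · rw [Preadditive.add_comp, Category.assoc, Category.assoc, ← Functor.map_comp_assoc,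
      ← Functor.map_comp_assoc, biprod.inl_snd_assoc, biprod.inr_snd_assoc, zero_comp, Functor.map_zero,
      zero_comp, comp_zero, zero_add, ← Category.assoc, ← hψ₀, Iso.inv_hom_id]
  · rw [Preadditive.add_comp, Category.assoc, Category.assoc, ← Functor.map_comp, ← Functor.map_comp,
      biprod.inl_fst_assoc, biprod.inr_fst_assoc, zero_comp, Functor.map_zero, comp_zero, add_zero,
      Functor.map_comp, ← Category.assoc, ← hψ, ← hα']

end Groth.Agent.DQGen
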