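import Groth.Agent.DQGen.KoszulFactor
import Groth.Agent.DQGen.Compact
import Groth.Agent.DQGen.LiftSupport
import Groth.Agent.KFlatLib.Scheme.TildePC

/-!
# Approximation by perfect complexes
-/

set_option backward.isDefEq.respectTransparency false

universe w v u

open CategoryTheory CategoryTheory.Limits AlgebraicGeometry Pretriangulated TopologicalSpace ZeroObject

attribute [local instance] HasDerivedCategory.standard

namespace Groth.Agent.DQGen

open Groth.Agent.KFlatLib DerivedCategory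

section General

variable {C : Type u} [Category.{v} C] [Abelian C]

local notation "H" => DerivedCategory.homologyFunctor C

variable {T : Triangle (DerivedCategory C)} (hT : T ∈ distTriang _)
include hT

lemma isPcMap_of_isZero_obj₃ (m : ℤ) (h : ∀ i, m ≤ i → IsZero ((H i).obj T.obj₃)) :
    IsPcMap m T.mor₁ :=
  ⟨fun i hi => isIso_mor₁_of_isZero hT i (h _ (by omega)) (h i hi.le),
    (HomologySequence.epi_homologyMap_mor₁_iff _ hT m).2 ((h m le_rfl).eq_of_tgt _ _)⟩

lemma isZero_obj₃_of_isPcMap {m : ℤ} (h : IsPcMap m T.mor₁) (i : ℤ) (hi : m ≤ i) :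
    IsZero ((H i).obj T.obj₃) := by
  haveI := h.1 (i + 1) (by omega)
  haveI : Epi ((H i).map T.mor₁) := by
    rcases eq_or_lt_of_le hi with rfl | hlt
    · exact h.2
    · haveI := h.1 i hlt
      infer_instance
  exact (HomologySequence.exact₃ _ hT i (i + 1)).isZero_of_both_zeros
    ((HomologySequence.epi_homologyMap_mor₁_iff _ hT i).1 inferInstance)
    ((HomologySequence.mono_homologyMap_mor₁_iff _ hT i (i + 1)).1 inferInstance)

lemma isZero_obj₃_of_both (i : ℤ) (h₂ : IsZero ((H i).obj T.obj₂))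
    (h₁ : IsZero ((H (i + 1)).obj T.obj₁)) : IsZero ((H i).obj T.obj₃) :=
  (HomologySequence.exact₃ _ hT i (i + 1)).isZero_of_both_zeros (h₂.eq_of_src _ _) (h₁.eq_of_tgt _ _)

end General

variable {X : Scheme.{u}}

/-- There is a map to an object without cohomology in degrees `≥ m`, with cone perfect and supported off `W`. -/
def Killed (W : X.Opens) (m : ℤ) (E : DCoh.D X) : Prop :=
  ∃ (D C : DCoh.D X) (g : E ⟶ D) (b : D ⟶ C) (c : C ⟶ E⟦(1 : ℤ)⟧),
    Triangle.mk g b c ∈ distTriang _ ∧ PP W C ∧ ∀ i, m ≤ i → IsZero (DCoh.HD D i)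

variable {W : X.Opens} {m : ℤ}

lemma killed_of_isZero {E : DCoh.D X} (h : ∀ i, m ≤ i → IsZero (DCoh.HD E i)) : Killed W m E := by
  exact ⟨E, 0, 𝟙 E, 0, 0, contractible_distinguished E,
    ⟨isPerfect_of_isZero (isZero_zero _), Functor.map_isZero _ (isZero_zero _)⟩, h⟩

lemma killed_of_pcMap {E P : DCoh.D X} (α : P ⟶ E) (hP : PP W P) (hα : IsPcMap m α) : Killed W m E := by
  obtain ⟨D, g, d, hT⟩ := distinguished_cocone_triangle α
  exact ⟨D, P⟦(1 : ℤ)⟧, g, d, _, rot_of_distTriang _ hT, (PP W).le_shift (1 : ℤ) _ hP,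
    isZero_obj₃_of_isPcMap hT hα⟩

lemma Killed.exists_pcMap {E : DCoh.D X} (h : Killed W m E) :
    ∃ (P : DCoh.D X) (α : P ⟶ E), PP W P ∧ IsPcMap m α := by
  obtain ⟨D, C, g, b, c, hT, hC, hD⟩ := h
  exact ⟨_, _, (PP W).le_shift (-1 : ℤ) _ hC, isPcMap_of_isZero_obj₃ (inv_rot_of_distTriang _ hT) m hD⟩

lemma Killed.of_step {E E' C : DCoh.D X} (f : E ⟶ E') (b : E' ⟶ C) (c : C ⟶ E⟦(1 : ℤ)⟧)
    (hT : Triangle.mk f b c ∈ distTriang _) (hC : PP W C) (h : Killed W m E') : Killed W m E := by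
  obtain ⟨D, C', g, b', c', hT', hC', hD⟩ := h
  obtain ⟨C'', b'', c'', hT''⟩ := distinguished_cocone_triangle (f ≫ g)
  exact ⟨D, C'', f ≫ g, b'', c'', hT'',
    ObjectProperty.ext_of_isTriangulatedClosed₂ _ _ (Triangulated.someOctahedron rfl hT hT' hT'').mem hC hC', hD⟩

lemma Killed.mono {W' : X.Opens} (hW : W ≤ W') {E : DCoh.D X} (h : Killed W' m E) : Killed W m E := by
  obtain ⟨D, C, g, b, c, hT, hC, hD⟩ := h
  exact ⟨D, C, g, b, c, hT, ⟨hC.1, isZero_rho_of_le hW hC.2⟩, hD⟩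

lemma Killed.of_iso {E E' : DCoh.D X} (e : E ≅ E') (h : Killed W m E) : Killed W m E' := by
  obtain ⟨P, α, hP, hα⟩ := h.exists_pcMap
  exact killed_of_pcMap (α ≫ e.hom) hP (IsPcMap.comp hα (isPcMap_of_isIso m _))

lemma subsingleton_stalk_rho_iff {U : Scheme.{u}} (j : U ⟶ X) [IsOpenImmersion j] (E : DCoh.D X)
    (i : ℤ) (y : U) :
    Subsingleton ((DCoh.HD ((rho j).obj E) i).presheaf.stalk y) ↔
      Subsingleton ((DCoh.HD E i).presheaf.stalk (j.base y)) :=
  (((Scheme.Modules.toPresheaf U ⋙ TopCat.Presheaf.stalkFunctor _ y).mapIso (restrictHDIso j E i)) ≪≫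
    (Scheme.Modules.restrictStalkNatIso j y).app _).addCommGroupIsoToAddEquiv.toEquiv.subsingleton_congr

lemma isZero_HD_of_stalks {E : DCoh.D X} {O : X.Opens} {i : ℤ}
    (h : CohB1.support (DCoh.HD E i) ⊆ (O : Set X)ᶜ) : IsZero (DCoh.HD ((rho O.ι).obj E) i) := by
  refine isZero_of_stalk _ fun y => ?_
  haveI := (subsingleton_stalk_rho_iff O.ι E i y).2 (not_not.1 fun hne => h hne y.2)
  exact @ModuleCat.isZero_of_subsingleton _ _ _ this

lemma support_subset_of_isZero_HD {E : DCoh.D X} {O : X.Opens} {i : ℤ}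
    (h : IsZero (DCoh.HD ((rho O.ι).obj E) i)) : CohB1.support (DCoh.HD E i) ⊆ (O : Set X)ᶜ :=
  fun _ hx hxO => hx (ModuleCat.subsingleton_of_isZero (isZero_stalk_of_restrict O.ι ⟨_, hxO⟩
    ((DerSch.stalkFunctor _ _).map_isZero (h.of_iso (restrictHDIso O.ι E i).symm))))

/-- An approximation on an open containing the support extends. -/
theorem killed_extend {U : Scheme.{u}} (j : U ⟶ X) [IsOpenImmersion j] (O : X.Opens)
    (hjO : j.opensRange ⊔ O = ⊤)
    (hpush : ∀ P : DCoh.D U, PP (j ⁻¹ᵁ O) P → DCoh.IsPerfect ((DCoh.Rpush j).obj P))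
    {E : DCoh.D X} (hs : ∀ i, m ≤ i → CohB1.support (DCoh.HD E i) ⊆ (O : Set X)ᶜ)
    (h : Killed (j ⁻¹ᵁ O) m ((rho j).obj E)) : Killed O m E := by
  obtain ⟨P, α, hP, hα⟩ := h.exists_pcMap
  let R := (DCoh.Rpush j).obj P
  have hR : PP O R := ⟨hpush P hP, isZero_rho_rpush j O hP.2⟩
  obtain ⟨K, b, c, hT⟩ := distinguished_cocone_triangle ((adj j).unit.app E)
  let t : (rho j).obj R ⟶ (rho j).obj E := (restrictPushIso j P).hom ≫ α
  let φ := (adj j).homEquiv R _ t
  have h0 : φ ≫ b = 0 := by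
    have hK : IsZero ((rho j.opensRange.ι).obj K) :=
      isZero_rho_of_range_le j _ (by rw [Scheme.Opens.opensRange_ι]) (isZero_rho_cone_unit j b c hT)
    haveI := isIso_unit O.ι j.opensRange (by rw [Scheme.Opens.opensRange_ι, sup_comm]; exact hjO) hK
    rw [← cancel_mono ((adj O.ι).unit.app K), zero_comp]
    exact eq_zero_of_restrict_isZero O.ι hR.2 _
  obtain ⟨α', hα'⟩ := Triangle.coyoneda_exact₂ _ hT φ h0
  change φ = α' ≫ (adj j).unit.app E at hα'
  have hrho : (rho j).map α' = t := by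
    apply ((adj j).homEquiv R _).injective
    rw [Adjunction.homEquiv_unit]
    exact ((adj j).unit.naturality α').symm.trans hα'.symm
  obtain ⟨D, g, d, hT'⟩ := distinguished_cocone_triangle α'
  refine ⟨D, R⟦(1 : ℤ)⟧, g, d, _, rot_of_distTriang _ hT', (PP O).le_shift (1 : ℤ) _ hR, fun i hi => ?_⟩
  refine isZero_of_stalk _ fun x => ?_
  rcases Opens.mem_sup.1 (show x ∈ j.opensRange ⊔ O by rw [hjO]; trivial) with hx | hx
  · obtain ⟨y, rfl⟩ := hx
    refine isZero_stalk_of_restrict j y ((DerSch.stalkFunctor _ _).map_isZero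
      (IsZero.of_iso ?_ (restrictHDIso j D i).symm))
    refine isZero_obj₃_of_isPcMap ((rho j).map_distinguished _ hT') ?_ i hi
    change IsPcMap m ((rho j).map α')
    rw [hrho]
    exact IsPcMap.comp (isPcMap_of_isIso m _) hα
  · refine isZero_stalk_of_restrict O.ι ⟨x, hx⟩ ((DerSch.stalkFunctor _ _).map_isZero
      (IsZero.of_iso ?_ (restrictHDIso O.ι D i).symm))
    exact isZero_obj₃_of_both ((rho O.ι).map_distinguished _ hT') i (isZero_HD_of_stalks (hs i hi))
      (Functor.map_isZero _ hR.2)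

lemma isPerfect_rpush_cover (V O : X.Opens) (hVO : V ⊔ O = ⊤) (P : DCoh.D (V : Scheme.{u}))
    (hP : PP (V.ι ⁻¹ᵁ O) P) : DCoh.IsPerfect ((DCoh.Rpush V.ι).obj P) := by
  refine isPerfect_rpush_of_support V P hP.1 (((V.ι ⁻¹ᵁ O : V.toScheme.Opens) : Set V.toScheme)ᶜ) ?_
    ((isZero_rho_iff_support _ P).1 hP.2)
  have : (fun x : (V : Scheme.{u}) => V.ι.base x) '' ((V.ι ⁻¹ᵁ O : V.toScheme.Opens) : Set V.toScheme)ᶜ =
      (O : Set X)ᶜ := by
    ext x
    constructor
    · rintro ⟨y, hy, rfl⟩; exact hy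
    · intro hx
      have hxV : x ∈ V := by
        rcases Opens.mem_sup.1 (show x ∈ V ⊔ O by rw [hVO]; trivial) with h | h
        · exact h
        · exact absurd h hx
      exact ⟨⟨x, hxV⟩, hx, rfl⟩
  rw [this]
  exact O.2.isClosed_compl

section Spec

variable {R : CommRingCat.{u}}

/-- Approximation on an affine scheme. -/
theorem killed_spec [PreservesFiniteLimits (tilde.functor R)] (l : List R) (W : (Spec R).Opens)
    (hW : ∀ x : Spec R, x ∈ W → ∃ f ∈ l, x ∈ PrimeSpectrum.basicOpen f) (m : ℤ) :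
    ∀ (N : DerivedCategory (ModuleCat.{u} R)), LocPC m ((DCoh.tildeD R).obj N) →
      (∀ f ∈ l, ∀ i : ℤ, m - (l.length : ℤ) + 1 ≤ i → TorsAt f N i) →
      Killed W m ((DCoh.tildeD R).obj N) := by
  haveI := additive_tilde R
  haveI := pfc_tilde R
  let H := DerivedCategory.homologyFunctor (ModuleCat.{u} R)
  suffices key : ∀ (k : ℕ) (N : DerivedCategory (ModuleCat.{u} R)),
      (∀ i, m + k ≤ i → IsZero ((H i).obj N)) → LocPC m ((DCoh.tildeD R).obj N) →
      (∀ f ∈ l, ∀ i : ℤ, m - (l.length : ℤ) + 1 ≤ i → TorsAt f N i) →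
      Killed W m ((DCoh.tildeD R).obj N) from fun N hN ht => by
    obtain ⟨b, hb⟩ := exists_homology_bound N hN
    exact key (b - m).toNat N (fun i hi => hb i (by omega)) hN ht
  intro k
  induction k with
  | zero =>
    exact fun N hz _ _ => killed_of_isZero fun i hi =>
      ((tilde.functor R).map_isZero (hz i (by omega))).of_iso ((mapDCHomologyIso (tilde.functor R) i).app N)
  | succ k ih =>
    let b : ℤ := m + k
    suffices gen : ∀ (n : ℕ) (N : DerivedCategory (ModuleCat.{u} R)),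
        (∀ i, b < i → IsZero ((H i).obj N)) → LocPC m ((DCoh.tildeD R).obj N) →
        (∀ f ∈ l, ∀ i : ℤ, m - (l.length : ℤ) + 1 ≤ i → TorsAt f N i) →
        (∃ x : Fin n → (H b).obj N, Submodule.span R (Set.range x) = ⊤) →
        Killed W m ((DCoh.tildeD R).obj N) from fun N hz hN ht => by
      have hz' : ∀ i, b < i → IsZero ((H i).obj N) := fun i hi => hz i (by simp only [b] at hi; omega)
      have hzT : ∀ i, b < i → IsZero (DCoh.HD ((DCoh.tildeD R).obj N) i) := fun i hi =>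
        ((tilde.functor R).map_isZero (hz' i hi)).of_iso ((mapDCHomologyIso (tilde.functor R) i).app N)
      have hFT := isFT_top (hN.mono (show m ≤ b by simp [b])) hzT
      haveI : Module.Finite R ((H b).obj N) :=
        (Groth.Agent.S9826.result R _).1 (isFT_of_iso' ((mapDCHomologyIso (tilde.functor R) b).app N) hFT)
      obtain ⟨n, x, hx⟩ := Module.Finite.exists_fin (R := R) (M := (H b).obj N)
      exact gen n N hz' hN ht ⟨x, hx⟩
    intro n
    induction n with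
    | zero =>
      rintro N hz hN ht ⟨x, hx⟩
      refine ih N (fun i hi => ?_) hN ht
      rcases eq_or_lt_of_le hi with rfl | hlt
      · rw [Set.range_eq_empty x, Submodule.span_empty] at hx
        refine @ModuleCat.isZero_of_subsingleton _ _ _ (subsingleton_of_forall_eq 0 fun y => ?_)
        exact (Submodule.mem_bot R).1 (hx ▸ Submodule.mem_top : y ∈ (⊥ : Submodule R _))
      · exact hz i hlt
    | succ n ihn =>
      rintro N hz hN ht ⟨x, hx⟩
      let S := (DerivedCategory.singleFunctor (ModuleCat.{u} R) b).obj (ModuleCat.of R R)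
      haveI : CategoryTheory.Projective (ModuleCat.of R R) := inferInstance
      obtain ⟨φ₀, hφ₀⟩ := (bijective_psiC_of_projective (P := ModuleCat.of R R) b N).2
        (ModuleCat.ofHom (LinearMap.toSpanSingleton R _ (x 0)))
      let d : S⟦b⟧ ≅ one0 R :=
        ((DerivedCategory.singleFunctors (ModuleCat.{u} R)).shiftIso b 0 b (add_zero b)).app _
      obtain ⟨e, ψ, hψ⟩ := exists_factor_kz l (N⟦b⟧)
        (fun g hg i h₁ h₂ => (ht g hg (b + i) (by simp only [b]; omega)).shift) (d.inv ≫ φ₀⟦b⟧')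
      let K := (kz (pw l e))⟦-b⟧
      let sh := shiftFunctorCompIsoId (DerivedCategory (ModuleCat.{u} R)) b (-b) (by simp)
      let φ : K ⟶ N := ψ⟦-b⟧' ≫ sh.hom.app N
      let θ : S ⟶ K := sh.inv.app S ≫ (d.hom ≫ tz (pw l e))⟦-b⟧'
      have hθ : θ ≫ φ = φ₀ := by
        have h1 : φ₀⟦b⟧' = d.hom ≫ tz (pw l e) ≫ ψ := by rw [hψ, Iso.hom_inv_id_assoc]
        simp only [θ, φ]
        rw [Category.assoc, ← Category.assoc ((d.hom ≫ tz (pw l e))⟦-b⟧'), ← Functor.map_comp,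
          Category.assoc, ← h1]
        have := sh.hom.naturality φ₀
        simp only [Functor.comp_map, Functor.id_map] at this
        rw [this, Iso.inv_hom_id_app_assoc]
      obtain ⟨N', u, v, hT⟩ := distinguished_cocone_triangle φ
      have hTT := (DCoh.tildeD R).map_distinguished _ hT
      have hKz : ∀ i, b < i → IsZero ((H i).obj K) := by
        obtain ⟨ek⟩ := nonempty_koszul_iso (R := R) (pw l e)
        haveI : (Koszul.koszul R (pw l e)).IsStrictlyLE 0 :=
          (CochainComplex.isStrictlyLE_iff _ _).2 fun i hi => (koszul_bounds (R := R) (pw l e)).1 i (Or.inr hi)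
        have h0 : DerivedCategory.IsLE (kz (pw l e)) 0 := TStructure.t.isLE_of_iso ek 0
        haveI : DerivedCategory.IsLE K b := TStructure.t.isLE_shift (kz (pw l e)) 0 (-b) b (by omega)
        exact fun i hi => isZero_of_isLE K b i hi
      have htK : ∀ f ∈ l, ∀ i, TorsAt f K i := fun f hf i => by
        have hfe : Tors (f ^ e) K := (tors_kz (pw l e) (f ^ e) (List.mem_map.2 ⟨f, hf, rfl⟩)).shift (-b)
        intro y
        obtain ⟨a, ha⟩ := hfe i y
        exact ⟨e * a, by rw [pow_mul]; exact ha⟩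
      have hK : PP W ((DCoh.tildeD R).obj K) := by
        have h0 : PP W ((DCoh.tildeD R).obj (kz (pw l e))) := by
          refine ⟨isPerfect_tildeD_kz _, (isZero_rho_iff_support W _).2 fun i y hy hyW => hy ?_⟩
          obtain ⟨f, hf, hyf⟩ := hW y hyW
          have hte : Tors f (kz (pw l e)) := fun j z => by
            obtain ⟨a, ha⟩ := tors_kz (pw l e) (f ^ e) (List.mem_map.2 ⟨f, hf, rfl⟩) j z
            exact ⟨e * a, by rw [pow_mul]; exact ha⟩
          exact (tors_iff_support f _).1 hte i y hyf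
        exact (PP W).prop_of_iso (((DCoh.tildeD R).commShiftIso (-b)).app (kz (pw l e))).symm
          ((PP W).le_shift (-b) _ h0)
      have hN' : LocPC m ((DCoh.tildeD R).obj N') :=
        (locPC_two_of_three m _ hTT).1 (((isPerfect_iff _).1 hK.1).locPC _) hN
      refine Killed.of_step _ _ _ (rot_of_distTriang _ hTT) ((PP W).le_shift (1 : ℤ) _ hK)
        (ihn N' (fun i hi => isZero_obj₃_of_both hT i (hz i hi) (hKz (i + 1) (by omega))) hN'
          (fun f hf i hi => TorsAt.obj₃ hT i (ht f hf i hi) (htK f hf (1 + i)).shift) ?_)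
      -- generators of the new top cohomology
      refine ⟨fun a => (H b).map u (x a.succ), ?_⟩
      haveI : Epi ((H b).map u) := (HomologySequence.epi_homologyMap_mor₂_iff _ hT b (b + 1)).2
        ((hKz (b + 1) (by omega)).eq_of_tgt _ _)
      have hsurj := (ModuleCat.epi_iff_surjective ((H b).map u)).1 inferInstance
      have hx0 : (H b).map u (x 0) = 0 := by
        have h0 : φ₀ ≫ u = 0 := by
          have : φ ≫ u = 0 := comp_distTriang_mor_zero₁₂ _ hT
          rw [← hθ, Category.assoc, this, comp_zero]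
        have h1 := psiC_comp φ₀ u
        rw [h0, hφ₀, show psiC b (ModuleCat.of R R) N' 0 = 0 by
          unfold psiC; rw [Functor.map_zero, comp_zero]] at h1
        have h2 := congrArg (fun t => t.hom (1 : R)) h1
        have h3 : (LinearMap.toSpanSingleton R _ (x 0)) (1 : R) = x 0 := one_smul R (x 0)
        exact (congrArg ((H b).map u) h3).symm.trans h2.symm
      refine top_unique fun y _ => ?_
      obtain ⟨z, rfl⟩ := hsurj y
      have hz' : z ∈ Submodule.span R (Set.range x) := hx ▸ Submodule.mem_top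
      have himg := Submodule.mem_map_of_mem (f := ((H b).map u).hom) hz'
      rw [Submodule.map_span, ← Set.range_comp] at himg
      refine Submodule.span_le.2 ?_ himg
      rintro _ ⟨a, rfl⟩
      rcases Fin.eq_zero_or_eq_succ a with rfl | ⟨a, rfl⟩
      · change (H b).map u (x 0) ∈ _
        rw [hx0]
        exact Submodule.zero_mem _
      · exact Submodule.subset_span ⟨a, rfl⟩

/-- Approximation on an affine scheme, by finitely many functions. -/
theorem killed_affine (Y : Scheme.{u}) [IsAffine Y] (l : List Γ(Y, ⊤)) (W : Y.Opens)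
    (hW : ∀ x : Y, x ∈ W ↔ ∃ f ∈ l, x ∈ Y.basicOpen f) (m : ℤ) (E : DCoh.D Y) (hE : DCoh.IsQCohD E)
    (hpc : LocPC m E)
    (hs : ∀ i, m - (l.length : ℤ) + 1 ≤ i → CohB1.support (DCoh.HD E i) ⊆ (W : Set Y)ᶜ) :
    Killed W m E := by
  let j := Y.isoSpec.inv
  haveI := QCoh.tilde_preservesFiniteLimits (R := Γ(Y, ⊤))
  have hj : j.opensRange = ⊤ := Scheme.Hom.opensRange_of_isIso _
  have hmem : ∀ (y : Spec Γ(Y, ⊤)) (f : Γ(Y, ⊤)),
      j.base y ∈ Y.basicOpen f ↔ y ∈ PrimeSpectrum.basicOpen f := by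
    intro y f
    rw [← Scheme.toSpecΓ_preimage_basicOpen]
    change Y.toSpecΓ.base (j.base y) ∈ PrimeSpectrum.basicOpen f ↔ _
    have : Y.toSpecΓ.base (j.base y) = y := by
      rw [← Scheme.Hom.comp_apply]
      have h : j ≫ Y.toSpecΓ = 𝟙 _ := Y.isoSpec.inv_hom_id
      rw [h]
      rfl
    rw [this]
  obtain ⟨N, ⟨eN⟩⟩ := exists_tildeD_iso (isQCohD_rho j hE)
  refine killed_extend j W (by rw [hj]; exact top_sup_eq _) (fun P hP => ?_)
    (fun i hi x hx hxW => ?_) ?_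
  · exact (isPerfect_iff _).2 (LocSP.of_local fun x => ⟨_, j, inferInstance, hj.ge (Opens.mem_top x),
      (isPerfect_iff _).1 (isPerfect_of_iso (restrictPushIso j P).symm hP.1)⟩)
  · obtain ⟨f, hf, -⟩ := (hW x).1 hxW
    have := List.length_pos_of_mem hf
    exact hs i (by omega) hx hxW
  refine Killed.of_iso eN (killed_spec l (j ⁻¹ᵁ W) (fun y hy => ?_) m N
    ((hpc.restrict j).of_iso eN.symm) fun f hf i hi => (torsAt_iff_support f N i).2 fun y hy => ?_)
  · obtain ⟨f, hf, hyf⟩ := (hW _).1 hy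
    exact ⟨f, hf, (hmem y f).1 hyf⟩
  · have hz : IsZero (DCoh.HD ((rho W.ι).obj E) i) := isZero_HD_of_stalks (hs i hi)
    have hyW : j.base y ∈ W := (hW _).2 ⟨f, hf, (hmem y f).2 hy⟩
    have h1 : Subsingleton ((DCoh.HD ((rho j).obj E) i).presheaf.stalk y) :=
      (subsingleton_stalk_rho_iff j E i y).2 (not_not.1 fun hne => hs i hi hne hyW)
    exact @Equiv.subsingleton _ _
      ((Scheme.Modules.toPresheaf (Spec Γ(Y, ⊤)) ⋙ TopCat.Presheaf.stalkFunctor _ y).mapIso
        ((DerivedCategory.homologyFunctor _ i).mapIso eN)).addCommGroupIsoToAddEquiv.toEquiv h1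

end Spec

/-- Pseudo-coherent objects on quasi-compact schemes are bounded above. -/
lemma exists_top_bound [CompactSpace X] {E : DCoh.D X} (h : LocPC m E) :
    ∃ b, ∀ i, b ≤ i → IsZero (DCoh.HD E i) := by
  choose O j hj hx P α hP hα using h
  choose lo hi hb using fun x => (hP x).1
  obtain ⟨t, ht⟩ := isCompact_univ.elim_finite_subcover (fun x : X => Set.range (j x).base)
    (fun x => haveI := hj x; (j x).isOpenEmbedding.isOpen_range) (fun x _ => Set.mem_iUnion.2 ⟨x, hx x⟩)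
  refine ⟨max (m + 1) (((∑ x ∈ t, (hi x).natAbs : ℕ) : ℤ) + 1), fun i hi' => ?_⟩
  refine isZero_of_stalk _ fun y => ?_
  obtain ⟨x, hxt, hy⟩ := Set.mem_iUnion₂.1 (ht (Set.mem_univ y))
  haveI := hj x
  obtain ⟨u', rfl⟩ := hy
  haveI := (hα x).1 i (by omega)
  have hle : (hi x).natAbs ≤ ∑ x ∈ t, (hi x).natAbs :=
    Finset.single_le_sum (f := fun x => (hi x).natAbs) (fun _ _ => Nat.zero_le _) hxt
  have hz : IsZero ((P x).homology i) :=
    ShortComplex.isZero_homology_of_isZero_X₂ _ (hb x i (Or.inr (by omega)))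
  refine isZero_stalk_of_restrict (j x) u' ((DerSch.stalkFunctor _ _).map_isZero (hz.of_iso ?_))
  exact (restrictHDIso (j x) E i).symm ≪≫
    (asIso ((DerivedCategory.homologyFunctor _ i).map (α x))).symm ≪≫
    (DerivedCategory.homologyFunctorFactors _ i).app (P x)

/-- Approximation by perfect complexes holds. -/
def HasApprox (X : Scheme.{u}) : Prop :=
  ∀ W : X.Opens, IsRetrocompact (W : Set X) → ∃ r : ℤ, ∀ (m : ℤ) (E : DCoh.D X), DCoh.IsQCohD E →
    LocPC (m - r) E → (∀ i, m - r ≤ i → CohB1.support (DCoh.HD E i) ⊆ (W : Set X)ᶜ) → Killed W m E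

theorem hasApprox_of_isAffine (X : Scheme.{u}) [IsAffine X] : HasApprox X := by
  classical
  intro W hW
  have hWc : IsCompact (W : Set X) := by simpa using hW (U := Set.univ) isCompact_univ isOpen_univ
  have hex : ∀ x : W, ∃ f : Γ(X, ⊤), X.basicOpen f ≤ W ∧ x.1 ∈ X.basicOpen f := fun x => by
    obtain ⟨_, ⟨_, ⟨f, rfl⟩, rfl⟩, hx, hsub⟩ :=
      (isBasis_basicOpen X).exists_subset_of_mem_open x.2 W.2
    exact ⟨f, hsub, hx⟩
  choose f hfW hxf using hex
  obtain ⟨t, ht⟩ := hWc.elim_finite_subcover (fun x : W => (X.basicOpen (f x) : Set X))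
    (fun x => (X.basicOpen (f x)).2) (fun x hx => Set.mem_iUnion.2 ⟨⟨x, hx⟩, hxf ⟨x, hx⟩⟩)
  let l := t.toList.map f
  refine ⟨l.length, fun m E hE hpc hs => killed_affine X l W (fun x => ⟨fun hx => ?_, ?_⟩) m E hE
    (hpc.mono (by omega)) fun i hi => hs i (by omega)⟩
  · obtain ⟨y, hy, hxy⟩ := Set.mem_iUnion₂.1 (ht hx)
    exact ⟨f y, List.mem_map.2 ⟨y, Finset.mem_toList.2 hy, rfl⟩, hxy⟩
  · rintro ⟨g, hg, hxg⟩
    obtain ⟨y, -, rfl⟩ := List.mem_map.1 hg
    exact hfW y hxg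

lemma isRetrocompact_preimage {U : Scheme.{u}} (j : U ⟶ X) [IsOpenImmersion j] (S : Set X)
    (hS : ∀ Q : Set X, IsCompact Q → IsOpen Q → Q ⊆ Set.range j.base → IsCompact (S ∩ Q)) :
    IsRetrocompact (j.base ⁻¹' S) := by
  intro Q hQ hQo
  refine j.isOpenEmbedding.isEmbedding.isCompact_iff.2 ?_
  rw [Set.image_preimage_inter]
  exact hS _ (hQ.image j.continuous) (j.isOpenEmbedding.isOpenMap _ hQo) (Set.image_subset_range _ _)

lemma quasiCompact_ι_of_cover (U V : X.Opens) (hV : IsAffineOpen V)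
    (hUV : IsCompact ((U ⊓ V : X.Opens) : Set X)) (hcov : U ⊔ V = ⊤) : QuasiCompact U.ι := by
  refine quasiCompact_iff_forall_isAffineOpen.2 fun A hA => ?_
  refine U.ι.isOpenEmbedding.isEmbedding.isCompact_iff.2 ?_
  have himg : U.ι.base '' ((U.ι ⁻¹ᵁ A : U.toScheme.Opens) : Set U.toScheme) = (A : Set X) ∩ U := by
    change U.ι.base '' (U.ι.base ⁻¹' (A : Set X)) = _
    rw [Set.image_preimage_eq_inter_range, Scheme.Opens.range_ι]
  rw [himg]
  have hex : ∀ x : A, ∃ B : X.Opens, IsAffineOpen B ∧ x.1 ∈ B ∧ B ≤ A ∧ (B ≤ U ∨ B ≤ V) := by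
    intro x
    rcases Opens.mem_sup.1 (show x.1 ∈ U ⊔ V by rw [hcov]; trivial) with h | h
    · obtain ⟨_, ⟨B, hB, rfl⟩, hxB, hsub⟩ :=
        X.isBasis_affineOpens.exists_subset_of_mem_open (show x.1 ∈ (A ⊓ U : X.Opens) from ⟨x.2, h⟩) (A ⊓ U).2
      exact ⟨B, hB, hxB, fun y hy => (hsub hy).1, Or.inl fun y hy => (hsub hy).2⟩
    · obtain ⟨_, ⟨B, hB, rfl⟩, hxB, hsub⟩ :=
        X.isBasis_affineOpens.exists_subset_of_mem_open (show x.1 ∈ (A ⊓ V : X.Opens) from ⟨x.2, h⟩) (A ⊓ V).2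
      exact ⟨B, hB, hxB, fun y hy => (hsub hy).1, Or.inr fun y hy => (hsub hy).2⟩
  choose B hB hxB hBA hBor using hex
  obtain ⟨t, ht⟩ := hA.isCompact.elim_finite_subcover (fun x : A => (B x : Set X)) (fun x => (B x).2)
    fun x hx => Set.mem_iUnion.2 ⟨⟨x, hx⟩, hxB ⟨x, hx⟩⟩
  have e : (A : Set X) ∩ U = ⋃ x ∈ t, (B x : Set X) ∩ U := by
    refine Set.Subset.antisymm (fun y hy => ?_) (Set.iUnion₂_subset fun x _ y hy => ⟨hBA x hy.1, hy.2⟩)
    obtain ⟨x, hx, hyx⟩ := Set.mem_iUnion₂.1 (ht hy.1)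
    exact Set.mem_iUnion₂.2 ⟨x, hx, hyx, hy.2⟩
  rw [e]
  refine t.isCompact_biUnion fun x _ => ?_
  rcases hBor x with h | h
  · rw [Set.inter_eq_left.2 h]
    exact (hB x).isCompact
  · have e : (B x : Set X) ∩ U = (B x : Set X) ∩ ((U ⊓ V : X.Opens) : Set X) := by
      ext y
      exact ⟨fun hy => ⟨hy.1, hy.2, h hy.1⟩, fun hy => ⟨hy.1, hy.2.1⟩⟩
    rw [e]
    exact hV.isQuasiSeparated _ _ h (B x).2 (hB x).isCompact
      (by rw [Opens.coe_inf]; exact Set.inter_subset_right) (U ⊓ V).2 hUV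

/-- One round of the reduction on `U`. -/
theorem exists_round (U V : X.Opens) (hV : IsAffineOpen V) (hUV : IsCompact ((U ⊓ V : X.Opens) : Set X))
    (hcov : U ⊔ V = ⊤) [QuasiCompact U.ι] (W : X.Opens) (hW : IsRetrocompact (W : Set X))
    {E : DCoh.D X} (hE : DCoh.IsQCohD E) (m k : ℤ) (hmk : m ≤ k)
    {P : DCoh.D (U : Scheme.{u})} (α : P ⟶ (rho U.ι).obj E) (hP : PP (U.ι ⁻¹ᵁ W) P) (hα : IsPcMap m α)
    (hz : ∀ i, k < i → IsZero (DCoh.HD ((rho U.ι).obj E) i)) :
    ∃ (E' C : DCoh.D X) (f : E ⟶ E') (b : E' ⟶ C) (c : C ⟶ E⟦(1 : ℤ)⟧),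
      Triangle.mk f b c ∈ distTriang _ ∧ PP W C ∧
      ∀ i, k ≤ i → IsZero (DCoh.HD ((rho U.ι).obj E') i) := by
  haveI : IsAffine (V : Scheme.{u}) := hV
  haveI : CompactSpace ((U ⊓ V : X.Opens) : Scheme.{u}) := compactSpace_opens hUV
  let iU : ((U ⊓ V : X.Opens) : Scheme.{u}) ⟶ (U : Scheme.{u}) := X.homOfLE inf_le_left
  let iV : ((U ⊓ V : X.Opens) : Scheme.{u}) ⟶ (V : Scheme.{u}) := X.homOfLE inf_le_right
  have hpre : ∀ O : X.Opens, IsCompact ((O ⊓ V : X.Opens) : Set X) →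
      IsCompact ((V.ι ⁻¹ᵁ O : V.toScheme.Opens) : Set V.toScheme) := fun O hO => by
    refine V.ι.isOpenEmbedding.isEmbedding.isCompact_iff.2 ?_
    convert hO using 1
    change V.ι.base '' (V.ι.base ⁻¹' (O : Set X)) = _
    rw [Set.image_preimage_eq_inter_range, Scheme.Opens.range_ι]
    rfl
  have hWVc : IsCompact ((W ⊓ V : X.Opens) : Set X) := by
    rw [Opens.coe_inf]; exact hW hV.isCompact V.2
  have hWV := hpre W hWVc
  let p := (rho iU).obj P
  have hpW : IsZero ((rho (iV ⁻¹ᵁ (V.ι ⁻¹ᵁ W)).ι).obj p) := by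
    refine (isZero_rho_comp _ iU ((iV ⁻¹ᵁ (V.ι ⁻¹ᵁ W)).ι ≫ iU) rfl P).2
      (isZero_rho_of_range_le (U.ι ⁻¹ᵁ W).ι _ ?_ hP.2)
    rw [Scheme.Opens.opensRange_ι, Scheme.Hom.opensRange_comp, Scheme.Opens.opensRange_ι]
    rintro _ ⟨z, hz, rfl⟩
    have e : U.ι.base (iU.base z) = V.ι.base (iV.base z) := by
      rw [← Scheme.Hom.comp_apply, ← Scheme.Hom.comp_apply, X.homOfLE_ι, X.homOfLE_ι]
    change U.ι.base (iU.base z) ∈ W
    rw [e]
    exact hz
  obtain ⟨CV, hCV, ⟨eV⟩⟩ := exists_extension_double iV (hasDetector _) (V.ι ⁻¹ᵁ W) hWV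
    (isPerfect_rho iU hP.1) hpW
  haveI : PreservesBinaryBiproducts (rho iU) := preservesBinaryBiproducts_of_preservesBiproducts _
  obtain ⟨R, ⟨eU⟩, ⟨eV'⟩⟩ := exists_glue U V hcov (P ⊞ P⟦(1 : ℤ)⟧) CV
    ((rho iU).mapBiprod _ _ ≪≫ biprod.mapIso (Iso.refl _) (((rho iU).commShiftIso (1 : ℤ)).app P) ≪≫ eV.symm)
  have hA : PP (U.ι ⁻¹ᵁ W) (P ⊞ P⟦(1 : ℤ)⟧) := prop_biprod _ hP ((PP _).le_shift (1 : ℤ) _ hP)
  have hR : PP W R := by
    refine ⟨isPerfect_of_cover hcov (isPerfect_of_iso eU.symm hA.1) (isPerfect_of_iso eV'.symm hCV.1),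
      (isZero_rho_iff_support W R).2 fun i x hx hxW => ?_⟩
    have key : ∀ (A : X.Opens) (hxA : x ∈ A) (B : DCoh.D (A : Scheme.{u}))
        (e : (rho A.ι).obj R ≅ B) (hB : IsZero ((rho (A.ι ⁻¹ᵁ W).ι).obj B)), False :=
      fun A hxA B e hB => by
      have hz : IsZero ((rho ((A.ι ⁻¹ᵁ W).ι ≫ A.ι)).obj R) :=
        (isZero_rho_comp _ A.ι _ rfl R).1 (hB.of_iso ((rho _).mapIso e))
      have hz' : IsZero ((rho (A ⊓ W).ι).obj R) := isZero_rho_of_range_le _ _ (by
        rw [Scheme.Opens.opensRange_ι, Scheme.Hom.opensRange_comp, Scheme.Opens.opensRange_ι,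
          Scheme.Hom.image_preimage_eq_opensRange_inf, Scheme.Opens.opensRange_ι]) hz
      exact (isZero_rho_iff_support _ R).1 hz' i hx ⟨hxA, hxW⟩
    rcases Opens.mem_sup.1 (show x ∈ U ⊔ V by rw [hcov]; trivial) with h | h
    · exact key U h _ eU hA.2
    · exact key V h _ eV' hCV.2
  let t : (rho U.ι).obj R ⟶ (rho U.ι).obj E := eU.hom ≫ biprod.fst ≫ α
  let φ := (adj U.ι).homEquiv R _ t
  obtain ⟨C, b, c, hT⟩ := distinguished_cocone_triangle ((adj U.ι).unit.app E)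
  have hCq : DCoh.IsQCohD C := isQCohD_obj₃ hT hE (isQCohD_rpush U.ι (isQCohD_rho U.ι hE))
  have hCU : IsZero ((rho U.ι).obj C) := isZero_rho_cone_unit U.ι b c hT
  haveI hunit : IsIso ((adj V.ι).unit.app C) :=
    isIso_unit V.ι U (by rw [Scheme.Opens.opensRange_ι, sup_comm]; exact hcov) hCU
  -- correct the target so that it vanishes on `W`
  let C₁ := (rho V.ι).obj C
  have hC₁ : DCoh.IsQCohD C₁ := isQCohD_rho V.ι hCq
  haveI : CompactSpace ((V.ι ⁻¹ᵁ W : V.toScheme.Opens) : Scheme.{u}) := compactSpace_opens hWV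
  obtain ⟨K, bK, cK, hTK⟩ := distinguished_cocone_triangle ((adj (V.ι ⁻¹ᵁ W).ι).unit.app C₁)
  let O := V.ι ⁻¹ᵁ U ⊔ V.ι ⁻¹ᵁ W
  have hOc : IsCompact (O : Set V.toScheme) := by
    simp only [O, Opens.coe_sup]; exact (hpre U hUV).union hWV
  have hKO : PQ O K := ⟨isQCohD_obj₃ hTK hC₁
    (isQCohD_rpush _ (isQCohD_rho _ hC₁)), isZero_rho_inf
      (isZero_rho_obj₂ _ (rot_of_distTriang _ hTK)
        (isZero_rho_rpush _ _ (isZero_rho_preimage _ _ (isZero_rho_preimage V.ι U hCU)))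
        (isZero_rho_shift _ (isZero_rho_preimage V.ι U hCU) 1))
      (isZero_rho_cone_unit _ bK cK hTK)⟩
  have hRV : PP (V.ι ⁻¹ᵁ W) ((rho V.ι).obj R) := ⟨isPerfect_rho V.ι hR.1, isZero_rho_preimage V.ι W hR.2⟩
  obtain ⟨χ, hχ⟩ := Triangle.coyoneda_exact₂ _ (inv_rot_of_distTriang _ hTK) ((rho V.ι).map (φ ≫ b))
    (eq_zero_of_restrict_isZero _ hRV.2 _)
  obtain ⟨PK, hPK, hdet⟩ := hasDetector (V : Scheme.{u}) O hOc
  obtain ⟨R₁, ψ, h, hR₁, hψ⟩ := exists_factor_scheme hPK hdet (F := 𝟭 _)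
    (compactIn_of_isPerfect O hRV.1) ((PQ O).le_shift (-1 : ℤ) _ hKO) χ
  replace hψ : χ = ψ ≫ h := hψ
  let R' := (DCoh.Rpush V.ι).obj R₁
  have hO : O = V.ι ⁻¹ᵁ (U ⊔ W) := rfl
  have hR₁' : PP (V.ι ⁻¹ᵁ (U ⊔ W)) R₁ := hO ▸ hR₁
  have hR' : PP (U ⊔ W) R' :=
    ⟨isPerfect_rpush_cover V (U ⊔ W)
        (top_unique (hcov.ge.trans (sup_le (le_sup_left.trans le_sup_right) le_sup_left))) R₁ hR₁',
      isZero_rho_rpush V.ι _ hR₁'.2⟩
  let ψ' : R ⟶ R' := (adj V.ι).homEquiv R R₁ ψ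
  obtain ⟨E₁, β, c₁, hT₁⟩ := distinguished_cocone_triangle₁ ψ'
  have h0 : (β ≫ φ) ≫ b = 0 := by
    have hbψ : β ≫ ψ' = 0 := comp_distTriang_mor_zero₁₂ _ hT₁
    have e1 : φ ≫ b = (ψ' ≫ (DCoh.Rpush V.ι).map (h ≫ (Triangle.mk ((adj (V.ι ⁻¹ᵁ W).ι).unit.app C₁) bK cK).invRotate.mor₁)) ≫
        inv ((adj V.ι).unit.app C) := by
      rw [IsIso.eq_comp_inv]
      refine Eq.trans ?_ ((adj V.ι).homEquiv_naturality_right ψ _)
      rw [← Category.assoc ψ h, ← hψ, ← hχ, Adjunction.homEquiv_unit]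
      exact (adj V.ι).unit.naturality (φ ≫ b)
    rw [Category.assoc, e1, ← Category.assoc, ← Category.assoc, hbψ, zero_comp, zero_comp]
  obtain ⟨γ, hγ⟩ := Triangle.coyoneda_exact₂ _ hT (β ≫ φ) h0
  change β ≫ φ = γ ≫ (adj U.ι).unit.app E at hγ
  have hγ' : (rho U.ι).map γ = (rho U.ι).map β ≫ t := by
    apply ((adj U.ι).homEquiv E₁ _).injective
    rw [Adjunction.homEquiv_naturality_left, Adjunction.homEquiv_unit]
    exact ((adj U.ι).unit.naturality γ).symm.trans hγ.symm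
  have hR'U : IsZero ((rho U.ι).obj R') := isZero_rho_of_le le_sup_left hR'.2
  haveI : IsIso ((rho U.ι).map β) :=
    (Triangle.isZero₃_iff_isIso₁ _ ((rho U.ι).map_distinguished _ hT₁)).1 hR'U
  have hE₁ : PP W E₁ := ObjectProperty.ext_of_isTriangulatedClosed₁ _ _ hT₁ hR
    ⟨hR'.1, isZero_rho_of_le le_sup_right hR'.2⟩
  obtain ⟨E', f, d, hT'⟩ := distinguished_cocone_triangle γ
  refine ⟨E', E₁⟦(1 : ℤ)⟧, f, d, _, rot_of_distTriang _ hT', (PP W).le_shift (1 : ℤ) _ hE₁, fun i hi => ?_⟩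
  let H := DerivedCategory.homologyFunctor (U : Scheme.{u}).Modules
  have hPz : ∀ q, k < q → IsZero ((H q).obj P) := fun q hq => by
    haveI := hα.1 q (by omega)
    exact (hz q hq).of_iso (asIso ((H q).map α))
  have hAz : IsZero ((H (i + 1)).obj (P ⊞ P⟦(1 : ℤ)⟧)) := by
    have hs : IsZero ((H (i + 1)).obj (P⟦(1 : ℤ)⟧)) :=
      (hPz (1 + (i + 1)) (by omega)).of_iso
        (((DerivedCategory.homologyFunctor (U : Scheme.{u}).Modules 0).shiftIso 1 (i + 1) (1 + (i + 1)) rfl).app P)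
    rw [IsZero.iff_id_eq_zero, ← (H (i + 1)).map_id, ← biprod.total, Functor.map_add, Functor.map_comp,
      Functor.map_comp, (hPz (i + 1) (by omega)).eq_of_tgt ((H (i + 1)).map biprod.fst) 0,
      hs.eq_of_tgt ((H (i + 1)).map biprod.snd) 0, zero_comp, zero_comp, add_zero]
  have hEz : IsZero ((H (i + 1)).obj ((rho U.ι).obj E₁)) :=
    (hAz.of_iso ((H (i + 1)).mapIso eU)).of_iso ((H (i + 1)).mapIso (asIso ((rho U.ι).map β)))
  haveI : Epi ((H i).map α) := by
    rcases eq_or_lt_of_le (hmk.trans hi) with rfl | hlt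
    · exact hα.2
    · haveI := hα.1 i hlt
      infer_instance
  haveI : Epi ((H i).map ((rho U.ι).map γ)) := by
    rw [hγ', Functor.map_comp, Functor.map_comp, Functor.map_comp]
    infer_instance
  exact (DerivedCategory.HomologySequence.exact₃ _ ((rho U.ι).map_distinguished _ hT') i (i + 1)).isZero_of_both_zeros
    ((DerivedCategory.HomologySequence.epi_homologyMap_mor₁_iff _ ((rho U.ι).map_distinguished _ hT') i).1
      (by assumption))
    (hEz.eq_of_tgt _ _)

/-- The induction step. -/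
theorem hasApprox_step (U V : X.Opens) (hU : IsCompact (U : Set X)) (hV : IsAffineOpen V)
    (hUV : IsCompact ((U ⊓ V : X.Opens) : Set X)) (hcov : U ⊔ V = ⊤)
    (hAU : HasApprox (U : Scheme.{u})) : HasApprox X := by
  intro W hW
  haveI : CompactSpace (U : Scheme.{u}) := compactSpace_opens hU
  haveI : IsAffine (V : Scheme.{u}) := hV
  haveI : QuasiCompact U.ι := quasiCompact_ι_of_cover U V hV hUV hcov
  have hWU : IsRetrocompact ((U.ι ⁻¹ᵁ W : U.toScheme.Opens) : Set U.toScheme) := isRetrocompact_preimage U.ι (W : Set X) fun Q hQ hQo _ => hW hQ hQo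
  have hOV : IsRetrocompact ((V.ι ⁻¹ᵁ (U ⊔ W) : V.toScheme.Opens) : Set V.toScheme) := isRetrocompact_preimage V.ι ((U ⊔ W : X.Opens) : Set X) fun Q hQ hQo hQV => by
    rw [Opens.coe_sup, Set.union_inter_distrib_right]
    refine IsCompact.union ?_ (hW hQ hQo)
    rw [Scheme.Opens.range_ι] at hQV
    have e : (U : Set X) ∩ Q = ((U ⊓ V : X.Opens) : Set X) ∩ Q := by
      rw [Opens.coe_inf, Set.inter_assoc, Set.inter_eq_right.2 hQV]
    rw [e]
    exact hV.isQuasiSeparated _ _ (by rw [Opens.coe_inf]; exact Set.inter_subset_right) (U ⊓ V).2 hUV hQV hQo hQ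
  obtain ⟨rU, hrU⟩ := hAU _ hWU
  obtain ⟨rV, hrV⟩ := hasApprox_of_isAffine (V : Scheme.{u}) _ hOV
  refine ⟨max rU 0 + max rV 0, fun m E hE hpc hs => ?_⟩
  let m' := m - max rV 0
  suffices key : ∀ (k : ℕ) (E : DCoh.D X), DCoh.IsQCohD E → LocPC (m - (max rU 0 + max rV 0)) E →
      (∀ i, m - (max rU 0 + max rV 0) ≤ i → CohB1.support (DCoh.HD E i) ⊆ (W : Set X)ᶜ) →
      (∀ i, m' + k ≤ i → IsZero (DCoh.HD ((rho U.ι).obj E) i)) → Killed W m E by
    obtain ⟨b, hb⟩ := exists_top_bound (hpc.restrict U.ι)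
    exact key (b - m').toNat E hE hpc hs fun i hi => hb i (by omega)
  intro k
  induction k with
  | zero =>
    intro E hE hpc hs hz
    refine (killed_extend V.ι (U ⊔ W) (by rw [Scheme.Opens.opensRange_ι]; exact top_unique (hcov.ge.trans (sup_le (le_sup_left.trans le_sup_right) le_sup_left)))
      (fun P hP => isPerfect_rpush_cover V (U ⊔ W) (top_unique (hcov.ge.trans (sup_le (le_sup_left.trans le_sup_right) le_sup_left))) P hP)
      (fun i hi x hx hxO => ?_) (hrV m _ (isQCohD_rho V.ι hE) ((hpc.restrict V.ι).mono (by omega))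
        fun i hi x hx hxO => ?_)).mono le_sup_right
    · rcases Opens.mem_sup.1 hxO with h | h
      · exact support_subset_of_isZero_HD (hz i (by omega)) hx h
      · exact hs i (by omega) hx h
    · have hx' : V.ι.base x ∈ CohB1.support (DCoh.HD E i) := fun hss =>
        hx ((subsingleton_stalk_rho_iff V.ι E i x).2 hss)
      rcases Opens.mem_sup.1 hxO with h | h
      · exact support_subset_of_isZero_HD (hz i (by omega)) hx' h
      · exact hs i (by omega) hx' h
  | succ k ih =>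
    intro E hE hpc hs hz
    obtain ⟨P, α, hP, hα⟩ := (hrU m' _ (isQCohD_rho U.ι hE) ((hpc.restrict U.ι).mono (by omega))
      fun i hi x hx hxW => hs i (by omega)
        (fun hss => hx ((subsingleton_stalk_rho_iff U.ι E i x).2 hss))
        hxW).exists_pcMap
    obtain ⟨E', C, f, b, c, hT, hC, hz'⟩ := exists_round U V hV hUV hcov W hW hE m' (m' + k) (by omega)
      α hP hα fun i hi => hz i (by omega)
    refine Killed.of_step f b c hT hC (ih E' (isQCohD_obj₂ (T := (Triangle.mk f b c)) hT hE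
      (isQCohD_of_isPerfect hC.1)) ?_ ?_ hz')
    · exact (locPC_two_of_three _ _ hT).2.1 hpc (((isPerfect_iff _).1 hC.1).locPC _)
    · intro i hi
      refine support_subset_of_isZero_HD ?_
      exact (DerivedCategory.HomologySequence.exact₂ _ ((rho W.ι).map_distinguished _ hT) i).isZero_of_both_zeros
        ((isZero_HD_of_stalks (hs i hi)).eq_of_src _ _) ((Functor.map_isZero _ hC.2).eq_of_tgt _ _)

theorem hasApprox (X : Scheme.{u}) [CompactSpace X] [QuasiSeparatedSpace X] : HasApprox X :=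
  qcqs_induction (Q := HasApprox) (fun X _ => hasApprox_of_isAffine X)
    (fun _ _ _ U V hUV hU hV hQU _ _ => hasApprox_step U V hU hV
      (by rw [Opens.coe_inf]; exact QuasiSeparatedSpace.inter_isCompact _ _ U.2 hU V.2 hV.isCompact)
      hUV hQU) X

end Groth.Agent.DQGen
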