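import Groth.Agent.DQGen.Gen
import Groth.Agent.H9Misc.GPDerived
import Groth.Agent.KFlatLib.Scheme.SupportPush
import Groth.Agent.KFlatLib.Scheme.PCQCoh
import Groth.Agent.KFlatLib.Scheme.RHomLocal
import Groth.Agent.KFlatLib.Scheme.RpushUnbounded
import Groth.Agent.KFlatLib.Scheme.ProjFormulaLoc
import Groth.Agent.KFlatLib.Perfect.Amplitude

/-!
# Quasi-coherent and perfect objects with support; opens of schemes
-/

set_option backward.isDefEq.respectTransparency false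

universe u

open CategoryTheory CategoryTheory.Limits AlgebraicGeometry Pretriangulated TopologicalSpace ZeroObject

attribute [local instance] HasDerivedCategory.standard

namespace Groth.Agent.DQGen

open Groth.Agent.KFlatLib

variable {X U : Scheme.{u}}

instance (j : U ⟶ X) [IsOpenImmersion j] : DCoh.HasRpush j := hasRpush_scheme j

/-- `j^* ⊣ Rj_*` with invertible counit. -/
theorem exists_adj (j : U ⟶ X) [IsOpenImmersion j] :
    ∃ a : rho j ⊣ DCoh.Rpush j, IsIso a.counit := by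
  haveI : PreservesFiniteColimits (Scheme.Modules.restrictFunctor j) := by
    haveI : PreservesColimitsOfSize.{0, 0} (Scheme.Modules.restrictFunctor j) :=
      (Scheme.Modules.restrictAdjunction j).leftAdjoint_preservesColimits
    exact ⟨fun _ => inferInstance⟩
  exact H9Misc.GPDerived.adj_fullyFaithful (Scheme.Modules.restrictAdjunction j)

/-- A chosen adjunction. -/
noncomputable def adj (j : U ⟶ X) [IsOpenImmersion j] : rho j ⊣ DCoh.Rpush j := (exists_adj j).choose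

instance isIso_adj_counit (j : U ⟶ X) [IsOpenImmersion j] : IsIso (adj j).counit :=
  (exists_adj j).choose_spec

instance additive_rpush (j : U ⟶ X) [IsOpenImmersion j] : (DCoh.Rpush j).Additive :=
  (adj j).right_adjoint_additive

/-- `j^* Rj_* ≅ 𝟭`. -/
noncomputable def restrictPushIso (j : U ⟶ X) [IsOpenImmersion j] (E : DCoh.D U) :
    (rho j).obj ((DCoh.Rpush j).obj E) ≅ E :=
  (asIso (adj j).counit).app E

/-- Shifted maps out and restrictions. -/
lemma eq_zero_of_restrict_isZero (j : U ⟶ X) [IsOpenImmersion j] {A : DCoh.D X} {E : DCoh.D U}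
    (hA : IsZero ((rho j).obj A)) (φ : A ⟶ (DCoh.Rpush j).obj E) : φ = 0 := by
  refine ((adj j).homEquiv A E).symm.injective ?_
  exact hA.eq_of_src _ _

lemma isQCohD_of_isPerfect {E : DCoh.D X} (hE : DCoh.IsPerfect E) : DCoh.IsQCohD E := fun i =>
  isQCoh_HD_of_pseudoCoherent
    ((isPseudoCoherentD_iff _ _).2 (((isPerfect_iff _).1 hE).locPC (i - 1))) i (by omega)

lemma isPerfect_of_isZero {E : DCoh.D X} (hE : IsZero E) : DCoh.IsPerfect E :=
  (isPerfect_iff _).2 (locSP_of_isZero hE)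

lemma isPerfect_of_iso {E E' : DCoh.D X} (e : E ≅ E') (hE : DCoh.IsPerfect E) : DCoh.IsPerfect E' :=
  (isPerfect_iff _).2 (((isPerfect_iff _).1 hE).of_iso e)

lemma isPerfect_rho (j : U ⟶ X) [IsOpenImmersion j] {E : DCoh.D X} (hE : DCoh.IsPerfect E) :
    DCoh.IsPerfect ((rho j).obj E) := by
  refine (isPerfect_iff _).2 fun u' => ?_
  obtain ⟨U', j', _, hx, P, hP, ⟨e⟩⟩ := (isPerfect_iff _).1 hE (j.base u')
  obtain ⟨W, k, _, i₁, i₂, _, _, ⟨w, hw⟩, f₁, f₂⟩ := exists_common j' j hx ⟨u', rfl⟩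
  refine ⟨W, i₂, inferInstance, ⟨w, ?_⟩, _, isStrictlyPerfect_restrict i₁ hP,
    ⟨((rhoQ i₁).app P).symm ≪≫ (rho i₁).mapIso e ≪≫ rhoComp i₁ j' k f₁ E ≪≫
      (rhoComp i₂ j k f₂ E).symm⟩⟩
  apply j.isOpenEmbedding.injective
  rw [← hw, ← f₂]
  rfl

lemma isQCohD_of_isZero {E : DCoh.D X} (hE : IsZero E) : DCoh.IsQCohD E := fun i =>
  isQCoh_of_isZero (Functor.map_isZero _ hE)

/-- Quasi-coherent cohomology, vanishing on `W`. -/
def PQ (W : X.Opens) : ObjectProperty (DCoh.D X) := fun K =>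
  DCoh.IsQCohD K ∧ IsZero ((rho W.ι).obj K)

/-- Perfect, vanishing on `W`. -/
def PP (W : X.Opens) : ObjectProperty (DCoh.D X) := fun K =>
  DCoh.IsPerfect K ∧ IsZero ((rho W.ι).obj K)

lemma PP.pq {W : X.Opens} {K : DCoh.D X} (h : PP W K) : PQ W K := ⟨isQCohD_of_isPerfect h.1, h.2⟩

variable (W : X.Opens)

instance : (PQ W).IsClosedUnderIsomorphisms where
  of_iso e h := ⟨isQCohD_of_iso e h.1, h.2.of_iso ((rho W.ι).mapIso e).symm⟩

instance : (PP W).IsClosedUnderIsomorphisms where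
  of_iso e h := ⟨isPerfect_of_iso e h.1, h.2.of_iso ((rho W.ι).mapIso e).symm⟩

lemma isZero_rho_shift {K : DCoh.D X} (h : IsZero ((rho W.ι).obj K)) (n : ℤ) :
    IsZero ((rho W.ι).obj (K⟦n⟧)) :=
  (Functor.map_isZero (shiftFunctor _ n) h).of_iso (((rho W.ι).commShiftIso n).app K)

lemma isZero_rho_obj₂ {T : Triangle (DCoh.D X)} (hT : T ∈ distTriang _)
    (h₁ : IsZero ((rho W.ι).obj T.obj₁)) (h₃ : IsZero ((rho W.ι).obj T.obj₃)) :
    IsZero ((rho W.ι).obj T.obj₂) :=
  Triangle.isZero₂_of_isZero₁₃ _ ((rho W.ι).map_distinguished _ hT) h₁ h₃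

instance : (PQ W).IsTriangulated where
  exists_zero := ⟨0, isZero_zero _, isQCohD_of_isZero (isZero_zero _),
    Functor.map_isZero _ (isZero_zero _)⟩
  isStableUnderShiftBy n := ⟨fun K hK => ⟨isQCohD_shift hK.1 n, isZero_rho_shift W hK.2 n⟩⟩
  toIsTriangulatedClosed₂ := .mk' fun T hT h₁ h₃ =>
    ⟨isQCohD_obj₂ hT h₁.1 h₃.1, isZero_rho_obj₂ W hT h₁.2 h₃.2⟩

instance : (PP W).IsTriangulated where
  exists_zero := ⟨0, isZero_zero _, isPerfect_of_isZero (isZero_zero _),
    Functor.map_isZero _ (isZero_zero _)⟩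
  isStableUnderShiftBy n := ⟨fun K hK => ⟨(isPerfect_iff _).2 (((isPerfect_iff _).1 hK.1).shift n),
    isZero_rho_shift W hK.2 n⟩⟩
  toIsTriangulatedClosed₂ := .mk' fun T hT h₁ h₃ =>
    ⟨(isPerfect_iff _).2 ((locSP_two_of_three T hT).2.1 ((isPerfect_iff _).1 h₁.1)
      ((isPerfect_iff _).1 h₃.1)), isZero_rho_obj₂ W hT h₁.2 h₃.2⟩

/-- `PQ` is closed under small sums. -/
lemma pq_sigma {J : Type u} (M : J → DCoh.D X) [HasCoproduct M] (h : ∀ j, PQ W (M j)) :
    PQ W (∐ M) := by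
  haveI := preservesColimit_restrictD W.ι M
  haveI : HasColimitsOfShape (Discrete J) (DCoh.D (W : Scheme.{u})) :=
    TriCat.hasColimitsOfShape_derivedCategory
  refine ⟨isQCohD_sigma M fun j => (h j).1,
    (show IsZero (∐ fun j => (rho W.ι).obj (M j)) from ?_).of_iso (PreservesCoproduct.iso (rho W.ι) M)⟩
  exact (IsZero.iff_id_eq_zero _).2 (Sigma.hom_ext _ _ fun j => (h j).2.eq_of_src _ _)

lemma pq_sigma_nat (M : ℕ → DCoh.D X) [HasCoproduct M] (h : ∀ j, PQ W (M j)) : PQ W (∐ M) := by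
  haveI : HasColimitsOfShape (Discrete (ULift.{u} ℕ)) (DCoh.D X) :=
    TriCat.hasColimitsOfShape_derivedCategory
  exact (PQ W).prop_of_iso
    (Sigma.whiskerEquiv (f := fun j : ULift.{u} ℕ => M j.down) (g := M) Equiv.ulift fun _ => Iso.refl _)
    (pq_sigma W _ fun j => h j.down)

/-- Vanishing on `W` in terms of supports. -/
lemma isZero_rho_iff_support (K : DCoh.D X) :
    IsZero ((rho W.ι).obj K) ↔ ∀ i : ℤ, CohB1.support (DCoh.HD K i) ⊆ (W : Set X)ᶜ := by
  refine ⟨fun h i x hx hxW => hx ?_,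
    fun h => isZero_restrictD_of_support W K _ h fun x hx hx' => hx' hx⟩
  have hz : IsZero ((Scheme.Modules.restrictFunctor W.ι).obj (DCoh.HD K i)) :=
    (Functor.map_isZero _ h).of_iso (restrictHDIso W.ι K i).symm
  exact ModuleCat.subsingleton_of_isZero
    (isZero_stalk_of_restrict W.ι ⟨x, hxW⟩ ((DerSch.stalkFunctor _ _).map_isZero hz))

lemma isZero_rho_bot (K : DCoh.D X) : IsZero ((rho (⊥ : X.Opens).ι).obj K) :=
  (isZero_rho_iff_support _ K).2 fun i x _ h => h

lemma isZero_of_isZero_rho_top (K : DCoh.D X) (h : IsZero ((rho (⊤ : X.Opens).ι).obj K)) :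
    IsZero K := by
  refine (IsZero.iff_id_eq_zero _).2 ?_
  haveI : ∀ i, IsIso ((DerivedCategory.homologyFunctor X.Modules i).map (0 : K ⟶ K)) := fun i => by
    have hz : IsZero (DCoh.HD K i) := isZero_of_stalk _ fun x =>
      @ModuleCat.isZero_of_subsingleton _ _ _ (not_not.1 fun hne =>
        ((isZero_rho_iff_support _ K).1 h i hne) trivial)
    exact ⟨0, hz.eq_of_src _ _, hz.eq_of_src _ _⟩
  haveI h0 : IsIso (0 : K ⟶ K) := (DerivedCategory.isIso_iff X.Modules _).2 inferInstance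
  exact ((isIsoZeroEquiv _ _).toFun h0).1

lemma pq_bot_iff (K : DCoh.D X) : PQ (⊥ : X.Opens) K ↔ DCoh.IsQCohD K :=
  ⟨fun h => h.1, fun h => ⟨h, isZero_rho_bot K⟩⟩

/-- Restricting a restriction. -/
lemma isZero_rho_of_le {V W : X.Opens} (h : V ≤ W) {K : DCoh.D X} (hK : IsZero ((rho W.ι).obj K)) :
    IsZero ((rho V.ι).obj K) :=
  (isZero_rho_iff_support _ K).2 fun i => ((isZero_rho_iff_support _ K).1 hK i).trans
    (Set.compl_subset_compl.2 h)

lemma isZero_rho_inf {V W : X.Opens} {K : DCoh.D X} (hV : IsZero ((rho V.ι).obj K))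
    (hW : IsZero ((rho W.ι).obj K)) : IsZero ((rho (V ⊔ W).ι).obj K) :=
  (isZero_rho_iff_support _ K).2 fun i x hx hxu => (Opens.mem_sup.1 hxu).elim
    ((isZero_rho_iff_support _ K).1 hV i hx) ((isZero_rho_iff_support _ K).1 hW i hx)

/-- Vanishing after restriction, through a commutative triangle. -/
lemma isZero_rho_comp {V : Scheme.{u}} (i : V ⟶ U) [IsOpenImmersion i] (j : U ⟶ X) [IsOpenImmersion j]
    (k : V ⟶ X) [IsOpenImmersion k] (h : i ≫ j = k) (K : DCoh.D X) :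
    IsZero ((rho i).obj ((rho j).obj K)) ↔ IsZero ((rho k).obj K) :=
  (rhoComp i j k h K).isZero_iff

end Groth.Agent.DQGen
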