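import Groth.Agent.DQGen.Generator
import Groth.Agent.DQGen.Compact
import Groth.Agent.DQGen.Bounds

/-!
# Bounds of cohomology from vanishing of maps out of perfect objects
-/

set_option backward.isDefEq.respectTransparency false

universe u

open CategoryTheory CategoryTheory.Limits AlgebraicGeometry Pretriangulated TopologicalSpace ZeroObject Filter

attribute [local instance] HasDerivedCategory.standard

namespace Groth.Agent.DQGen

open Groth.Agent.KFlatLib

variable {X : Scheme.{u}}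

/-- Translation invariant filters on degrees. -/
def ShiftInv (l : Filter ℤ) : Prop := ∀ c : ℤ, Tendsto (fun i => i + c) l l

/-- Maps out of `K` into the shifts of `E` eventually vanish. -/
def Van (l : Filter ℤ) (K E : DCoh.D X) : Prop := ∀ᶠ i in l, ∀ φ : K ⟶ E⟦i⟧, φ = 0

/-- Cohomology eventually vanishes. -/
def Bd (l : Filter ℤ) (E : DCoh.D X) : Prop := ∀ᶠ i in l, IsZero (DCoh.HD E i)

/-- The easy direction. -/
def Fwd (l : Filter ℤ) : Prop := ∀ (X : Scheme.{u}) [CompactSpace X] [QuasiSeparatedSpace X]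
  (E K : DCoh.D X), DCoh.IsQCohD E → DCoh.IsPerfect K → Bd l E → Van l K E

lemma shiftInv_atBot : ShiftInv atBot := fun c => tendsto_atBot_add_const_right _ c tendsto_id

lemma shiftInv_atTop : ShiftInv atTop := fun c => tendsto_atTop_add_const_right _ c tendsto_id

lemma bd_atBot_iff (E : DCoh.D X) : Bd atBot E ↔ ∃ a : ℤ, E.IsGE a := by
  refine ⟨fun h => ?_, fun ⟨a, ha⟩ => eventually_atBot.2 ⟨a - 1, fun i hi =>
    (DerivedCategory.isGE_iff E a).1 ha i (by omega)⟩⟩
  obtain ⟨a, ha⟩ := eventually_atBot.1 h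
  exact ⟨a + 1, (DerivedCategory.isGE_iff E (a + 1)).2 fun i hi => ha i (by omega)⟩

lemma bd_atTop_iff (E : DCoh.D X) : Bd atTop E ↔ ∃ b : ℤ, E.IsLE b := by
  refine ⟨fun h => ?_, fun ⟨a, ha⟩ => eventually_atTop.2 ⟨a + 1, fun i hi =>
    (DerivedCategory.isLE_iff E a).1 ha i (by omega)⟩⟩
  obtain ⟨a, ha⟩ := eventually_atTop.1 h
  exact ⟨a - 1, (DerivedCategory.isLE_iff E (a - 1)).2 fun i hi => ha i (by omega)⟩

lemma fwd_atBot : Fwd.{u} atBot := fun X _ _ E K _ hK h => by
  obtain ⟨a, ha⟩ := (bd_atBot_iff E).1 h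
  obtain ⟨N, b, -, hb⟩ := exists_range hK
  exact eventually_atBot.2 ⟨a - b - 1, fun i hi φ =>
    hb _ (isGE_shift a i (b + 1) ha (by omega)) φ⟩

lemma fwd_atTop : Fwd.{u} atTop := fun X _ _ E K hE hK h => by
  obtain ⟨a, ha⟩ := (bd_atTop_iff E).1 h
  obtain ⟨N, b, hN, -⟩ := exists_range hK
  exact eventually_atTop.2 ⟨a - N, fun i hi φ =>
    hN _ (isQCohD_shift hE i) (isLE_shift a i N ha (by omega)) φ⟩

variable {l : Filter ℤ}

lemma ShiftInv.comp (hl : ShiftInv l) {p : ℤ → Prop} (h : ∀ᶠ i in l, p i) (c : ℤ) :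
    ∀ᶠ i in l, p (i + c) := (hl c).eventually h

/-- Quantitative detection by Koszul objects. -/
lemma isZero_homology_of_kz {R : CommRingCat.{u}} : ∀ (l : List R)
    (N : DerivedCategory (ModuleCat.{u} R)), (∀ f ∈ l, Tors f N) → ∀ n : ℤ,
    (∀ φ : kz l ⟶ N⟦n⟧, φ = 0) →
      IsZero ((DerivedCategory.homologyFunctor (ModuleCat.{u} R) n).obj N)
  | [], N, _, n, h => by
    let e := ((DerivedCategory.homologyFunctor (ModuleCat.{u} R) 0).shiftIso n 0 n (add_zero n)).app N
    refine IsZero.of_iso ?_ e.symm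
    haveI : CategoryTheory.Projective (ModuleCat.of R R) := inferInstance
    have hb := bijective_psiC_of_projective (P := ModuleCat.of R R) 0 (N⟦n⟧)
    refine @ModuleCat.isZero_of_subsingleton _ _ _ (subsingleton_of_forall_eq 0 fun m => ?_)
    obtain ⟨φ, hφ⟩ := hb.2 (ModuleCat.ofHom (LinearMap.toSpanSingleton R _ m))
    obtain rfl := h φ
    have : psiC 0 (ModuleCat.of R R) (N⟦n⟧) 0 = 0 := by unfold psiC; rw [Functor.map_zero, comp_zero]
    rw [this] at hφ
    have h1 := congrArg (fun t => t.hom (1 : R)) hφ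
    exact (h1.trans (one_smul R m)).symm
  | g :: l, N, ht, n, h => by
    obtain ⟨b, c, hT⟩ := kz_cons g l
    refine isZero_homology_of_kz l N (fun f hf => ht f (List.mem_cons_of_mem _ hf)) n fun φ => ?_
    obtain ⟨k, hk⟩ := tors_hom l (N⟦n⟧) ((ht g List.mem_cons_self).shift n) φ
    have hinj : ∀ ψ : kz l ⟶ N⟦n⟧, g • ψ = 0 → ψ = 0 := fun ψ hψ => by
      obtain ⟨χ, hχ⟩ := Triangle.yoneda_exact₂ _ hT ψ (by
        change (g • 𝟙 (kz l)) ≫ ψ = 0
        rw [Linear.smul_comp, Category.id_comp, hψ])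
      rw [hχ, h χ, comp_zero]
    clear h
    induction k with
    | zero => simpa using hk
    | succ k ih =>
      refine ih (hinj _ ?_)
      rw [← mul_smul, ← pow_succ', hk]

/-- The induction statement. -/
def BdProp (l : Filter ℤ) (X : Scheme.{u}) : Prop :=
  ∀ W : X.Opens, IsCompact (W : Set X) → ∀ E : DCoh.D X, PQ W E →
    (∀ K, PP W K → Van l K E) → Bd l E

theorem bdProp_spec (l : Filter ℤ) (R : CommRingCat.{u}) : BdProp l (Spec R) := by
  intro W hW E hE h
  haveI := QCoh.tilde_preservesFiniteLimits (R := R)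
  let B : R → (Spec R).Opens := fun f => PrimeSpectrum.basicOpen f
  have hex : ∀ x : W, ∃ f : R, (B f : Set (Spec R)) ⊆ (W : Set (Spec R)) ∧
      x.1 ∈ PrimeSpectrum.basicOpen f := fun x => by
    obtain ⟨_, ⟨f, rfl⟩, hx, hsub⟩ :=
      PrimeSpectrum.isTopologicalBasis_basic_opens.exists_subset_of_mem_open x.2 W.2
    exact ⟨f, hsub, hx⟩
  choose f hfW hxf using hex
  obtain ⟨t, ht⟩ := hW.elim_finite_subcover (fun x : W => (B (f x) : Set (Spec R)))
    (fun x => (PrimeSpectrum.basicOpen (f x)).2) (fun x hx => Set.mem_iUnion.2 ⟨⟨x, hx⟩, hxf ⟨x, hx⟩⟩)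
  let fs := t.toList.map f
  have hiff : ∀ N, (∀ g ∈ fs, Tors g N) ↔ IsZero ((rho W.ι).obj ((DCoh.tildeD R).obj N)) := fun N => by
    refine ⟨fun h => (isZero_rho_iff_support W _).2 fun i x hx hxW => hx ?_, fun h g hg => ?_⟩
    · obtain ⟨y, hy, hxy⟩ := Set.mem_iUnion₂.1 (ht hxW)
      exact (tors_iff_support (f y) N).1 (h _ (List.mem_map.2 ⟨y, Finset.mem_toList.2 hy, rfl⟩)) i x hxy
    · obtain ⟨y, -, rfl⟩ := List.mem_map.1 hg
      exact (tors_iff_support (f y) N).2 fun i x hx =>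
        not_not.1 fun hne => (isZero_rho_iff_support W _).1 h i hne (hfW y hx)
  obtain ⟨N, ⟨eN⟩⟩ := exists_tildeD_iso hE.1
  have htors := (hiff N).2 ((PQ W).prop_of_iso eN.symm hE).2
  filter_upwards [h _ ⟨isPerfect_tildeD_kz fs, (hiff _).1 (tors_kz fs)⟩] with i hi
  have h0 := isZero_homology_of_kz fs N htors i fun ψ => (tildeD_map_bijective _ _).1 (by
    rw [Functor.map_zero, ← cancel_mono (((DCoh.tildeD R).commShiftIso i).hom.app N ≫ eN.hom⟦i⟧'),
      zero_comp]
    exact hi _)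
  exact (((tilde.functor R).map_isZero h0).of_iso ((mapDCHomologyIso (tilde.functor R) i).app N)).of_iso
    ((DerivedCategory.homologyFunctor _ i).mapIso eN.symm)

/-- Vanishing of cohomology is local. -/
lemma bd_of_cover {U V : X.Opens} (hUV : U ⊔ V = ⊤) {E : DCoh.D X}
    (hU : Bd l ((rho U.ι).obj E)) (hV : Bd l ((rho V.ι).obj E)) : Bd l E := by
  filter_upwards [hU, hV] with i hiU hiV
  refine isZero_of_stalk _ fun x => ?_
  rcases Opens.mem_sup.1 (show x ∈ U ⊔ V by rw [hUV]; trivial) with hx | hx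
  · exact isZero_stalk_of_restrict U.ι ⟨x, hx⟩
      ((DerSch.stalkFunctor _ _).map_isZero (hiU.of_iso (restrictHDIso U.ι E i).symm))
  · exact isZero_stalk_of_restrict V.ι ⟨x, hx⟩
      ((DerSch.stalkFunctor _ _).map_isZero (hiV.of_iso (restrictHDIso V.ι E i).symm))

lemma bd_of_isZero {E : DCoh.D X} (h : IsZero E) : Bd l E :=
  Eventually.of_forall fun _ => Functor.map_isZero _ h

lemma bd_rho {U : Scheme.{u}} (j : U ⟶ X) [IsOpenImmersion j] {E : DCoh.D X} (h : Bd l E) :
    Bd l ((rho j).obj E) := by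
  filter_upwards [h] with i hi
  exact ((Scheme.Modules.restrictFunctor j).map_isZero hi).of_iso (restrictHDIso j E i)

variable [CompactSpace X] [QuasiSeparatedSpace X]

/-- The symmetric half of the induction step. -/
theorem bd_rho_step (hl : ShiftInv l) (hf : Fwd.{u} l) (U V : X.Opens) (hUV : U ⊔ V = ⊤)
    (hU : IsCompact (U : Set X)) (hV : IsCompact (V : Set X)) (hQU : BdProp l (U : Scheme.{u}))
    (hQV : BdProp l (V : Scheme.{u})) (W : X.Opens) (hW : IsCompact (W : Set X)) (E : DCoh.D X)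
    (hE : PQ W E) (hVan : ∀ K, PP W K → Van l K E) : Bd l ((rho U.ι).obj E) := by
  haveI : CompactSpace (U : Scheme.{u}) := compactSpace_opens hU
  haveI : CompactSpace (V : Scheme.{u}) := compactSpace_opens hV
  haveI : QuasiSeparatedSpace (U : Scheme.{u}) := quasiSeparatedSpace_of_imm U.ι
  haveI : QuasiSeparatedSpace (V : Scheme.{u}) := quasiSeparatedSpace_of_imm V.ι
  let O := U ⊔ W
  have hOc : IsCompact (O : Set X) := by
    simp only [O, Opens.coe_sup]; exact hU.union hW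
  obtain ⟨C, b, c, hT⟩ := distinguished_cocone_triangle ((adj U.ι).unit.app E)
  have hpush : PQ W ((DCoh.Rpush U.ι).obj ((rho U.ι).obj E)) :=
    pq_rpush U.ι W (isQCohD_rho U.ι hE.1) (isZero_rho_preimage U.ι W hE.2)
  have hC : PQ O C := ⟨isQCohD_obj₃ hT hE.1 hpush.1, isZero_rho_inf
    (isZero_rho_of_range_le U.ι _ le_rfl (isZero_rho_cone_unit U.ι b c hT))
    (isZero_rho_obj₂ W (rot_of_distTriang _ hT) hpush.2 (isZero_rho_shift W hE.2 1))⟩
  have hVanC : ∀ K, PP O K → Van l K C := fun K hK => by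
    filter_upwards [hl.comp (hVan K ⟨hK.1, isZero_rho_of_le le_sup_right hK.2⟩) 1] with n hn φ
    have h3 : φ ≫ ((Triangle.shiftFunctor (DCoh.D X) n).obj
        (Triangle.mk ((adj U.ι).unit.app E) b c)).mor₃ = 0 := by
      rw [← cancel_mono ((shiftFunctorAdd' (DCoh.D X) n 1 (n + 1) rfl).inv.app E), zero_comp]
      exact hn _
    obtain ⟨χ, hχ⟩ := Triangle.coyoneda_exact₃ _ (Triangle.shift_distinguished _ hT n) φ h3
    have hχ0 : χ = 0 := by
      change K ⟶ ((DCoh.Rpush U.ι).obj ((rho U.ι).obj E))⟦n⟧ at χ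
      apply (shiftFunctor _ (-n)).map_injective
      rw [Functor.map_zero,
        ← cancel_mono ((shiftFunctorCompIsoId (DCoh.D X) n (-n) (by simp)).hom.app _), zero_comp]
      exact eq_zero_of_restrict_isZero U.ι
        (isZero_rho_shift U (isZero_rho_of_le le_sup_left hK.2) (-n)) _
    rw [hχ, hχ0, zero_comp]
  have hVO : V.ι.opensRange ⊔ O = ⊤ := by
    rw [Scheme.Opens.opensRange_ι]
    refine top_unique ?_
    rw [← hUV]
    exact sup_le (le_sup_left.trans le_sup_right) le_sup_left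
  have hCbd : Bd l C := by
    refine bd_of_cover hUV (bd_of_isZero (isZero_rho_of_le le_sup_left hC.2))
      (hQV (V.ι ⁻¹ᵁ O) (isCompact_preimage V.ι hOc) _
        ⟨isQCohD_rho V.ι hC.1, isZero_rho_preimage V.ι O hC.2⟩ fun q hq => ?_)
    have hR : PP O ((DCoh.Rpush V.ι).obj q) := by
      refine ⟨isPerfect_rpush_of_support V q hq.1 (((V.ι ⁻¹ᵁ O : V.toScheme.Opens) : Set V.toScheme)ᶜ) ?_
        ((isZero_rho_iff_support _ q).1 hq.2), isZero_rho_rpush V.ι O hq.2⟩
      have : (fun x : (V : Scheme.{u}) => V.ι.base x) '' ((V.ι ⁻¹ᵁ O : V.toScheme.Opens) : Set V.toScheme)ᶜ =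
          (O : Set X)ᶜ := by
        ext x
        constructor
        · rintro ⟨y, hy, rfl⟩; exact hy
        · intro hx
          have hxV : x ∈ V := by
            rcases Opens.mem_sup.1 (show x ∈ U ⊔ V by rw [hUV]; trivial) with h | h
            · exact absurd (Opens.mem_sup.2 (Or.inl h)) hx
            · exact h
          exact ⟨⟨x, hxV⟩, hx, rfl⟩
      rw [this]
      exact O.2.isClosed_compl
    filter_upwards [hVanC _ hR] with n hn ψ
    haveI := isIso_unit V.ι O hVO (isZero_rho_shift O hC.2 n)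
    obtain ⟨φ, hφ⟩ := exists_preimage V.ι (A := (DCoh.Rpush V.ι).obj q) (B := C⟦n⟧)
      ((restrictPushIso V.ι q).hom ≫ ψ ≫ ((rho V.ι).commShiftIso n).inv.app C)
    rw [hn φ, Functor.map_zero] at hφ
    rw [← cancel_epi (restrictPushIso V.ι q).hom, comp_zero,
      ← cancel_mono (((rho V.ι).commShiftIso n).inv.app C), Category.assoc, ← hφ, zero_comp]
  have hVanR : ∀ K, PP W K → Van l K ((DCoh.Rpush U.ι).obj ((rho U.ι).obj E)) := fun K hK => by
    filter_upwards [hVan K hK, hf X C K hC.1 hK.1 hCbd] with n hn hnC φ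
    obtain ⟨χ, hχ⟩ := Triangle.coyoneda_exact₂ _ (Triangle.shift_distinguished _ hT n) φ (hnC _)
    rw [hχ, hn χ, zero_comp]
  refine hQU (U.ι ⁻¹ᵁ W) (isCompact_preimage U.ι hW) _
    ⟨isQCohD_rho U.ι hE.1, isZero_rho_preimage U.ι W hE.2⟩ fun p hp => ?_
  obtain ⟨P, hP, ⟨e⟩⟩ := exists_extension_double U.ι (hasDetector X) W hW hp.1 hp.2
  letI := (adj U.ι).rightAdjointCommShift ℤ
  filter_upwards [hVanR P hP] with n hn ψ
  have h1 : ((adj U.ι).homEquiv P _ (e.hom ≫ biprod.fst ≫ ψ)) ≫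
      ((DCoh.Rpush U.ι).commShiftIso n).hom.app _ = 0 := hn _
  have h2 : (adj U.ι).homEquiv P _ (e.hom ≫ biprod.fst ≫ ψ) = 0 := by
    rw [← cancel_mono (((DCoh.Rpush U.ι).commShiftIso n).hom.app ((rho U.ι).obj E)), zero_comp]
    exact h1
  have h3 : e.hom ≫ biprod.fst ≫ ψ = 0 := by
    apply ((adj U.ι).homEquiv P _).injective
    rw [h2, Adjunction.homEquiv_unit, Functor.map_zero, comp_zero]
  have := congrArg (fun t => biprod.inl ≫ e.inv ≫ t) h3
  simpa using this

omit [CompactSpace X] [QuasiSeparatedSpace X] in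
theorem bdProp_of_isAffine (l : Filter ℤ) (X : Scheme.{u}) [IsAffine X] : BdProp l X := by
  intro W hW E hE h
  let j := X.isoSpec.inv
  have hj : j.opensRange = ⊤ := Scheme.Hom.opensRange_of_isIso _
  have hu : ∀ K : DCoh.D X, IsIso ((adj j).unit.app K) := fun K =>
    isIso_unit j ⊥ (by rw [hj]; exact top_sup_eq _) (isZero_rho_bot K)
  have key := bdProp_spec l _ (j ⁻¹ᵁ W) (isCompact_preimage j hW) _
    ⟨isQCohD_rho j hE.1, isZero_rho_preimage j W hE.2⟩ fun q hq => by
      have hR : PP W ((DCoh.Rpush j).obj q) :=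
        ⟨(isPerfect_iff _).2 (LocSP.of_local fun x => ⟨_, j, inferInstance, hj.ge (Opens.mem_top x),
          (isPerfect_iff _).1 (isPerfect_of_iso (restrictPushIso j q).symm hq.1)⟩),
          isZero_rho_rpush j W hq.2⟩
      filter_upwards [h _ hR] with n hn ψ
      haveI := hu (E⟦n⟧)
      obtain ⟨φ, hφ⟩ := exists_preimage j (A := (DCoh.Rpush j).obj q) (B := E⟦n⟧)
        ((restrictPushIso j q).hom ≫ ψ ≫ ((rho j).commShiftIso n).inv.app E)
      rw [hn φ, Functor.map_zero] at hφ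
      rw [← cancel_epi (restrictPushIso j q).hom, comp_zero,
        ← cancel_mono (((rho j).commShiftIso n).inv.app E), Category.assoc, ← hφ, zero_comp]
  filter_upwards [key] with i hi
  refine isZero_of_stalk _ fun x => ?_
  obtain ⟨y, rfl⟩ := hj.ge (Opens.mem_top x)
  exact isZero_stalk_of_restrict j y ((DerSch.stalkFunctor _ _).map_isZero (hi.of_iso (restrictHDIso j E i).symm))

theorem bdProp (hl : ShiftInv l) (hf : Fwd.{u} l) : BdProp l X :=
  qcqs_induction (Q := BdProp l) (fun X _ => bdProp_of_isAffine l X)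
    (fun X _ _ U V hUV hU hV hQU hQV _ W hW E hE h => bd_of_cover hUV
      (bd_rho_step hl hf U V hUV hU hV.isCompact hQU hQV W hW E hE h)
      (bd_rho_step hl hf V U (by rw [sup_comm]; exact hUV) hV.isCompact hU hQV hQU W hW E hE h)) X

/-- Vanishing out of a generator gives vanishing out of all perfect objects. -/
theorem van_of_generator (hl : ShiftInv l) {G : DCoh.D X} (hG : DCoh.IsPerfect G)
    (hgen : ∀ E : DCoh.D X, DCoh.IsQCohD E → (∀ (n : ℤ) (φ : G⟦n⟧ ⟶ E), φ = 0) → IsZero E)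
    {E : DCoh.D X} (h : Van l G E) {K : DCoh.D X} (hK : DCoh.IsPerfect K) : Van l K E := by
  let Ψ : ObjectProperty (DCoh.D X) := fun K => PP (⊥ : X.Opens) K ∧ Van l K E
  haveI : Ψ.IsClosedUnderIsomorphisms := ⟨fun {A B} e hA => ⟨(PP _).prop_of_iso e hA.1, by
    filter_upwards [hA.2] with i hi φ
    rw [← cancel_epi e.hom, comp_zero]
    exact hi _⟩⟩
  haveI : Ψ.IsTriangulated :=
    { exists_zero := ⟨0, isZero_zero _, ⟨isPerfect_of_isZero (isZero_zero _), isZero_rho_bot _⟩,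
        Eventually.of_forall fun _ φ => (isZero_zero _).eq_of_src _ _⟩
      isStableUnderShiftBy := fun n => ⟨fun A hA => ⟨(PP _).le_shift n _ hA.1, by
        filter_upwards [hl.comp hA.2 (-n)] with i hi φ
        apply (shiftFunctor _ (-n)).map_injective
        rw [Functor.map_zero,
          ← cancel_epi ((shiftFunctorCompIsoId (DCoh.D X) n (-n) (by simp)).inv.app A),
          ← cancel_mono ((shiftFunctorAdd' (DCoh.D X) i (-n) (i + -n) rfl).inv.app E),
          comp_zero, zero_comp]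
        exact hi _⟩⟩
      toIsTriangulatedClosed₂ := .mk' fun T hT h₁ h₃ =>
        ⟨ObjectProperty.ext_of_isTriangulatedClosed₂ _ _ hT h₁.1 h₃.1, by
          filter_upwards [h₁.2, h₃.2] with i hi₁ hi₃ φ
          obtain ⟨χ, hχ⟩ := Triangle.yoneda_exact₂ _ hT φ (hi₁ _)
          rw [hχ, hi₃ χ, comp_zero]⟩ }
  obtain ⟨R, ψ, g, hR, hψ⟩ := exists_factor (F := 𝟭 (DCoh.D X)) (PQ (⊥ : X.Opens)) Ψ
    (fun _ M => pq_sigma _ M) (fun M => pq_sigma_nat _ M)
    (fun _ h => h.1.pq) (fun _ h => compactIn_of_isPerfect _ h.1.1)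
    (fun n : ULift.{u} ℤ => G⟦n.down⟧)
    (fun n => Ψ.le_shift n.down _ ⟨⟨hG, isZero_rho_bot G⟩, h⟩)
    (fun L hL h0 => hgen L hL.1 fun n φ => h0 ⟨n⟩ φ)
    (compactIn_of_isPerfect _ hK) ((pq_bot_iff K).2 (isQCohD_of_isPerfect hK)) (𝟙 K)
  replace hψ : 𝟙 K = ψ ≫ g := hψ
  filter_upwards [hR.2] with i hi φ
  rw [← Category.id_comp φ, hψ, Category.assoc, hi (g ≫ φ), comp_zero]

/-- Boundedness is detected by a generator. -/
theorem bd_iff_van (hl : ShiftInv l) (hf : Fwd.{u} l) {G : DCoh.D X} (hG : DCoh.IsPerfect G)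
    (hgen : ∀ E : DCoh.D X, DCoh.IsQCohD E → (∀ (n : ℤ) (φ : G⟦n⟧ ⟶ E), φ = 0) → IsZero E)
    {E : DCoh.D X} (hE : DCoh.IsQCohD E) : Bd l E ↔ Van l G E :=
  ⟨hf X E G hE hG, fun h => bdProp hl hf ⊥ (by simp) E ((pq_bot_iff E).2 hE)
    fun _ hK => van_of_generator hl hG hgen h hK.1⟩

/-- Vanishing out of negative shifts. -/
lemma van_iff_neg_shift (l : Filter ℤ) (G E : DCoh.D X) :
    Van l G E ↔ ∀ᶠ i in l, ∀ φ : G⟦-i⟧ ⟶ E, φ = 0 := by
  refine eventually_congr (Eventually.of_forall fun i => ⟨fun h => eq_zero_of_shift (-i) i (by simp) h, fun h φ => ?_⟩)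
  apply (shiftFunctor _ (-i)).map_injective
  rw [Functor.map_zero, ← cancel_mono ((shiftFunctorCompIsoId (DCoh.D X) i (-i) (by simp)).hom.app E),
    zero_comp]
  exact h _

end Groth.Agent.DQGen
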