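import Groth.Agent.TriCat.BrownCompact
import Mathlib.CategoryTheory.EssentiallySmall

/-! Brown representability with sums indexed in a smaller universe than the morphisms. -/

universe w w' v u

open CategoryTheory Category Limits Opposite Pretriangulated DerLim ZeroObject
open Pretriangulated.Opposite
open Groth.Agent.TriCat (res res_id res_comp res_exact res_zero res_zero_arg res_sub res_sub_arg exists_sum_elem sum_elem_ext hocolim_bijective exists_hocolim_class CountPerfect)

namespace Groth.Agent.DQGen.Brown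


variable {D : Type u} [Category.{v} D] [Preadditive D] [HasZeroObject D] [HasShift D ℤ]
  [∀ n : ℤ, (shiftFunctor D n).Additive] [Pretriangulated D] [HasCoproducts.{w} D]

lemma preservesDiscreteNat_of_preserves {C : Type*} [Category C] (F : D ⥤ C)
    [∀ κ : Type w, PreservesColimitsOfShape (Discrete κ) F] :
    PreservesColimitsOfShape (Discrete ℕ) F :=
  preservesColimitsOfShape_of_equiv
    (Discrete.equivalence (Equiv.ulift.{w} : ULift.{w} ℕ ≃ ℕ)) F

lemma preservesDiscreteNat_op_of_preserves {C : Type*} [Category C] (H : Dᵒᵖ ⥤ C)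
    [∀ κ : Type w, PreservesLimitsOfShape (Discrete κ) H] :
    PreservesLimitsOfShape (Discrete ℕ) H :=
  preservesLimitsOfShape_of_equiv
    (Discrete.equivalence (Equiv.ulift.{w} : ULift.{w} ℕ ≃ ℕ)) H

omit [Preadditive D] [HasZeroObject D] [HasShift D ℤ] [HasCoproducts.{w} D]
  [∀ n : ℤ, (shiftFunctor D n).Additive] [Pretriangulated D] in
lemma res_add_arg (H : Dᵒᵖ ⥤ AddCommGrpCat.{v}) {A B : D} (g : A ⟶ B) (x y : H.obj (op B)) :
    res H g (x + y) = res H g x + res H g y := by
  simp [res]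

variable {ι : Type w} (E : ι → D) (H : Dᵒᵖ ⥤ AddCommGrpCat.{v}) [H.IsHomological]
  [∀ κ : Type w, PreservesLimitsOfShape (Discrete κ) H] [LocallySmall.{w} D]

/-- One step of the construction: kill all relations coming from the generators. -/
lemma exists_step (X : D) (x : H.obj (op X)) :
    ∃ (X' : D) (x' : H.obj (op X')) (f : X ⟶ X'), res H f x' = x ∧
      (∀ (i : ι) (g : E i ⟶ X), res H g x = 0 → g ≫ f = 0) ∧
      ∃ (κ : Type w) (a : κ → ι) (y : (∐ fun k => E (a k)) ⟶ X)
        (z : X' ⟶ (∐ fun k => E (a k))⟦(1 : ℤ)⟧), Triangle.mk y f z ∈ distTriang D := by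
  let Rel := Σ i : ι, { g : E i ⟶ X // res H g x = 0 }
  let ek : Rel ≃ Shrink.{w} Rel := equivShrink _
  let κ := Shrink.{w} Rel
  let y : (∐ fun k : κ => E (ek.symm k).1) ⟶ X := Sigma.desc fun k => (ek.symm k).2.1
  obtain ⟨X', f, z, hT⟩ := Pretriangulated.distinguished_cocone_triangle y
  obtain ⟨x', hx'⟩ : ∃ x' : H.obj (op X'), res H f x' = x := by
    refine res_exact H _ hT x ?_
    show res H y x = 0
    refine sum_elem_ext H fun k => ?_
    rw [← res_comp, Sigma.ι_desc, (ek.symm k).2.2, res_zero_arg]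
  refine ⟨X', x', f, hx', fun i g hg => ?_, κ, fun k => (ek.symm k).1, y, z, hT⟩
  have h0 : y ≫ f = 0 := comp_distTriang_mor_zero₁₂ _ hT
  obtain ⟨k, hk⟩ := ek.symm.surjective ⟨i, g, hg⟩
  have h1 : ∀ (p : Rel), ek.symm k = p → p.2.1 ≫ f = 0 := by
    rintro p rfl
    rw [← (Sigma.ι_desc (fun k : κ => (ek.symm k).2.1) k), assoc]
    exact (congrArg (_ ≫ ·) h0).trans comp_zero
  exact h1 _ hk

/-- The inductive system attached to a class. -/
lemma exists_system (X₀ : D) (x₀ : H.obj (op X₀)) :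
    ∃ (F : ℕ ⥤ D) (x : ∀ n, H.obj (op (F.obj n))) (e : X₀ ≅ F.obj 0), res H e.hom (x 0) = x₀ ∧
      (∀ n, res H (F.map (homOfLE (Nat.le_succ n))) (x (n + 1)) = x n) ∧
      (∀ n (i : ι) (g : E i ⟶ F.obj n), res H g (x n) = 0 →
        g ≫ F.map (homOfLE (Nat.le_succ n)) = 0) ∧
      ∀ n, ∃ (κ : Type w) (a : κ → ι) (y : (∐ fun k => E (a k)) ⟶ F.obj n)
        (z : F.obj (n + 1) ⟶ (∐ fun k => E (a k))⟦(1 : ℤ)⟧),
        Triangle.mk y (F.map (homOfLE (Nat.le_succ n))) z ∈ distTriang D := by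
  choose nX nx nf hnx hnk hnt using exists_step E H
  let S : ℕ → Σ X : D, H.obj (op X) := fun n =>
    Nat.rec ⟨X₀, x₀⟩ (fun _ p => ⟨nX p.1 p.2, nx p.1 p.2⟩) n
  let f : ∀ n, (S n).1 ⟶ (S (n + 1)).1 := fun n => nf (S n).1 (S n).2
  refine ⟨Functor.ofSequence f, fun n => (S n).2, Iso.refl _, res_id H _,
    fun n => ?_, fun n i g hg => ?_, fun n => ?_⟩
  · rw [show (Functor.ofSequence f).map (homOfLE (Nat.le_succ n)) = f n from
      Functor.ofSequence_map_homOfLE_succ f n]
    exact hnx _ _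
  · rw [show (Functor.ofSequence f).map (homOfLE (Nat.le_succ n)) = f n from
      Functor.ofSequence_map_homOfLE_succ f n]
    exact hnk _ _ i g hg
  · rw [show (Functor.ofSequence f).map (homOfLE (Nat.le_succ n)) = f n from
      Functor.ofSequence_map_homOfLE_succ f n]
    exact hnt _ _

omit [HasCoproducts.{w} D] in
/-- The generators detect zero objects, hence isomorphisms. -/
lemma isIso_of_bijective_on_generators
    (h1 : ∀ X : D, (∀ (i : ι) (f : E i ⟶ X), f = 0) → IsZero X)
    (hs : ∀ i, ∃ j, Nonempty (E j ≅ (E i)⟦(-1 : ℤ)⟧))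
    {X Y : D} (a : X ⟶ Y) (ha : ∀ i, Function.Bijective (fun g : E i ⟶ X => g ≫ a)) : IsIso a := by
  obtain ⟨Z, b, c, hT⟩ := Pretriangulated.distinguished_cocone_triangle a
  refine (Triangle.isZero₃_iff_isIso₁ _ hT).1 (h1 Z fun i g => ?_)
  have hg : g ≫ c = 0 := by
    obtain ⟨j, ⟨e⟩⟩ := hs i
    let d : (E i)⟦(-1 : ℤ)⟧⟦(1 : ℤ)⟧ ≅ E i :=
      (shiftFunctorCompIsoId D (-1 : ℤ) 1 (by simp)).app (E i)
    obtain ⟨y0, hy0⟩ := (shiftFunctor D (1 : ℤ)).map_surjective (d.hom ≫ g ≫ c)
    have h' : y0 ≫ a = 0 := by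
      apply (shiftFunctor D (1 : ℤ)).map_injective
      rw [Functor.map_comp, hy0, assoc, assoc,
        show c ≫ a⟦(1 : ℤ)⟧' = 0 from comp_distTriang_mor_zero₃₁ _ hT, comp_zero, comp_zero,
        Functor.map_zero]
    have : e.hom ≫ y0 = 0 := (ha j).1 (show (e.hom ≫ y0) ≫ a = 0 ≫ a by
      rw [assoc, h', comp_zero, zero_comp])
    have : y0 = 0 := by rw [← cancel_epi e.hom, this, comp_zero]
    rw [← cancel_epi d.hom, ← hy0, this, Functor.map_zero, comp_zero]
  obtain ⟨g', hg'⟩ := Triangle.coyoneda_exact₃ _ hT g hg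
  change E i ⟶ Y at g'
  obtain ⟨k, hk⟩ := (ha i).2 g'
  change k ≫ a = g' at hk
  change g = g' ≫ b at hg'
  rw [hg', ← hk, assoc, show a ≫ b = 0 from comp_distTriang_mor_zero₁₂ _ hT, comp_zero]

variable [∀ i, Small.{w} (H.obj (op (E i)))] (h2 : ∀ [HasColimitsOfShape (Discrete ℕ) D], CountPerfect E)
  (hs : ∀ i, ∃ j, Nonempty (E j ≅ (E i)⟦(-1 : ℤ)⟧))

include h2 hs in
/-- Every class extends to one which is universal on the generators. -/
lemma exists_extension (Z : D) (z : H.obj (op Z)) :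
    ∃ (L : D) (xL : H.obj (op L)) (a : Z ⟶ L), res H a xL = z ∧
      ∀ i, Function.Bijective (fun g : E i ⟶ L => res H g xL) := by
  haveI : HasColimitsOfShape (Discrete ℕ) D :=
    hasColimitsOfShape_of_equivalence (Discrete.equivalence (Equiv.ulift.{w} : ULift.{w} ℕ ≃ ℕ))
  have := preservesDiscreteNat_op_of_preserves H
  let es : (Σ i : ι, H.obj (op (E i))) ≃ Shrink.{w} (Σ i : ι, H.obj (op (E i))) := equivShrink _
  let Y : Option (Shrink.{w} (Σ i : ι, H.obj (op (E i)))) → D
    | none => Z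
    | some p => E (es.symm p).1
  obtain ⟨x₀, hx₀⟩ := exists_sum_elem H Y (fun
    | none => z
    | some p => (es.symm p).2)
  obtain ⟨F, x, e, he, hx, hk, -⟩ := exists_system E H (∐ Y) x₀
  obtain ⟨L, inc, xL, hL, hxL⟩ := exists_hocolim_class H F x hx
  refine ⟨L, xL, Sigma.ι Y none ≫ e.hom ≫ inc 0, ?_, hocolim_bijective E H hx ?_ hk h2 hs hL xL hxL⟩
  · rw [res_comp, res_comp, hxL, he]
    exact hx₀ none
  · intro i a
    obtain ⟨k, hk⟩ := es.symm.surjective ⟨i, a⟩
    have key : ∀ p : (Σ i : ι, H.obj (op (E i))), es.symm k = p →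
        ∃ g : E p.1 ⟶ F.obj 0, res H g (x 0) = p.2 := by
      rintro p rfl
      refine ⟨Sigma.ι Y (some k) ≫ e.hom, ?_⟩
      rw [res_comp, he]
      exact hx₀ (some k)
    exact key _ hk

include h2 hs in
/-- Brown representability. -/
theorem isRepresentable_of_countPerfect
    (h1 : ∀ X : D, (∀ (i : ι) (f : E i ⟶ X), f = 0) → IsZero X) :
    (H ⋙ forget AddCommGrpCat.{v}).IsRepresentable := by
  obtain ⟨X, x, _, _, hX⟩ := exists_extension E H h2 hs (0 : D) 0
  have iso : ∀ {L : D} (xL : H.obj (op L)) (a : X ⟶ L), res H a xL = x →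
      (∀ i, Function.Bijective (fun g : E i ⟶ L => res H g xL)) → IsIso a := by
    intro L xL a ha hL
    refine isIso_of_bijective_on_generators E h1 hs a fun i => ?_
    refine (Function.Bijective.of_comp_iff' (hL i) _).1 ?_
    convert hX i using 1
    funext g
    simp [res_comp, ha]
  have surj : ∀ (Z : D) (h : H.obj (op Z)), ∃ g : Z ⟶ X, res H g x = h := by
    intro Z h
    obtain ⟨L, xL, a, ha, hL⟩ := exists_extension E H h2 hs (X ⊞ Z)
      (res H biprod.fst x + res H biprod.snd h)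
    have h₁ : res H (biprod.inl ≫ a) xL = x := by
      rw [res_comp, ha, res_add_arg, ← res_comp, ← res_comp, biprod.inl_fst, biprod.inl_snd,
        res_id, res_zero, add_zero]
    have h₂ : res H (biprod.inr ≫ a) xL = h := by
      rw [res_comp, ha, res_add_arg, ← res_comp, ← res_comp, biprod.inr_fst, biprod.inr_snd,
        res_id, res_zero, zero_add]
    have := iso xL _ h₁ hL
    refine ⟨biprod.inr ≫ a ≫ inv (biprod.inl ≫ a), ?_⟩
    calc res H (biprod.inr ≫ a ≫ inv (biprod.inl ≫ a)) x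
        = res H (biprod.inr ≫ a ≫ inv (biprod.inl ≫ a) ≫ biprod.inl ≫ a) xL := by
          rw [← h₁, ← res_comp]; simp only [assoc]
      _ = h := by rw [IsIso.inv_hom_id, comp_id, h₂]
  have inj : ∀ (Z : D) (g : Z ⟶ X), res H g x = 0 → g = 0 := by
    intro Z g hg
    obtain ⟨W, q, c, hT⟩ := Pretriangulated.distinguished_cocone_triangle g
    obtain ⟨w, hw⟩ := res_exact H _ hT x hg
    obtain ⟨b, hb⟩ := surj W w
    change res H q w = x at hw
    have : IsIso (q ≫ b) := iso x _ (by rw [res_comp, hb, hw]) hX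
    rw [← comp_id g, ← IsIso.hom_inv_id (q ≫ b)]
    simp only [assoc]
    rw [← assoc g q, show g ≫ q = 0 from comp_distTriang_mor_zero₁₂ _ hT, zero_comp]
  refine ⟨X, ⟨?_⟩⟩
  refine
    { homEquiv := fun {Z} => Equiv.ofBijective (fun g => res H g x) ⟨fun g g' hgg' => ?_, surj Z⟩
      homEquiv_comp := fun f g => res_comp H f g x }
  exact sub_eq_zero.1 (inj Z _ (by rw [res_sub]; exact sub_eq_zero.2 hgg'))

section Adjoint

variable {D' : Type*} [Category.{v} D'] [Preadditive D'] [HasZeroObject D'] [HasShift D' ℤ]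
  [∀ n : ℤ, (shiftFunctor D' n).Additive] [Pretriangulated D'] [LocallySmall.{w} D']

open Groth.Agent.TriCat (homInto isHomological_homInto shiftClosure shiftClosure_stable countPerfect_shiftClosure)

omit [LocallySmall.{w} D] in
lemma preservesLimits_homInto (F : D ⥤ D') [F.CommShift ℤ] [F.IsTriangulated]
    [∀ τ : Type w, PreservesColimitsOfShape (Discrete τ) F] (Y : D') (τ : Type w) :
    PreservesLimitsOfShape (Discrete τ) (homInto F Y) := by
  have : PreservesColimitsOfShape (Discrete τ)ᵒᵖ F :=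
    preservesColimitsOfShape_of_equiv (Discrete.opposite τ).symm F
  have : PreservesLimitsOfShape (Discrete τ) F.op := preservesLimitsOfShape_op _ F
  have : PreservesLimitsOfShape (Discrete τ)
      (preadditiveYoneda.obj Y ⋙ forget AddCommGrpCat.{v}) :=
    inferInstanceAs (PreservesLimitsOfShape (Discrete τ) (yoneda.obj Y))
  have : PreservesLimitsOfShape (Discrete τ) (preadditiveYoneda.obj Y) :=
    preservesLimitsOfShape_of_reflects_of_preserves _ (forget AddCommGrpCat.{v})
  exact inferInstanceAs (PreservesLimitsOfShape (Discrete τ) (F.op ⋙ preadditiveYoneda.obj Y))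

/-- An exact sum-preserving functor out of a category with a small countably perfect family detecting
zero objects has a right adjoint. -/
theorem isLeftAdjoint_of_generators {κ : Type w} (E : κ → D)
    (h1 : ∀ X : D, (∀ (p : κ × ℤ) (f : shiftClosure E p ⟶ X), f = 0) → IsZero X)
    (h2 : ∀ [HasColimitsOfShape (Discrete ℕ) D], CountPerfect E)
    (F : D ⥤ D') [F.CommShift ℤ] [F.IsTriangulated]
    [∀ τ : Type w, PreservesColimitsOfShape (Discrete τ) F] : F.IsLeftAdjoint := by
  refine F.isLeftAdjoint_of_rightAdjointObjIsDefined_eq_top ?_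
  ext Y
  simp only [Pi.top_apply, Prop.top_eq_true, iff_true]
  have := isHomological_homInto F Y
  have := preservesLimits_homInto F Y
  have (p : κ × ℤ) : Small.{w} ((homInto F Y).obj (op (shiftClosure E p))) :=
    LocallySmall.hom_small (F.obj (shiftClosure E p)) Y
  exact isRepresentable_of_countPerfect (shiftClosure E) (homInto F Y)
    (countPerfect_shiftClosure h2) (shiftClosure_stable E) h1

end Adjoint

end Groth.Agent.DQGen.Brown
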