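import Groth.Agent.DQGen.Vanish
import Groth.Agent.KFlatLib.BrutalTrunc
import Groth.Agent.KFlatLib.Scheme.TildePerf
import Groth.Agent.KFlatLib.Scheme.MVPush

/-!
# Countability of maps out of perfect objects
-/

set_option linter.style.haveILetI false
set_option backward.isDefEq.respectTransparency false

universe u v w

open CategoryTheory CategoryTheory.Limits AlgebraicGeometry Pretriangulated Opposite

attribute [local instance] HasDerivedCategory.standard

namespace Groth.Agent.DQGen

open Groth.Agent.KFlatLib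

lemma countable_of_ker {G H : Type*} [AddCommGroup G] [AddCommGroup H] (f : G →+ H) [Countable H]
    (hk : Countable f.ker) : Countable G := by
  classical
  let s : H → G := fun h => if hh : ∃ g, f g = h then hh.choose else 0
  have hs : ∀ g, f (s (f g)) = f g := fun g => by
    simp only [s, dif_pos (⟨g, rfl⟩ : ∃ g', f g' = f g)]
    exact (⟨g, rfl⟩ : ∃ g', f g' = f g).choose_spec
  refine Function.Injective.countable (f := fun g => (f g, (⟨g - s (f g), by
    rw [AddMonoidHom.mem_ker, map_sub, hs, sub_self]⟩ : f.ker))) fun a b h => ?_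
  simp only [Prod.mk.injEq, Subtype.mk.injEq] at h
  obtain ⟨h₁, h₂⟩ := h
  rw [h₁] at h₂
  exact sub_left_injective h₂

/-- Countability passes through exact sequences of homs. -/
lemma countable_hom_obj₂ {C : Type w} [Category.{v} C] [Preadditive C] [HasZeroObject C] [HasShift C ℤ]
    [∀ n : ℤ, (shiftFunctor C n).Additive] [Pretriangulated C] (T : Triangle C) (hT : T ∈ distTriang C)
    (N : C) (h₁ : Countable (T.obj₁ ⟶ N)) (h₃ : Countable (T.obj₃ ⟶ N)) : Countable (T.obj₂ ⟶ N) := by
  refine countable_of_ker (Preadditive.leftComp N T.mor₁) ?_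
  refine @Function.Surjective.countable (T.obj₃ ⟶ N) _ h₃ (fun ψ => ⟨T.mor₂ ≫ ψ, ?_⟩) ?_
  · rw [AddMonoidHom.mem_ker]
    change T.mor₁ ≫ T.mor₂ ≫ ψ = 0
    rw [← Category.assoc, comp_distTriang_mor_zero₁₂ _ hT, zero_comp]
  · rintro ⟨φ, hφ⟩
    obtain ⟨ψ, hψ⟩ := Triangle.yoneda_exact₂ _ hT φ (AddMonoidHom.mem_ker.1 hφ)
    exact ⟨ψ, Subtype.ext hψ.symm⟩

section Ring

variable {R : CommRingCat.{u}} {N : DerivedCategory (ModuleCat.{u} R)}
  (hN : ∀ i, Countable ((DerivedCategory.homologyFunctor (ModuleCat.{u} R) i).obj N))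

include hN

lemma countable_hom_single (M : ModuleCat.{u} R) [Module.Finite R M] [Module.Projective R M] (c : ℤ) :
    Countable ((DerivedCategory.singleFunctor (ModuleCat.{u} R) c).obj M ⟶ N) := by
  haveI : Projective M := (IsProjective.iff_projective (R := R) M).1 inferInstance
  haveI := hN c
  obtain ⟨n, x, hx⟩ := Module.Finite.exists_fin (R := R) (M := M)
  haveI : Countable (M ⟶ (DerivedCategory.homologyFunctor (ModuleCat.{u} R) c).obj N) :=
    Function.Injective.countable (f := fun g k => g.hom (x k)) fun g g' h =>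
      ModuleCat.hom_ext (LinearMap.ext_on hx (by rintro _ ⟨k, rfl⟩; exact congrFun h k))
  exact (bijective_psiC_of_projective c N).1.countable

/-- Maps out of bounded complexes of finite projectives. -/
theorem countable_hom_cx : ∀ (m : ℕ) (a : ℤ) (P : CochainComplex (ModuleCat.{u} R) ℤ),
    (∀ i, (i < a ∨ a + m ≤ i) → IsZero (P.X i)) →
    (∀ i, Module.Finite R (P.X i) ∧ Module.Projective R (P.X i)) →
      Countable (DerivedCategory.Q.obj P ⟶ N)
  | 0, a, P, hz, _ => by
    have : IsZero (DerivedCategory.Q.obj P) := Functor.map_isZero _ ((IsZero.iff_id_eq_zero _).2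
      (HomologicalComplex.hom_ext _ _ fun i => (hz i (by omega)).eq_of_src _ _))
    exact ⟨⟨fun _ => 0, fun f g _ => this.eq_of_src f g⟩⟩
  | m + 1, a, P, hz, hP => by
    let c := a + m
    let S := sigmaSES P c
    have hS := sigmaSES_shortExact P c
    have hse := fun n => hS.map_of_exact (HomologicalComplex.eval _ (ComplexShape.up ℤ) n)
    have hle := isStrictlyLE_sigmaSES_X₃ P c
    rw [CochainComplex.isStrictlyLE_iff] at hle
    have hX₁ : ∀ i, i ≠ c → IsZero (S.X₁.X i) := fun i hi => by
      by_cases h : i < c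
      · exact isZero_stupidTrunc_of_lt P c i h
      · haveI := mono_sigmaGEι_f P c i
        exact IsZero.of_mono ((sigmaGEι P c).f i) (hz i (by simp only [c] at *; omega))
    haveI : S.X₁.IsStrictlyGE c := (CochainComplex.isStrictlyGE_iff _ c).2 fun i hi => hX₁ i (by omega)
    haveI : S.X₁.IsStrictlyLE c := (CochainComplex.isStrictlyLE_iff _ c).2 fun i hi => hX₁ i (by omega)
    obtain ⟨M, ⟨eM⟩⟩ := CochainComplex.exists_iso_single S.X₁ c
    haveI := isIso_sigmaGEι_f P c c le_rfl
    let eMc : M ≅ P.X c := (HomologicalComplex.singleObjXSelf (ComplexShape.up ℤ) c M).symm ≪≫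
      (HomologicalComplex.eval _ _ c).mapIso eM.symm ≪≫ asIso ((sigmaGEι P c).f c)
    haveI := (hP c).1
    haveI := (hP c).2
    haveI : Module.Finite R M := Module.Finite.equiv eMc.toLinearEquiv.symm
    haveI : Module.Projective R M := Module.Projective.of_equiv eMc.toLinearEquiv.symm
    refine countable_hom_obj₂ _ (DerivedCategory.triangleOfSES_distinguished hS) N ?_ ?_
    · haveI := countable_hom_single hN M c
      let e : DerivedCategory.Q.obj S.X₁ ≅ (DerivedCategory.singleFunctor (ModuleCat.{u} R) c).obj M :=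
        DerivedCategory.Q.mapIso eM ≪≫
          ((DerivedCategory.singleFunctorIsoCompQ (ModuleCat.{u} R) c).app M).symm
      exact Function.Injective.countable (f := fun g : DerivedCategory.Q.obj S.X₁ ⟶ N => e.inv ≫ g)
        fun g g' h => (cancel_epi e.inv).1 h
    · refine countable_hom_cx m a S.X₃ (fun i hi => ?_) (fun i => ?_)
      · rcases hi with hi | hi
        · haveI := (hse i).epi_g
          exact IsZero.of_epi (S.map (HomologicalComplex.eval _ (ComplexShape.up ℤ) i)).g (hz i (Or.inl hi))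
        · exact hle i (by simp only [c]; omega)
      · by_cases h : i < c
        · obtain ⟨e⟩ := nonempty_sigmaSES_X₃_iso P c i h
          haveI := (hP i).1
          haveI := (hP i).2
          exact ⟨Module.Finite.equiv e.toLinearEquiv, Module.Projective.of_equiv e.toLinearEquiv⟩
        · haveI := ModuleCat.subsingleton_of_isZero (hle i (by simp only [c] at *; omega))
          exact ⟨inferInstance, inferInstance⟩

end Ring

variable {X U : Scheme.{u}}

/-- Countably many sections of the cohomology on affine opens. -/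
def CountSec (K : DCoh.D X) : Prop :=
  ∀ V : X.Opens, IsAffineOpen V → ∀ i : ℤ, Countable ((DCoh.HD K i).val.obj (op V))

lemma CountSec.rho {K : DCoh.D X} (h : CountSec K) (j : U ⟶ X) [IsOpenImmersion j] :
    CountSec ((KFlatLib.rho j).obj K) := fun V hV i => by
  haveI := h (j ''ᵁ V) (hV.image_of_isOpenImmersion j) i
  let e := restrictHDIso j K i
  let g : ((Scheme.Modules.restrictFunctor j).obj (DCoh.HD K i)).val.obj (op V) ≅ _ :=
    ((SheafOfModules.forget _ ⋙ PresheafOfModules.evaluation _ (op V)).mapIso e).symm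
  haveI : Countable (((Scheme.Modules.restrictFunctor j).obj (DCoh.HD K i)).val.obj (op V)) := h (j ''ᵁ V) (hV.image_of_isOpenImmersion j) i
  exact g.toLinearEquiv.toEquiv.symm.injective.countable

lemma countable_hom_spec (R : CommRingCat.{u}) (E K : DCoh.D (Spec R)) (hE : DCoh.IsPerfect E)
    (hK : DCoh.IsQCohD K) (hKc : CountSec K) : Countable (E ⟶ K) := by
  haveI := QCoh.tilde_preservesFiniteLimits (R := R)
  obtain ⟨N, ⟨eN⟩⟩ := exists_tildeD_iso hK
  obtain ⟨M, ⟨eM⟩⟩ := exists_tildeD_iso (isQCohD_of_isPerfect hE)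
  obtain ⟨P, a, b, hz, hP, ⟨eP⟩⟩ := (perfect_tildeD_iff M).1 (isPerfect_of_iso eM.symm hE)
  have hN : ∀ i, Countable ((DerivedCategory.homologyFunctor (ModuleCat.{u} R) i).obj N) := fun i => by
    haveI := hKc ⊤ (isAffineOpen_top _) i
    let H := (DerivedCategory.homologyFunctor (ModuleCat.{u} R) i).obj N
    let e : (tilde.functor R).obj H ≅ DCoh.HD K i :=
      ((mapDCHomologyIso (tilde.functor R) i).app N).symm ≪≫ (DerivedCategory.homologyFunctor _ i).mapIso eN
    let e' : H ≅ (moduleSpecΓFunctor (R := R)).obj (DCoh.HD K i) :=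
      tilde.isoTop H ≪≫ (moduleSpecΓFunctor (R := R)).mapIso e
    haveI : Countable ((moduleSpecΓFunctor (R := R)).obj (DCoh.HD K i)) := hKc ⊤ (isAffineOpen_top _) i
    exact e'.toLinearEquiv.toEquiv.injective.countable
  let m := (max (b + 1) a - a).toNat
  haveI := countable_hom_cx hN m a P (fun i hi => hz i (by omega)) hP
  let f : (E ⟶ K) → (DerivedCategory.Q.obj P ⟶ N) := fun φ =>
    ((tildeD_map_bijective _ _).2 (((DCoh.tildeD R).mapIso eP ≪≫ eM).hom ≫ φ ≫ eN.inv)).choose
  refine Function.Injective.countable (f := f) fun φ φ' h => ?_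
  have h1 := ((tildeD_map_bijective _ _).2 (((DCoh.tildeD R).mapIso eP ≪≫ eM).hom ≫ φ ≫ eN.inv)).choose_spec
  have h2 := ((tildeD_map_bijective _ _).2 (((DCoh.tildeD R).mapIso eP ≪≫ eM).hom ≫ φ' ≫ eN.inv)).choose_spec
  have h3 := h1.symm.trans ((congrArg (DCoh.tildeD R).map h).trans h2)
  exact (cancel_mono eN.inv).1 ((cancel_epi _).1 h3)

/-- The property. -/
def CountHom (X : Scheme.{u}) : Prop :=
  ∀ E : DCoh.D X, DCoh.IsPerfect E → ∀ K : DCoh.D X, DCoh.IsQCohD K → CountSec K → Countable (E ⟶ K)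

/-- Maps from perfect objects to countable quasi-coherent objects are countable. -/
theorem countHom (X : Scheme.{u}) [CompactSpace X] [QuasiSeparatedSpace X] : CountHom X := by
  refine qcqs_induction (Q := CountHom) (fun X _ E hE K hK hKc => ?_)
    (fun X _ _ U V hUV _ _ hU hV hW E hE K hK hKc => ?_) X
  · let j := X.isoSpec.inv
    haveI := countable_hom_spec _ _ _ (isPerfect_rho j hE) (isQCohD_rho j hK) (hKc.rho j)
    refine Function.Injective.countable (f := fun φ : E ⟶ K => (rho j).map φ) fun φ φ' h => ?_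
    exact sub_eq_zero.1 (rho_map_injective j (Scheme.Hom.opensRange_of_isIso _) (φ - φ')
      (by rw [Functor.map_sub]; exact sub_eq_zero.2 h))
  · obtain ⟨a, b, c, h⟩ := exists_mvRpush_triangle U V hUV K
    have hc : ∀ (O : X.Opens), CountHom (O : Scheme.{u}) → ∀ M : DCoh.D X, DCoh.IsPerfect M →
        Countable (M ⟶ (DCoh.Rpush O.ι).obj ((rho O.ι).obj K)) := fun O hO M hM => by
      haveI := hO _ (isPerfect_rho O.ι hM) _ (isQCohD_rho O.ι hK) (hKc.rho O.ι)
      exact ((adj O.ι).homEquiv _ _).symm.injective.countable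
    haveI := hc U hU E hE
    haveI := hc V hV E hE
    haveI : Countable (E ⟶ (DCoh.Rpush U.ι).obj ((DCoh.restrictD U.ι).obj K) ⊞
        (DCoh.Rpush V.ι).obj ((DCoh.restrictD V.ι).obj K)) :=
      Function.Injective.countable (f := fun g : E ⟶ (DCoh.Rpush U.ι).obj ((DCoh.restrictD U.ι).obj K) ⊞
          (DCoh.Rpush V.ι).obj ((DCoh.restrictD V.ι).obj K) => (g ≫ biprod.fst, g ≫ biprod.snd))
        fun g g' hg => biprod.hom_ext _ _ (congrArg Prod.fst hg) (congrArg Prod.snd hg)
    refine countable_of_ker (Preadditive.rightComp E a) ?_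
    let T := (Triangle.mk a b c).invRotate
    haveI : Countable (E ⟶ T.obj₁) := by
      haveI : Countable (E⟦(1 : ℤ)⟧ ⟶ (𝟭 (DCoh.D X)).obj (Triangle.mk a b c).obj₃) :=
        hc (U ⊓ V) hW _ ((isPerfect_iff _).2 (((isPerfect_iff _).1 hE).shift 1))
      refine Function.Injective.countable (f := fun g : E ⟶ T.obj₁ => g⟦(1 : ℤ)⟧' ≫
        (shiftFunctorCompIsoId (DCoh.D X) (-1 : ℤ) 1 (by simp)).hom.app _) fun g g' hg => ?_
      exact (shiftFunctor (DCoh.D X) (1 : ℤ)).map_injective ((cancel_mono _).1 hg)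
    refine @Function.Surjective.countable (E ⟶ T.obj₁) _ _ (fun ψ => ⟨ψ ≫ T.mor₁, ?_⟩) ?_
    · rw [AddMonoidHom.mem_ker]
      change (ψ ≫ T.mor₁) ≫ a = 0
      rw [Category.assoc]
      exact (congrArg (ψ ≫ ·) (comp_distTriang_mor_zero₁₂ _ (inv_rot_of_distTriang _ h))).trans comp_zero
    · rintro ⟨φ, hφ⟩
      obtain ⟨ψ, hψ⟩ := Triangle.coyoneda_exact₂ _ (inv_rot_of_distTriang _ h) φ (AddMonoidHom.mem_ker.1 hφ)
      exact ⟨ψ, Subtype.ext hψ.symm⟩

end Groth.Agent.DQGen
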