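import Groth.Agent.DQGen.Basic
import Groth.Agent.KFlatLib.Scheme.RestrictHom
import Groth.Agent.KFlatLib.Scheme.RpushQCoh
import Groth.Prelude.Def_CxOX

/-!
# The triangle of derived sections with support
-/

set_option linter.style.haveILetI false
set_option maxHeartbeats 1000000
set_option backward.isDefEq.respectTransparency false

universe u v w

open CategoryTheory CategoryTheory.Limits AlgebraicGeometry Pretriangulated

attribute [local instance] HasDerivedCategory.standard

namespace Groth.Agent.DQGen

open Groth.Agent.KFlatLib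

variable {U X : Scheme.{u}} (j : U ⟶ X) [IsOpenImmersion j]

/-- The unit of a right derived functor at a K-injective complex. -/
lemma isIso_rdUnit {H : Type w} [Category.{v} H]
    (F : HomotopyCategory X.Modules (ComplexShape.up ℤ) ⥤ H)
    [F.HasRightDerivedFunctor (HomotopyCategory.quasiIso X.Modules (ComplexShape.up ℤ))]
    (I : CochainComplex X.Modules ℤ) [I.IsKInjective] :
    IsIso ((F.totalRightDerivedUnit DerivedCategory.Qh
      (HomotopyCategory.quasiIso X.Modules (ComplexShape.up ℤ))).app
        ((HomotopyCategory.quotient X.Modules (ComplexShape.up ℤ)).obj I)) := by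
  haveI := TriCat.qh_isLeftAdjoint_of_exists_resolution (A := X.Modules) exists_kInjective_res
  let adjQ := Adjunction.ofIsLeftAdjoint (DerivedCategory.Qh (C := X.Modules))
  let W := HomotopyCategory.quasiIso X.Modules (ComplexShape.up ℤ)
  haveI : (DerivedCategory.Qh.rightAdjoint ⋙ F).IsRightDerivedFunctor
      (Functor.whiskerRight adjQ.unit F) W :=
    TriCat.isRightDerivedFunctor_of_adjunction adjQ W F
  let α := F.totalRightDerivedUnit DerivedCategory.Qh W
  let e : DerivedCategory.Qh.rightAdjoint ⋙ F ≅ F.totalRightDerived DerivedCategory.Qh W :=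
    Functor.rightDerivedUnique _ _ (Functor.whiskerRight adjQ.unit F) α W
  let qI := (HomotopyCategory.quotient X.Modules (ComplexShape.up ℤ)).obj I
  haveI := TriCat.isIso_unit_of_isKInjective adjQ I
  have h : F.map (adjQ.unit.app qI) ≫ e.hom.app (DerivedCategory.Qh.obj qI) = α.app qI := by
    refine (Functor.rightDerivedNatTrans_app (DerivedCategory.Qh.rightAdjoint ⋙ F) _
      (Functor.whiskerRight adjQ.unit F) α W (𝟙 _) qI).trans (Category.id_comp _)
  rw [← h]
  exact IsIso.comp_isIso' (Functor.map_isIso F _) inferInstance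

lemma mono_lshAdj_counit (M : X.Modules) : Mono ((lshAdj j).counit.app M) := by
  let c := (lshAdj j).counit.app M
  refine (ShortComplex.exact_iff_mono (ShortComplex.mk (0 : (lsh j).obj
    ((Scheme.Modules.restrictFunctor j).obj M) ⟶ _) c zero_comp) rfl).1 ?_
  refine (exact_iff_stalk _).2 fun x => ((ShortComplex.mk _ c zero_comp).map
    (DerSch.stalkFunctor X x)).exact_iff_mono ((DerSch.stalkFunctor X x).map_zero _ _) |>.2 ?_
  by_cases hx : x ∈ Set.range j.base
  · obtain ⟨u, rfl⟩ := hx
    refine (ModuleCat.mono_iff_injective _).2 (injective_stalk_of_restrict j _ u ?_)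
    haveI : IsIso ((Scheme.Modules.restrictFunctor j).map c) := by
      refine IsIso.of_isIso_fac_left (f := (lshAdj j).unit.app _) (h := 𝟙 _) ?_
      exact (lshAdj j).right_triangle_components M
    exact (ConcreteCategory.bijective_of_isIso
      ((DerSch.stalkFunctor U u).map ((Scheme.Modules.restrictFunctor j).map c))).1
  · exact ⟨fun _ _ _ => (isZero_stalk_lsh j x hx _).eq_of_tgt _ _⟩

/-- At injective modules the unit of restriction and pushforward is an epimorphism. -/
lemma epi_unit_injective (I : X.Modules) [Injective I] :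
    Epi ((Scheme.Modules.restrictAdjunction j).unit.app I) := by
  let R := Scheme.Modules.restrictFunctor j
  let a := Scheme.Modules.restrictAdjunction j
  let η := a.unit.app I
  let J := (Scheme.Modules.pushforward j).obj (R.obj I)
  have hη : R.map η ≫ a.counit.app (R.obj I) = 𝟙 _ := a.left_triangle_components I
  haveI := mono_lshAdj_counit j J
  let g : (lsh j).obj (R.obj J) ⟶ I := (lsh j).map (a.counit.app (R.obj I)) ≫ (lshAdj j).counit.app I
  let r : J ⟶ I := Injective.factorThru g ((lshAdj j).counit.app J)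
  have hr : R.map r = a.counit.app (R.obj I) := by
    have h := congrArg ((lshAdj j).homEquiv (R.obj J) I)
      (Injective.comp_factorThru g ((lshAdj j).counit.app J))
    rw [Adjunction.homEquiv_naturality_right, Adjunction.homEquiv_unit,
      (lshAdj j).right_triangle_components, Category.id_comp] at h
    refine h.trans ?_
    rw [Adjunction.homEquiv_naturality_left]
    refine (congrArg (a.counit.app (R.obj I) ≫ ·) ?_).trans (Category.comp_id _)
    rw [Adjunction.homEquiv_unit]
    exact (lshAdj j).right_triangle_components I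
  have : r ≫ η = 𝟙 J := by
    apply (a.homEquiv _ _).symm.injective
    rw [Adjunction.homEquiv_counit, Adjunction.homEquiv_counit, Functor.map_comp, Category.assoc]
    erw [hη, Category.comp_id, CategoryTheory.Functor.map_id, Category.id_comp]
    exact hr
  haveI : IsSplitEpi η := IsSplitEpi.mk' ⟨r, this⟩
  infer_instance

lemma isZero_restrict_gammaZ (M : X.Modules) :
    IsZero ((Scheme.Modules.restrictFunctor j).obj ((DCoh.gammaZ j).obj M)) := by
  let R := Scheme.Modules.restrictFunctor j
  let a := Scheme.Modules.restrictAdjunction j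
  let f : M ⟶ (Scheme.Modules.pushforward j).obj (R.obj M) := a.unit.app M
  have ht : R.map f ≫ a.counit.app (R.obj M) = 𝟙 (R.obj M) := a.left_triangle_components M
  haveI : Mono (R.map f ≫ a.counit.app (R.obj M)) := by rw [ht]; infer_instance
  haveI : Mono (R.map f) := mono_of_mono (R.map f) (a.counit.app (R.obj M))
  have h1 : IsZero (kernel (R.map f)) := isZero_kernel_of_mono (R.map f)
  exact h1.of_iso (PreservesKernel.iso R f)

/-- The distinguished triangle `RΓ_Z E ⟶ E ⟶ Rj_* F`. -/
theorem exists_gammaZ_triangle [CxOX.HasRgammaZ j] (E : DCoh.D X) :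
    ∃ (F : DCoh.D U) (_ : F ≅ (rho j).obj E) (b : E ⟶ (DCoh.Rpush j).obj F)
      (c : (DCoh.Rpush j).obj F ⟶ ((CxOX.RgammaZ j).obj E)⟦(1 : ℤ)⟧),
      Triangle.mk ((CxOX.RgammaZToId j).app E) b c ∈ distTriang (DCoh.D X) ∧
        IsZero ((rho j).obj ((CxOX.RgammaZ j).obj E)) := by
  obtain ⟨I, hI, hinj, ⟨eE⟩⟩ := exists_kInjective_rep E
  haveI := hI
  haveI := hinj
  let q := HomotopyCategory.quotient X.Modules (ComplexShape.up ℤ)
  let qq := DerivedCategory.quotientCompQhIso X.Modules
  let adjM := Scheme.Modules.restrictAdjunction j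
  let Γc : CochainComplex X.Modules ℤ := ((DCoh.gammaZ j).mapHomologicalComplex _).obj I
  let ι : Γc ⟶ I :=
    { f := fun n => (CxOX.gammaZι j).app (I.X n)
      comm' := fun i k _ => ((CxOX.gammaZι j).naturality (I.d i k)).symm }
  let Pc : CochainComplex X.Modules ℤ :=
    ((Scheme.Modules.pushforward j).mapHomologicalComplex _).obj ((rCx j).obj I)
  let η : I ⟶ Pc :=
    { f := fun n => adjM.unit.app (I.X n)
      comm' := fun i k _ => (adjM.unit.naturality (I.d i k)).symm }
  let S := ShortComplex.mk ι η (HomologicalComplex.hom_ext _ _ fun n => kernel.condition _)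
  have hS : S.ShortExact := HomologicalComplex.shortExact_of_degreewise_shortExact S fun n =>
    ShortComplex.ShortExact.mk' (ShortComplex.exact_of_f_is_kernel _ (kernelIsKernel (adjM.unit.app (I.X n))))
      (inferInstanceAs (Mono (kernel.ι (adjM.unit.app (I.X n))))) (epi_unit_injective j (I.X n))
  haveI : ((rCx j).obj I).IsKInjective := isKInjective_rCx j I
  obtain ⟨ePush⟩ := nonempty_rpush_iso_of_kInjective j (I := (rCx j).obj I)
    (((rhoQ j).app I).symm ≪≫ (rho j).mapIso eE.symm)
  haveI := isIso_rdUnit (CxOX.gammaZKh j) I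
  let α := (CxOX.gammaZKh j).totalRightDerivedUnit DerivedCategory.Qh
    (HomotopyCategory.quasiIso X.Modules (ComplexShape.up ℤ))
  have hfac : α.app (q.obj I) ≫ (CxOX.RgammaZToId j).app (DerivedCategory.Qh.obj (q.obj I)) =
      DerivedCategory.Qh.map (q.map ι) := by
    refine ((CxOX.RgammaZ j).rightDerived_fac_app _ _ _ _ (q.obj I)).trans ?_
    change ((CxOX.gammaZKhι j).app (q.obj I)) ≫ 𝟙 _ = _
    rw [Category.comp_id, CxOX.gammaZKhι]
    erw [Quotient.natTransLift_app]
    simp only [NatTrans.comp_app, Functor.whiskerRight_app, Functor.associator_inv_app,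
      Functor.associator_hom_app, Functor.leftUnitor_hom_app, Functor.comp_map]
    erw [Category.id_comp, Category.id_comp, Category.comp_id]
    have e : (NatTrans.mapHomologicalComplex (CxOX.gammaZι j) (ComplexShape.up ℤ)).app I ≫
        (Functor.mapHomologicalComplexIdIso X.Modules (ComplexShape.up ℤ)).hom.app I = ι := by
      refine HomologicalComplex.hom_ext _ _ fun n => ?_
      exact Category.comp_id _
    rw [← e, Functor.map_comp, Functor.map_comp]
    erw [show ((DCoh.gammaZ j).mapHomotopyCategoryFactors (ComplexShape.up ℤ)).hom.app I = 𝟙 _ from rfl]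
    erw [CategoryTheory.Functor.map_id, Category.id_comp]
  let e₁ : (CxOX.RgammaZ j).obj E ≅ DerivedCategory.Q.obj Γc :=
    (CxOX.RgammaZ j).mapIso (eE ≪≫ (qq.app I).symm) ≪≫ (asIso (α.app (q.obj I))).symm ≪≫ qq.app Γc
  have hcomm : e₁.hom ≫ DerivedCategory.Q.map ι = (CxOX.RgammaZToId j).app E ≫ eE.hom := by
    have h2 : qq.hom.app Γc ≫ DerivedCategory.Q.map ι =
        DerivedCategory.Qh.map (q.map ι) ≫ qq.hom.app I := (qq.hom.naturality ι).symm
    have h3 : inv (α.app (q.obj I)) ≫ DerivedCategory.Qh.map (q.map ι) =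
        (CxOX.RgammaZToId j).app (DerivedCategory.Qh.obj (q.obj I)) := by
      rw [IsIso.inv_comp_eq, hfac]
    have h4 := (CxOX.RgammaZToId j).naturality (eE.hom ≫ qq.inv.app I)
    simp only [e₁, Iso.trans_hom, Functor.mapIso_hom, Iso.symm_hom, Iso.app_inv, Iso.app_hom,
      asIso_inv, Category.assoc]
    rw [h2, ← Category.assoc (inv _), h3, ← Category.assoc]
    erw [h4]
    simp
  refine ⟨(rho j).obj E, Iso.refl _, eE.hom ≫ DerivedCategory.Q.map η ≫ ePush.inv,
    ePush.hom ≫ DerivedCategory.triangleOfSESδ hS ≫ e₁.inv⟦(1 : ℤ)⟧',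
    isomorphic_distinguished _ (DerivedCategory.triangleOfSES_distinguished hS) _ ?_, ?_⟩
  · refine Triangle.isoMk _ _ e₁ eE ePush ?_ ?_ ?_
    · exact hcomm.symm
    · simp
      rfl
    · simp [← Functor.map_comp]
  · refine IsZero.of_iso ?_ ((rho j).mapIso e₁ ≪≫ (rhoQ j).app Γc)
    refine Functor.map_isZero DerivedCategory.Q ((IsZero.iff_id_eq_zero _).2
      (HomologicalComplex.hom_ext _ _ fun n => (isZero_restrict_gammaZ j (I.X n)).eq_of_src _ _))

end Groth.Agent.DQGen
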