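import Groth.Agent.KFlatLib.Scheme.PerfectCompact
import Groth.Agent.TriCat.Hocolim
import Mathlib.CategoryTheory.Triangulated.Subcategory

/-!
# Factoring maps out of compact objects through a class of finite objects

Neeman's lemma: if `S` detects zero inside a class `P` closed under triangles and sums, and `p` is
compact for the images under an exact functor `F`, then every `p ⟶ F T`, `T ∈ P`, comes from an
object of a triangulated class `Ψ` of compact objects containing `S`.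
-/

universe w v v' u u'

open CategoryTheory Category Limits Pretriangulated DerLim

namespace Groth.Agent.DQGen

open Groth.Agent.KFlatLib Groth.Agent.TriCat

variable {D : Type u} [Category.{v} D] [Preadditive D]

/-- `partProj` through the projections. -/
lemma partProj_eq_sum {J : Type w} (M : J → D) [HasCoproduct M] (s : Finset J) :
    partProj M s = ∑ j ∈ s, coprodProj M j ≫ Sigma.ι M j := by
  classical
  refine Sigma.hom_ext _ _ fun i => ?_
  rw [Preadditive.comp_sum]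
  by_cases hi : i ∈ s
  · rw [ι_partProj_mem M hi, Finset.sum_eq_single i (fun b _ hb => by
      rw [← assoc, ι_coprodProj_ne (Ne.symm hb), zero_comp]) (fun h => absurd hi h),
      ι_coprodProj_self_assoc]
  · rw [ι_partProj_not_mem M hi]
    exact (Finset.sum_eq_zero fun b hb => by
      rw [← assoc, ι_coprodProj_ne (fun h : i = b => hi (h ▸ hb)), zero_comp]).symm

variable [HasZeroObject D] [HasShift D ℤ] [∀ n : ℤ, (shiftFunctor D n).Additive] [Pretriangulated D]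
  [IsTriangulated D]

lemma prop_biprod (Ψ : ObjectProperty D) [Ψ.IsTriangulated] [Ψ.IsClosedUnderIsomorphisms] {A B : D}
    (hA : Ψ A) (hB : Ψ B) : Ψ (A ⊞ B) :=
  ObjectProperty.ext_of_isTriangulatedClosed₂ _ _ (binaryBiproductTriangle_distinguished A B) hA hB

lemma prop_zero (Ψ : ObjectProperty D) [Ψ.IsTriangulated] [Ψ.IsClosedUnderIsomorphisms] {Z : D}
    (hZ : IsZero Z) : Ψ Z := by
  obtain ⟨Z', hZ', h⟩ := Ψ.exists_prop_of_containsZero
  exact Ψ.prop_of_iso (hZ'.iso hZ) h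

/-- Finite partial sums split off, as members of any triangulated class containing the summands. -/
lemma exists_partSum (Ψ : ObjectProperty D) [Ψ.IsTriangulated] [Ψ.IsClosedUnderIsomorphisms]
    {J : Type w} (M : J → D) [HasCoproduct M] (hM : ∀ j, Ψ (M j)) (s : Finset J) :
    ∃ (c : D) (i : c ⟶ ∐ M) (r : ∐ M ⟶ c), Ψ c ∧ i ≫ r = 𝟙 c ∧ r ≫ i = partProj M s := by
  classical
  induction s using Finset.induction_on with
  | empty =>
    obtain ⟨Z, hZ⟩ := HasZeroObject.zero (C := D)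
    exact ⟨Z, 0, 0, prop_zero Ψ hZ, hZ.eq_of_src _ _,
      by rw [partProj_eq_sum, Finset.sum_empty, zero_comp]⟩
  | insert k s hk ih =>
    obtain ⟨c, i, r, hc, hir, hri⟩ := ih
    have h1 : i ≫ coprodProj M k = 0 := by
      rw [← id_comp (i ≫ coprodProj M k), ← hir, assoc, ← assoc r, hri, partProj_eq_sum,
        Preadditive.sum_comp, Finset.sum_eq_zero, comp_zero]
      intro j hj
      rw [assoc, ι_coprodProj_ne (fun h : j = k => hk (h ▸ hj)), comp_zero]
    have h2 : Sigma.ι M k ≫ r = 0 := by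
      rw [← comp_id (Sigma.ι M k ≫ r), ← hir, assoc, ← assoc r, hri, ← assoc, ι_partProj_not_mem M hk,
        zero_comp]
    refine ⟨c ⊞ M k, biprod.desc i (Sigma.ι M k), biprod.lift r (coprodProj M k),
      prop_biprod Ψ hc (hM k), ?_, ?_⟩
    · apply biprod.hom_ext' <;> apply biprod.hom_ext <;> simp [hir, h1, h2, ι_coprodProj_self]
    · rw [biprod.lift_desc, hri, partProj_eq_sum, partProj_eq_sum, Finset.sum_insert hk, add_comm]

variable {D' : Type u'} [Category.{v'} D'] [Preadditive D'] [HasZeroObject D'] [HasShift D' ℤ]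
  [∀ n : ℤ, (shiftFunctor D' n).Additive] [Pretriangulated D']
  (F : D ⥤ D') [F.CommShift ℤ] [F.IsTriangulated]

/-- Maps from `p` to images of sums of members of `P` live on finite partial sums. -/
def CompactFor (P : D → Prop) (p : D') : Prop :=
  (∀ (J : Type w) (M : J → D) [HasCoproduct M], (∀ j, P (M j)) →
    ∀ φ : p ⟶ F.obj (∐ M), ∃ s : Finset J, φ ≫ F.map (partProj M s) = φ) ∧
  ∀ (M : ℕ → D) [HasCoproduct M], (∀ j, P (M j)) →
    ∀ φ : p ⟶ F.obj (∐ M), ∃ s : Finset ℕ, φ ≫ F.map (partProj M s) = φ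

/-- Compactness inside `P`. -/
abbrev CompactIn (P : D → Prop) (c : D) : Prop := CompactFor.{w} (𝟭 D) P c

variable {F}

/-- One layer: a map killed after adding one layer of cells of `Ψ`. -/
lemma factor_of_layer (Ψ : ObjectProperty D) [Ψ.IsTriangulated] [Ψ.IsClosedUnderIsomorphisms]
    {P : D → Prop} (hΨP : ∀ c, Ψ c → P c) (hc : ∀ c, Ψ c → CompactIn.{w} P c) {p : D'}
    (hp : CompactFor.{w} F P p) {J : Type w} (M : J → D) [HasCoproduct M] (hM : ∀ j, Ψ (M j))
    {E E' : D} (y : ∐ M ⟶ E) (f : E ⟶ E') (z : E' ⟶ (∐ M)⟦(1 : ℤ)⟧)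
    (hT : Triangle.mk y f z ∈ distTriang D) (φ : p ⟶ F.obj E) {R : D} (hR : Ψ R) (ψ : p ⟶ F.obj R)
    (h : R ⟶ E') (hφ : φ ≫ F.map f = ψ ≫ F.map h) :
    ∃ (R' : D) (ψ' : p ⟶ F.obj R') (h' : R' ⟶ E), Ψ R' ∧ φ = ψ' ≫ F.map h' := by
  classical
  -- the attaching map of `R` lives on a finite partial sum
  let d : R⟦(-1 : ℤ)⟧⟦(1 : ℤ)⟧ ≅ R := (shiftFunctorCompIsoId D (-1 : ℤ) 1 (by simp)).app R
  obtain ⟨y0, hy0⟩ := (shiftFunctor D (1 : ℤ)).map_surjective (d.hom ≫ h ≫ z)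
  obtain ⟨s, hs⟩ := (hc _ (Ψ.le_shift (-1 : ℤ) _ hR)).1 J M (fun j => hΨP _ (hM j)) y0
  replace hs : y0 ≫ partProj M s = y0 := hs
  obtain ⟨c, i, r, hcΨ, hir, hri⟩ := exists_partSum Ψ M hM s
  let g : R ⟶ c⟦(1 : ℤ)⟧ := d.inv ≫ (y0 ≫ r)⟦(1 : ℤ)⟧'
  have hg : g ≫ i⟦(1 : ℤ)⟧' = h ≫ z := by
    rw [assoc, ← Functor.map_comp, assoc, hri, hs, hy0, Iso.inv_hom_id_assoc]
  obtain ⟨R'', a, b, hT'⟩ := distinguished_cocone_triangle₂ g
  have hR'' : Ψ R'' := ObjectProperty.ext_of_isTriangulatedClosed₂ _ _ hT' hcΨ hR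
  obtain ⟨k, hk₁, hk₂⟩ : ∃ k : R'' ⟶ E, a ≫ k = i ≫ y ∧ b ≫ h = k ≫ f :=
    complete_distinguished_triangle_morphism₂ _ _ hT' hT i h hg
  -- lift `ψ`
  have hzero : ψ ≫ F.map g = 0 := by
    have h0 : f ≫ z = 0 := comp_distTriang_mor_zero₂₃ _ hT
    have h1 : (ψ ≫ F.map g) ≫ F.map (i⟦(1 : ℤ)⟧') = 0 := by
      rw [assoc, ← F.map_comp, hg, F.map_comp, ← assoc, ← hφ, assoc, ← F.map_comp, h0,
        F.map_zero, comp_zero]
    have h3 : i⟦(1 : ℤ)⟧' ≫ r⟦(1 : ℤ)⟧' = 𝟙 _ := by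
      rw [← Functor.map_comp, hir, CategoryTheory.Functor.map_id]
    rw [← comp_id (ψ ≫ F.map g), ← F.map_id, ← h3, F.map_comp (i⟦(1 : ℤ)⟧'), ← assoc, h1, zero_comp]
  obtain ⟨ψ'', hψ''⟩ := Triangle.coyoneda_exact₃ _ (F.map_distinguished _ hT') ψ (by
    change ψ ≫ F.map g ≫ (F.commShiftIso (1 : ℤ)).hom.app c = 0
    rw [← assoc, hzero, zero_comp])
  change p ⟶ F.obj R'' at ψ''
  change ψ = ψ'' ≫ F.map b at hψ''
  obtain ⟨e, he⟩ := Triangle.coyoneda_exact₂ _ (F.map_distinguished _ hT) (φ - ψ'' ≫ F.map k) (by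
    change (φ - ψ'' ≫ F.map k) ≫ F.map f = 0
    rw [Preadditive.sub_comp, assoc, ← F.map_comp, ← hk₂, F.map_comp, ← assoc, ← hψ'', hφ, sub_self])
  change p ⟶ F.obj (∐ M) at e
  change φ - ψ'' ≫ F.map k = e ≫ F.map y at he
  obtain ⟨s', hs'⟩ := hp.1 J M (fun j => hΨP _ (hM j)) e
  obtain ⟨c', i', r', hc'Ψ, -, hri'⟩ := exists_partSum Ψ M hM s'
  refine ⟨R'' ⊞ c', ψ'' ≫ F.map biprod.inl + (e ≫ F.map r') ≫ F.map biprod.inr,
    biprod.desc k (i' ≫ y), prop_biprod Ψ hR'' hc'Ψ, ?_⟩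
  rw [Preadditive.add_comp, assoc, assoc, assoc, ← F.map_comp, ← F.map_comp, ← F.map_comp,
    biprod.inl_desc, biprod.inr_desc, ← assoc r', hri', F.map_comp, ← assoc e, hs', ← he]
  abel

/-- A map killed after finitely many layers. -/
lemma factor_of_killed (Ψ : ObjectProperty D) [Ψ.IsTriangulated] [Ψ.IsClosedUnderIsomorphisms]
    {P : D → Prop} (hΨP : ∀ c, Ψ c → P c) (hc : ∀ c, Ψ c → CompactIn.{w} P c) {p : D'}
    (hp : CompactFor.{w} F P p) (G : ℕ ⥤ D)
    (hstep : ∀ n, ∃ (J : Type w) (M : J → D) (_ : HasCoproduct M) (y : ∐ M ⟶ G.obj n)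
      (z : G.obj (n + 1) ⟶ (∐ M)⟦(1 : ℤ)⟧), (∀ j, Ψ (M j)) ∧
        Triangle.mk y (G.map (homOfLE (Nat.le_succ n))) z ∈ distTriang D) :
    ∀ (d k : ℕ) (φ : p ⟶ F.obj (G.obj k)), φ ≫ F.map (G.map (homOfLE (Nat.le_add_right k d))) = 0 →
      ∃ (R : D) (ψ : p ⟶ F.obj R) (h : R ⟶ G.obj k), Ψ R ∧ φ = ψ ≫ F.map h := by
  intro d
  induction d with
  | zero =>
    intro k φ hφ
    obtain ⟨Z, hZ⟩ := HasZeroObject.zero (C := D)
    refine ⟨Z, 0, 0, prop_zero Ψ hZ, ?_⟩
    have h1 : G.map (homOfLE (Nat.le_add_right k 0)) = 𝟙 (G.obj k) :=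
      (congrArg G.map (Subsingleton.elim _ (𝟙 k))).trans (G.map_id k)
    rw [h1, F.map_id] at hφ
    rw [zero_comp, ← comp_id φ, hφ]
  | succ d ih =>
    intro k φ hφ
    obtain ⟨J, M, _, y, z, hM, hT⟩ := hstep k
    obtain ⟨R, ψ, h, hR, hψ⟩ := ih (k + 1) (φ ≫ F.map (G.map (homOfLE (Nat.le_succ k)))) (by
      have e : G.map (homOfLE (show k ≤ k + 1 + d by omega)) =
          G.map (homOfLE (Nat.le_add_right k (d + 1))) ≫
            G.map (homOfLE (show k + (d + 1) ≤ k + 1 + d by omega)) := by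
        rw [← G.map_comp, homOfLE_comp]
      rw [assoc, ← F.map_comp, ← G.map_comp, homOfLE_comp]
      erw [e]
      rw [F.map_comp, ← assoc, hφ, zero_comp])
    exact factor_of_layer Ψ hΨP hc hp M hM y _ z hT φ hR ψ h hψ

/-- A map killed in a homotopy colimit is killed at a finite stage. -/
lemma killed_of_isHocolim {P : D → Prop} {p : D'} (hp : CompactFor.{w} F P p) (G : ℕ ⥤ D)
    [HasCoproduct G.obj] {L : D} {inc : ∀ n, G.obj n ⟶ L}
    (hL : IsHocolim G.obj (fun n => G.map (homOfLE (Nat.le_succ n))) L inc) (hG : ∀ n, P (G.obj n))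
    (φ : p ⟶ F.obj (G.obj 0)) (hφ : φ ≫ F.map (inc 0) = 0) :
    ∃ n, φ ≫ F.map (G.map (homOfLE (Nat.zero_le n))) = 0 := by
  classical
  obtain ⟨c, hc⟩ := hL
  let K := G.obj
  let f : ∀ n, K n ⟶ K (n + 1) := fun n => G.map (homOfLE (Nat.le_succ n))
  obtain ⟨a, ha⟩ := Triangle.coyoneda_exact₂ _ (F.map_distinguished _ hc) (φ ≫ F.map (Sigma.ι K 0)) (by
    change (φ ≫ F.map (Sigma.ι K 0)) ≫ F.map (Sigma.desc inc) = 0
    rw [assoc, ← F.map_comp, Sigma.ι_desc, hφ])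
  change p ⟶ F.obj (∐ K) at a
  change φ ≫ F.map (Sigma.ι K 0) = a ≫ F.map (𝟙 (∐ K) - shiftMap K f) at ha
  have key : ∀ n, a ≫ F.map (coprodProj K n) = φ ≫ F.map (G.map (homOfLE (Nat.zero_le n))) := by
    intro n
    induction n with
    | zero =>
      have := congrArg (fun t => t ≫ F.map (coprodProj K 0)) ha
      simp only [assoc, ← F.map_comp, one_sub_shiftMap_proj_zero, ι_coprodProj_self] at this
      rw [← this]
      exact congrArg (fun t => φ ≫ F.map t)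
        ((G.map_id 0).symm.trans (congrArg G.map (Subsingleton.elim _ _)))
    | succ n ih =>
      have : a ≫ F.map (coprodProj K (n + 1)) - a ≫ F.map (coprodProj K n ≫ f n) = 0 := by
        rw [← Preadditive.comp_sub, ← F.map_sub, ← one_sub_shiftMap_proj_succ, F.map_comp, ← assoc,
          ← ha, assoc, ← F.map_comp, ι_coprodProj_ne (Nat.succ_ne_zero n).symm, F.map_zero, comp_zero]
      rw [sub_eq_zero] at this
      rw [this, F.map_comp, ← assoc, ih, assoc, ← F.map_comp]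
      exact congrArg (fun t => φ ≫ F.map t) ((G.map_comp _ _).symm.trans (congrArg G.map (Subsingleton.elim _ _)))
  obtain ⟨s, hs⟩ := hp.2 K hG a
  refine ⟨s.sup id + 1, ?_⟩
  have hn : s.sup id + 1 ∉ s := fun h => by
    have := Finset.le_sup (f := id) h
    simp only [id] at this
    omega
  rw [← key, ← hs, assoc, ← F.map_comp, partProj_eq_sum, Preadditive.sum_comp]
  rw [Finset.sum_eq_zero, F.map_zero, comp_zero]
  intro j hj
  rw [assoc, ι_coprodProj_ne (fun h : j = s.sup id + 1 => hn (h ▸ hj)), comp_zero]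

/-- Neeman's factorization lemma. -/
theorem exists_factor [∀ J : Type w, HasColimitsOfShape (Discrete J) D]
    [HasColimitsOfShape (Discrete ℕ) D] [LocallySmall.{w} D]
    (P Ψ : ObjectProperty D) [P.IsTriangulated] [P.IsClosedUnderIsomorphisms]
    [Ψ.IsTriangulated] [Ψ.IsClosedUnderIsomorphisms]
    (hPsum : ∀ (J : Type w) (M : J → D), (∀ j, P (M j)) → P (∐ M))
    (hPnat : ∀ M : ℕ → D, (∀ j, P (M j)) → P (∐ M))
    (hΨP : ∀ c, Ψ c → P c) (hc : ∀ c, Ψ c → CompactIn.{w} P c)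
    {ι : Type w} (S : ι → D) (hS : ∀ i, Ψ (S i))
    (hdet : ∀ E, P E → (∀ (i : ι) (φ : S i ⟶ E), φ = 0) → IsZero E)
    {p : D'} (hp : CompactFor.{w} F P p) {T : D} (hT : P T) (φ : p ⟶ F.obj T) :
    ∃ (R : D) (ψ : p ⟶ F.obj R) (h : R ⟶ T), Ψ R ∧ φ = ψ ≫ F.map h := by
  classical
  -- the cellular system
  have hstep : ∀ E : D, ∃ (E' : D) (f : E ⟶ E'), (P E → P E') ∧
      (∀ (i : ι) (g : S i ⟶ E), g ≫ f = 0) ∧
      ∃ (J : Type w) (M : J → D) (_ : HasCoproduct M) (y : ∐ M ⟶ E) (z : E' ⟶ (∐ M)⟦(1 : ℤ)⟧),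
        (∀ j, Ψ (M j)) ∧ Triangle.mk y f z ∈ distTriang D := by
    intro E
    let J := Shrink.{w} (Σ i : ι, (S i ⟶ E))
    let q : J → Σ i : ι, (S i ⟶ E) := (equivShrink _).symm
    let M : J → D := fun j => S (q j).1
    obtain ⟨E', f, z, hT⟩ := distinguished_cocone_triangle (Sigma.desc fun j => (q j).2 : ∐ M ⟶ E)
    refine ⟨E', f, fun hE => ObjectProperty.ext_of_isTriangulatedClosed₃ _ _ hT
      (hPsum J M fun j => hΨP _ (hS _)) hE, fun i g => ?_, J, M, inferInstance, _, z,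
      fun j => hS _, hT⟩
    obtain ⟨j, hj⟩ := (equivShrink (Σ i : ι, (S i ⟶ E))).symm.surjective ⟨i, g⟩
    have h0 : (Sigma.desc fun j => (q j).2 : ∐ M ⟶ E) ≫ f = 0 := comp_distTriang_mor_zero₁₂ _ hT
    have h1 : (q j).2 ≫ f = 0 := by
      rw [← Sigma.ι_desc (fun j => (q j).2) j, assoc, h0, comp_zero]
    have e : q j = (⟨i, g⟩ : Σ i : ι, (S i ⟶ E)) := hj
    exact (e ▸ h1 : (Sigma.mk i g : Σ i : ι, (S i ⟶ E)).2 ≫ f = 0)
  choose next fnext hPnext hkill hlayer using hstep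
  let E : ℕ → D := fun n => Nat.rec T (fun _ X => next X) n
  let f : ∀ n, E n ⟶ E (n + 1) := fun n => fnext (E n)
  let G := Functor.ofSequence f
  have hG : ∀ n, G.map (homOfLE (Nat.le_succ n)) = f n := fun n =>
    Functor.ofSequence_map_homOfLE_succ f n
  have hPE : ∀ n, P (E n) := fun n => by
    induction n with
    | zero => exact hT
    | succ n ih => exact hPnext _ ih
  obtain ⟨L, inc, hL⟩ := exists_isHocolim E f
  have hLP : P L := by
    obtain ⟨c, hc'⟩ := hL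
    exact ObjectProperty.ext_of_isTriangulatedClosed₃ _ _ hc' (hPnat E hPE) (hPnat E hPE)
  -- `L` has no maps from `S`
  have hL0 : IsZero L := hdet L hLP fun i g => by
    have hinj : ∀ y : S i ⟶ (∐ E)⟦(1 : ℤ)⟧,
        y ≫ (𝟙 (∐ E) - shiftMap E f)⟦(1 : ℤ)⟧' = 0 → y = 0 := fun y hy => by
      let d : (S i)⟦(-1 : ℤ)⟧⟦(1 : ℤ)⟧ ≅ S i := (shiftFunctorCompIsoId D (-1 : ℤ) 1 (by simp)).app _
      obtain ⟨y0, hy0⟩ := (shiftFunctor D (1 : ℤ)).map_surjective (d.hom ≫ y)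
      have hy' : y0 ≫ (𝟙 (∐ E) - shiftMap E f) = 0 := by
        apply (shiftFunctor D (1 : ℤ)).map_injective
        rw [Functor.map_comp, hy0, assoc, hy, comp_zero, Functor.map_zero]
      have hm : ∀ m, y0 ≫ coprodProj E m = 0 := by
        intro m
        induction m with
        | zero => rw [← one_sub_shiftMap_proj_zero E f, ← assoc, hy', zero_comp]
        | succ m ih =>
          have h1 : y0 ≫ (coprodProj E (m + 1) - coprodProj E m ≫ f m) = 0 := by
            rw [← one_sub_shiftMap_proj_succ, ← assoc, hy', zero_comp]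
          rwa [Preadditive.comp_sub, ← assoc, ih, zero_comp, sub_zero] at h1
      obtain ⟨s, hs⟩ := (hc _ (Ψ.le_shift (-1 : ℤ) _ (hS i))).2 E hPE y0
      replace hs : y0 ≫ partProj E s = y0 := hs
      have : y0 = 0 := by
        rw [← hs, partProj_eq_sum, Preadditive.comp_sum]
        exact Finset.sum_eq_zero fun j _ => by rw [← assoc, hm, zero_comp]
      rw [← cancel_epi d.hom, ← hy0, this, Functor.map_zero, comp_zero]
    obtain ⟨a, ha⟩ := Groth.Agent.TriCat.IsHocolim.exists_lift_of_injective hL hinj g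
    obtain ⟨s, hs⟩ := (hc _ (hS i)).2 E hPE a
    replace hs : a ≫ partProj E s = a := hs
    rw [ha, ← hs, partProj_eq_sum, Preadditive.comp_sum, Preadditive.sum_comp]
    refine Finset.sum_eq_zero fun j _ => ?_
    rw [assoc, assoc, Sigma.ι_desc, ← Groth.Agent.TriCat.IsHocolim.comp_i hL j, ← assoc (coprodProj E j), ← assoc, ← assoc a,
      hkill]
    try simp
  have hL' : IsHocolim G.obj (fun n => G.map (homOfLE (Nat.le_succ n))) L inc := by
    obtain ⟨c, hc'⟩ := hL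
    refine ⟨c, ?_⟩
    change Triangle.mk (𝟙 (∐ E) - shiftMap E fun n => G.map (homOfLE (Nat.le_succ n))) (Sigma.desc inc) c ∈ _
    rwa [show (fun n => G.map (homOfLE (Nat.le_succ n))) = f from funext hG]
  obtain ⟨n, hn⟩ := killed_of_isHocolim hp G hL' hPE φ ((F.map_isZero hL0).eq_of_tgt _ _)
  exact factor_of_killed Ψ hΨP hc hp G (fun n => by
    obtain ⟨J, M, hJ, y, z, hM, hT⟩ := hlayer (E n)
    exact ⟨J, M, hJ, y, z, hM, by rw [hG]; exact hT⟩) n 0 φ (by
      revert hn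
      generalize Nat.zero_le n = h₁
      generalize Nat.le_add_right 0 n = h₂
      revert h₂
      rw [Nat.zero_add]
      exact fun _ h => h)

end Groth.Agent.DQGen
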