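import Groth.Agent.DQGen.Vanish
import Mathlib.Algebra.Category.ModuleCat.Basic
import Mathlib.Algebra.Homology.DerivedCategory.Linear

/-!
# Koszul objects detect objects supported on a closed subset of an affine scheme
-/

set_option backward.isDefEq.respectTransparency false

universe u

open CategoryTheory CategoryTheory.Limits AlgebraicGeometry Pretriangulated TopologicalSpace ZeroObject

attribute [local instance] HasDerivedCategory.standard

namespace Groth.Agent.DQGen

open Groth.Agent.KFlatLib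

section Ring

variable {R : CommRingCat.{u}}

/-- `R` in degree zero. -/
noncomputable abbrev one0 (R : CommRingCat.{u}) : DerivedCategory (ModuleCat.{u} R) :=
  (DerivedCategory.singleFunctor (ModuleCat.{u} R) 0).obj (ModuleCat.of R R)

/-- Multiplication by a scalar has a cone. -/
lemma exists_smul_cone (f : R) (K : DerivedCategory (ModuleCat.{u} R)) :
    ∃ (C : DerivedCategory (ModuleCat.{u} R)) (b : K ⟶ C) (c : C ⟶ K⟦(1 : ℤ)⟧),
      Triangle.mk (f • 𝟙 K) b c ∈ distTriang _ :=
  distinguished_cocone_triangle _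

/-- The Koszul object of a list. -/
noncomputable def kz : List R → DerivedCategory (ModuleCat.{u} R)
  | [] => one0 R
  | f :: l => (exists_smul_cone f (kz l)).choose

lemma kz_cons (f : R) (l : List R) : ∃ (b : kz l ⟶ kz (f :: l)) (c : kz (f :: l) ⟶ (kz l)⟦(1 : ℤ)⟧),
    Triangle.mk (f • 𝟙 (kz l)) b c ∈ distTriang _ :=
  (exists_smul_cone f (kz l)).choose_spec

/-- Homology is linear. -/
lemma homologyFunctor_map_smul (n : ℤ) (f : R) {K L : DerivedCategory (ModuleCat.{u} R)} (φ : K ⟶ L) :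
    (DerivedCategory.homologyFunctor (ModuleCat.{u} R) n).map (f • φ) =
      f • (DerivedCategory.homologyFunctor _ n).map φ := by
  let H := DerivedCategory.homologyFunctor (ModuleCat.{u} R) n
  have h1 : ∀ M, H.map (f • 𝟙 M) = f • 𝟙 (H.obj M) := fun M => by
    let C := DerivedCategory.Q.objPreimage M
    let e : DerivedCategory.Q.obj C ≅ M := DerivedCategory.Q.objObjPreimageIso M
    have hM : f • 𝟙 M = e.inv ≫ DerivedCategory.Q.map (f • 𝟙 C) ≫ e.hom := by
      rw [Functor.map_smul, CategoryTheory.Functor.map_id, Linear.smul_comp, Linear.comp_smul,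
        Category.id_comp, Iso.inv_hom_id]
    have hC : H.map (DerivedCategory.Q.map (f • 𝟙 C)) = f • 𝟙 _ := by
      let α := DerivedCategory.homologyFunctorFactors (ModuleCat.{u} R) n
      rw [← cancel_mono (α.hom.app C)]
      refine (α.hom.naturality (f • 𝟙 C)).trans ?_
      have : HomologicalComplex.homologyMap (f • 𝟙 C) n = f • 𝟙 _ := by
        have hs : (HomologicalComplex.shortComplexFunctor (ModuleCat.{u} R) (ComplexShape.up ℤ) n).map
            (f • 𝟙 C) = f • 𝟙 (C.sc n) := by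
          ext <;> rfl
        change ShortComplex.homologyMap _ = _
        rw [hs, ShortComplex.homologyMap_smul, ShortComplex.homologyMap_id]
        rfl
      change α.hom.app C ≫ HomologicalComplex.homologyMap (f • 𝟙 C) n = _
      rw [this]
      exact (Linear.comp_smul _ _ _ _ _ _).trans (((congrArg (f • ·) ((Category.comp_id _).trans
        (Category.id_comp _).symm))).trans (Linear.smul_comp _ _ _ _ _ _).symm)
    rw [hM, Functor.map_comp, Functor.map_comp, hC, Linear.smul_comp, Linear.comp_smul,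
      Category.id_comp, ← H.map_comp, Iso.inv_hom_id, CategoryTheory.Functor.map_id]
  calc H.map (f • φ) = H.map (φ ≫ (f • 𝟙 L)) := by rw [Linear.comp_smul, Category.comp_id]
    _ = f • H.map φ := by rw [Functor.map_comp, h1, Linear.comp_smul, Category.comp_id]

/-- Every cohomology class is killed by a power of `f`. -/
def Tors (f : R) (N : DerivedCategory (ModuleCat.{u} R)) : Prop :=
  ∀ (i : ℤ) (m : (DerivedCategory.homologyFunctor (ModuleCat.{u} R) i).obj N), ∃ k : ℕ, f ^ k • m = 0

variable {f : R}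

lemma Tors.shift {N : DerivedCategory (ModuleCat.{u} R)} (h : Tors f N) (n : ℤ) : Tors f (N⟦n⟧) := by
  intro i m
  let e := ((DerivedCategory.homologyFunctor (ModuleCat.{u} R) 0).shiftIso n i (n + i) rfl).app N
  obtain ⟨k, hk⟩ := h (n + i) (e.hom m)
  refine ⟨k, ?_⟩
  apply e.toLinearEquiv.injective
  rw [map_smul, map_zero]
  exact hk

lemma Tors.obj₂ {T : Triangle (DerivedCategory (ModuleCat.{u} R))} (hT : T ∈ distTriang _)
    (h₁ : Tors f T.obj₁) (h₃ : Tors f T.obj₃) : Tors f T.obj₂ := by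
  intro i m
  let H := DerivedCategory.homologyFunctor (ModuleCat.{u} R) i
  obtain ⟨k, hk⟩ := h₃ i (H.map T.mor₂ m)
  have he := DerivedCategory.HomologySequence.exact₂ T hT i
  rw [ShortComplex.moduleCat_exact_iff] at he
  obtain ⟨x, hx⟩ := he (f ^ k • m) (by
    change H.map T.mor₂ (f ^ k • m) = 0
    rw [map_smul]; exact hk)
  obtain ⟨a, ha⟩ := h₁ i x
  refine ⟨a + k, ?_⟩
  rw [pow_add, mul_smul, ← hx]
  change f ^ a • H.map T.mor₁ x = 0
  rw [← map_smul, ha, map_zero]

lemma tors_cone {K C : DerivedCategory (ModuleCat.{u} R)} (b : K ⟶ C) (c : C ⟶ K⟦(1 : ℤ)⟧)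
    (hT : Triangle.mk (f • 𝟙 K) b c ∈ distTriang _) : Tors f C := by
  intro i m
  let H := DerivedCategory.homologyFunctor (ModuleCat.{u} R) i
  have hrot := rot_of_distTriang _ hT
  have h0 : f • c = 0 := by
    have h := comp_distTriang_mor_zero₂₃ _ hrot
    change c ≫ (-(f • 𝟙 K)⟦(1 : ℤ)⟧') = 0 at h
    rwa [Functor.map_smul, CategoryTheory.Functor.map_id, Preadditive.comp_neg, Linear.comp_smul,
      Category.comp_id, neg_eq_zero] at h
  have he := DerivedCategory.HomologySequence.exact₂ _ hrot i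
  rw [ShortComplex.moduleCat_exact_iff] at he
  obtain ⟨x, hx⟩ := he (f • m) (by
    change H.map c (f • m) = 0
    have hm : H.map (f • c) = f • H.map c := homologyFunctor_map_smul i f c
    rw [h0, Functor.map_zero] at hm
    rw [map_smul]
    exact (congrArg (fun t => t.hom m) hm).symm)
  refine ⟨2, ?_⟩
  have h0' : f • b = 0 := by
    have h := comp_distTriang_mor_zero₁₂ _ hT
    change (f • 𝟙 K) ≫ b = 0 at h
    rwa [Linear.smul_comp, Category.id_comp] at h
  rw [pow_two, mul_smul, ← hx]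
  have hm : H.map (f • b) = f • H.map b := homologyFunctor_map_smul i f b
  rw [h0', Functor.map_zero] at hm
  change f • H.map b x = 0
  exact (congrArg (fun t => t.hom x) hm).symm

lemma tors_kz : ∀ (l : List R) (f : R), f ∈ l → Tors f (kz l)
  | g :: l, f, hf => by
    obtain ⟨b, c, hT⟩ := kz_cons g l
    rcases List.mem_cons.1 hf with rfl | hf
    · exact tors_cone b c hT
    · exact Tors.obj₂ (rot_of_distTriang _ hT) (tors_kz l f hf) ((tors_kz l f hf).shift 1)

/-- Maps from Koszul objects to torsion objects are torsion. -/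
lemma tors_hom : ∀ (l : List R) (N : DerivedCategory (ModuleCat.{u} R)), Tors f N →
    ∀ φ : kz l ⟶ N, ∃ k : ℕ, f ^ k • φ = 0
  | [], N, hN, φ => by
    let H := DerivedCategory.homologyFunctor (ModuleCat.{u} R) 0
    haveI : CategoryTheory.Projective (ModuleCat.of R R) := inferInstance
    have hb := bijective_psiC_of_projective (P := ModuleCat.of R R) 0 N
    obtain ⟨k, hk⟩ := hN 0 ((psiC 0 (ModuleCat.of R R) N φ).hom (1 : R))
    refine ⟨k, hb.1 ?_⟩
    have hlin : psiC 0 (ModuleCat.of R R) N (f ^ k • φ) = f ^ k • psiC 0 (ModuleCat.of R R) N φ := by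
      unfold psiC
      rw [homologyFunctor_map_smul, Linear.comp_smul]
    rw [hlin, show psiC 0 (ModuleCat.of R R) N (0 : kz [] ⟶ N) = 0 by
      unfold psiC; rw [Functor.map_zero, comp_zero]]
    refine ModuleCat.hom_ext (LinearMap.ext_ring ?_)
    exact hk
  | g :: l, N, hN, φ => by
    obtain ⟨b, c, hT⟩ := kz_cons g l
    obtain ⟨a, ha⟩ := tors_hom l N hN (b ≫ φ)
    obtain ⟨χ, hχ⟩ := Triangle.yoneda_exact₃ _ hT (f ^ a • φ) (by
      change b ≫ (f ^ a • φ) = 0
      rw [Linear.comp_smul, ha])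
    change kz (g :: l) ⟶ N at φ
    change (kz l)⟦(1 : ℤ)⟧ ⟶ N at χ
    change f ^ a • φ = c ≫ χ at hχ
    let e := (shiftFunctorCompIsoId (DerivedCategory (ModuleCat.{u} R)) (1 : ℤ) (-1) (by simp)).app (kz l)
    obtain ⟨d, hd⟩ := tors_hom l _ (hN.shift (-1)) (e.inv ≫ χ⟦(-1 : ℤ)⟧')
    refine ⟨d + a, ?_⟩
    have hd' : f ^ d • χ = 0 := by
      apply (shiftFunctor _ (-1 : ℤ)).map_injective
      rw [Functor.map_smul, Functor.map_zero, ← cancel_epi e.inv, Linear.comp_smul, hd, comp_zero]
    rw [pow_add, mul_smul, hχ, ← Linear.comp_smul, hd', comp_zero]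

/-- Koszul objects detect torsion objects. -/
lemma isZero_of_kz_orth : ∀ (l : List R) (N : DerivedCategory (ModuleCat.{u} R)), (∀ f ∈ l, Tors f N) →
    (∀ (n : ℤ) (φ : kz l ⟶ N⟦n⟧), φ = 0) → IsZero N
  | [], N, _, h => by
    have hiso : IsIso (0 : N ⟶ (0 : DerivedCategory (ModuleCat.{u} R))) := by
      refine isIso_of_bijective_single _ fun n => ⟨fun x y _ => ?_, fun z => ⟨0, ?_⟩⟩
      · let e : ((DerivedCategory.singleFunctor (ModuleCat.{u} R) n).obj (ModuleCat.of R R))⟦n⟧ ≅
            kz [] :=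
          ((DerivedCategory.singleFunctors (ModuleCat.{u} R)).shiftIso n 0 n (add_zero n)).app _
        apply (shiftFunctor _ n).map_injective
        rw [← cancel_epi e.inv, h n (e.inv ≫ x⟦n⟧'), h n (e.inv ≫ y⟦n⟧')]
      · exact (isZero_zero _).eq_of_tgt _ _
    exact (isZero_zero _).of_iso (@asIso _ _ _ _ _ hiso)
  | g :: l, N, ht, h => by
    obtain ⟨b, c, hT⟩ := kz_cons g l
    refine isZero_of_kz_orth l N (fun f hf => ht f (List.mem_cons_of_mem _ hf)) fun n φ => ?_
    obtain ⟨k, hk⟩ := tors_hom l (N⟦n⟧) ((ht g List.mem_cons_self).shift n) φ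
    have hinj : ∀ ψ : kz l ⟶ N⟦n⟧, g • ψ = 0 → ψ = 0 := fun ψ hψ => by
      obtain ⟨χ, hχ⟩ := Triangle.yoneda_exact₂ _ hT ψ (by
        change (g • 𝟙 (kz l)) ≫ ψ = 0
        rw [Linear.smul_comp, Category.id_comp, hψ])
      rw [hχ, h n χ, comp_zero]
    clear h
    induction k with
    | zero => simpa using hk
    | succ k ih =>
      refine ih (hinj _ ?_)
      rw [← mul_smul, ← pow_succ', hk]

variable [PreservesFiniteLimits (tilde.functor R)]

lemma isPerfect_tildeD_kz : ∀ l : List R, DCoh.IsPerfect ((DCoh.tildeD R).obj (kz l))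
  | [] => by
    refine (perfect_tildeD_iff _).2 ⟨(CochainComplex.singleFunctor (ModuleCat.{u} R) 0).obj
      (ModuleCat.of R R), 0, 0, fun i hi => HomologicalComplex.isZero_single_obj_X _ _ _ _ (by omega),
      fun i => ?_, ⟨Iso.refl _⟩⟩
    by_cases hi : i = 0
    · subst hi
      let e := (HomologicalComplex.singleObjXSelf (ComplexShape.up ℤ) (0 : ℤ) (ModuleCat.of R R)).toLinearEquiv
      exact ⟨Module.Finite.equiv e.symm, Module.Projective.of_equiv e.symm⟩
    · haveI : Subsingleton (((CochainComplex.singleFunctor (ModuleCat.{u} R) 0).obj (ModuleCat.of R R)).X i :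
          Type u) := ModuleCat.subsingleton_of_isZero
        (HomologicalComplex.isZero_single_obj_X (ComplexShape.up ℤ) 0 (ModuleCat.of R R) i hi)
      exact ⟨inferInstance, inferInstance⟩
  | g :: l => by
    obtain ⟨b, c, hT⟩ := kz_cons g l
    exact (isPerfect_iff _).2 (locSP_obj₃ _ ((DCoh.tildeD R).map_distinguished _ hT)
      ((isPerfect_iff _).1 (isPerfect_tildeD_kz l)) ((isPerfect_iff _).1 (isPerfect_tildeD_kz l)))

/-- Torsion in terms of supports. -/
lemma tors_iff_support (f : R) (N : DerivedCategory (ModuleCat.{u} R)) :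
    Tors f N ↔ ∀ i : ℤ, ∀ x ∈ PrimeSpectrum.basicOpen f,
      Subsingleton ((DCoh.HD ((DCoh.tildeD R).obj N) i).presheaf.stalk x) := by
  let H := fun i => (DerivedCategory.homologyFunctor (ModuleCat.{u} R) i).obj N
  have key : ∀ (i : ℤ) (x : Spec R),
      Subsingleton ((DCoh.HD ((DCoh.tildeD R).obj N) i).presheaf.stalk x) ↔
        ∀ m : H i, ∃ s ∈ x.asIdeal.primeCompl, s • m = 0 := by
    intro i x
    let e := (Scheme.Modules.toPresheaf (Spec R) ⋙ TopCat.Presheaf.stalkFunctor _ x).mapIso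
      ((mapDCHomologyIso (tilde.functor R) i).app N)
    refine e.addCommGroupIsoToAddEquiv.toEquiv.subsingleton_congr.trans ?_
    let g := (tilde.toStalk (H i) x).hom
    refine ⟨fun h m => ?_, fun h => ⟨fun a b => ?_⟩⟩
    · haveI : Subsingleton ((tilde (H i)).presheaf.stalk x) := h
      obtain ⟨s, hs⟩ := IsLocalizedModule.exists_of_eq (S := x.asIdeal.primeCompl) (f := g)
        (x₁ := m) (x₂ := 0) (Subsingleton.elim (α := (tilde (H i)).presheaf.stalk x) _ _)
      exact ⟨s, s.2, hs.trans (smul_zero _)⟩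
    · have h0 : ∀ a : ((tilde (H i)).presheaf.stalk x), a = 0 := fun a => by
        obtain ⟨⟨m, s⟩, hms⟩ := IsLocalizedModule.surj x.asIdeal.primeCompl g a
        obtain ⟨t, ht, htm⟩ := h m
        have hm : g m = 0 := by
          have hu := IsLocalizedModule.map_units g ⟨t, ht⟩
          refine ((Module.End.isUnit_iff _).1 hu).1 ?_
          change t • g m = t • 0
          rw [← map_smul, htm, map_zero, smul_zero]
        rw [hm] at hms
        refine ((Module.End.isUnit_iff _).1 (IsLocalizedModule.map_units g s)).1 ?_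
        change (s : R) • a = (s : R) • 0
        rw [smul_zero]
        exact hms
      exact (h0 a).trans (h0 b).symm
  refine ⟨fun h i x hx => (key i x).2 fun m => ?_, fun h i m => ?_⟩
  · obtain ⟨k, hk⟩ := h i m
    exact ⟨f ^ k, fun hmem => hx (x.isPrime.mem_of_pow_mem k hmem), hk⟩
  · suffices f ∈ (Submodule.span R {m}).annihilator.radical by
      obtain ⟨k, hk⟩ := this
      exact ⟨k, (Submodule.mem_annihilator_span_singleton m (f ^ k)).1 hk⟩
    rw [Ideal.radical_eq_sInf, Ideal.mem_sInf]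
    rintro p ⟨hle, hp⟩
    by_contra hf
    obtain ⟨s, hs, hsm⟩ := (key i ⟨p, hp⟩).1 (h i ⟨p, hp⟩ hf) m
    exact hs (hle ((Submodule.mem_annihilator_span_singleton m s).2 hsm))

end Ring

/-- A perfect object supported off `W` detecting the objects supported off `W`. -/
theorem exists_detector_spec (R : CommRingCat.{u}) (W : (Spec R).Opens) (hW : IsCompact (W : Set (Spec R))) :
    ∃ P, PP W P ∧ ∀ E, PQ W E → (∀ (n : ℤ) (φ : P ⟶ E⟦n⟧), φ = 0) → IsZero E := by
  haveI := QCoh.tilde_preservesFiniteLimits (R := R)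
  let B : R → (Spec R).Opens := fun f => PrimeSpectrum.basicOpen f
  have hex : ∀ x : W, ∃ f : R, (B f : Set (Spec R)) ⊆ (W : Set (Spec R)) ∧
      x.1 ∈ PrimeSpectrum.basicOpen f := fun x => by
    obtain ⟨_, ⟨f, rfl⟩, hx, hsub⟩ :=
      PrimeSpectrum.isTopologicalBasis_basic_opens.exists_subset_of_mem_open x.2 W.2
    exact ⟨f, hsub, hx⟩
  choose f hfW hxf using hex
  obtain ⟨t, ht⟩ := hW.elim_finite_subcover (fun x : W => (B (f x) : Set (Spec R)))
    (fun x => (PrimeSpectrum.basicOpen (f x)).2) (fun x hx => Set.mem_iUnion.2 ⟨⟨x, hx⟩, hxf ⟨x, hx⟩⟩)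
  let l := t.toList.map f
  have hiff : ∀ N, (∀ g ∈ l, Tors g N) ↔ IsZero ((rho W.ι).obj ((DCoh.tildeD R).obj N)) := fun N => by
    refine ⟨fun h => (isZero_rho_iff_support W _).2 fun i x hx hxW => hx ?_, fun h g hg => ?_⟩
    · obtain ⟨y, hy, hxy⟩ := Set.mem_iUnion₂.1 (ht hxW)
      exact (tors_iff_support (f y) N).1 (h _ (List.mem_map.2 ⟨y, Finset.mem_toList.2 hy, rfl⟩)) i x hxy
    · obtain ⟨y, -, rfl⟩ := List.mem_map.1 hg
      exact (tors_iff_support (f y) N).2 fun i x hx =>
        not_not.1 fun hne => (isZero_rho_iff_support W _).1 h i hne (hfW y hx)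
  refine ⟨(DCoh.tildeD R).obj (kz l), ⟨isPerfect_tildeD_kz l, (hiff _).1 (tors_kz l)⟩, fun E hE h => ?_⟩
  obtain ⟨N, ⟨eN⟩⟩ := exists_tildeD_iso hE.1
  refine ((DCoh.tildeD R).map_isZero (isZero_of_kz_orth l N
    ((hiff N).2 ((PQ W).prop_of_iso eN.symm hE).2) fun n ψ => (tildeD_map_bijective _ _).1 ?_)).of_iso eN.symm
  rw [Functor.map_zero, ← cancel_mono (((DCoh.tildeD R).commShiftIso n).hom.app N ≫ eN.hom⟦n⟧'),
    zero_comp]
  exact h n _

end Groth.Agent.DQGen
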