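import Groth.Agent.DQGen.TruncKoszul

/-!
# Classes supported on a closed set factor through Koszul objects of high powers
-/

set_option backward.isDefEq.respectTransparency false

universe u

open CategoryTheory CategoryTheory.Limits AlgebraicGeometry Pretriangulated TopologicalSpace ZeroObject

attribute [local instance] HasDerivedCategory.standard

namespace Groth.Agent.DQGen

open Groth.Agent.KFlatLib

variable {R : CommRingCat.{u}}

/-- Every class in degree `i` is killed by a power of `f`. -/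
def TorsAt (f : R) (N : DerivedCategory (ModuleCat.{u} R)) (i : ℤ) : Prop :=
  ∀ m : (DerivedCategory.homologyFunctor (ModuleCat.{u} R) i).obj N, ∃ k : ℕ, f ^ k • m = 0

variable {f : R}

lemma TorsAt.shift {N : DerivedCategory (ModuleCat.{u} R)} {n i : ℤ} (h : TorsAt f N (n + i)) :
    TorsAt f (N⟦n⟧) i := by
  intro m
  let e := ((DerivedCategory.homologyFunctor (ModuleCat.{u} R) 0).shiftIso n i (n + i) rfl).app N
  obtain ⟨k, hk⟩ := h (e.hom m)
  refine ⟨k, ?_⟩
  apply e.toLinearEquiv.injective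
  rw [map_smul, map_zero]
  exact hk

lemma TorsAt.obj₃ {T : Triangle (DerivedCategory (ModuleCat.{u} R))} (hT : T ∈ distTriang _) (i : ℤ)
    (h₂ : TorsAt f T.obj₂ i) (h₁ : TorsAt f (T.obj₁⟦(1 : ℤ)⟧) i) : TorsAt f T.obj₃ i := by
  intro m
  let H := DerivedCategory.homologyFunctor (ModuleCat.{u} R) i
  obtain ⟨k, hk⟩ := h₁ (H.map T.mor₃ m)
  have he := DerivedCategory.HomologySequence.exact₂ _ (rot_of_distTriang _ hT) i
  rw [ShortComplex.moduleCat_exact_iff] at he
  obtain ⟨x, hx⟩ := he (f ^ k • m) (by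
    change H.map T.mor₃ (f ^ k • m) = 0
    rw [map_smul]; exact hk)
  obtain ⟨a, ha⟩ := h₂ x
  refine ⟨a + k, ?_⟩
  rw [pow_add, mul_smul, ← hx]
  change f ^ a • H.map T.mor₂ x = 0
  rw [← map_smul, ha, map_zero]

/-- Maps out of a Koszul object only see a window of degrees. -/
lemma tors_hom_window : ∀ (l : List R) (N : DerivedCategory (ModuleCat.{u} R)),
    (∀ i : ℤ, -(l.length : ℤ) ≤ i → i ≤ 0 → TorsAt f N i) →
    ∀ φ : kz l ⟶ N, ∃ k : ℕ, f ^ k • φ = 0
  | [], N, hN, φ => by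
    haveI : CategoryTheory.Projective (ModuleCat.of R R) := inferInstance
    have hb := bijective_psiC_of_projective (P := ModuleCat.of R R) 0 N
    obtain ⟨k, hk⟩ := hN 0 (by simp) le_rfl ((psiC 0 (ModuleCat.of R R) N φ).hom (1 : R))
    refine ⟨k, hb.1 ?_⟩
    have hlin : psiC 0 (ModuleCat.of R R) N (f ^ k • φ) = f ^ k • psiC 0 (ModuleCat.of R R) N φ := by
      unfold psiC
      rw [homologyFunctor_map_smul, Linear.comp_smul]
    rw [hlin, show psiC 0 (ModuleCat.of R R) N (0 : kz [] ⟶ N) = 0 by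
      unfold psiC; rw [Functor.map_zero, comp_zero]]
    exact ModuleCat.hom_ext (LinearMap.ext_ring hk)
  | g :: l, N, hN, φ => by
    obtain ⟨b, c, hT⟩ := kz_cons g l
    obtain ⟨a, ha⟩ := tors_hom_window l N
      (fun i h₁ h₂ => hN i (by simp only [List.length_cons]; omega) h₂) (b ≫ φ)
    obtain ⟨χ, hχ⟩ := Triangle.yoneda_exact₃ _ hT (f ^ a • φ) (by
      change b ≫ (f ^ a • φ) = 0
      rw [Linear.comp_smul, ha])
    change kz (g :: l) ⟶ N at φ
    change (kz l)⟦(1 : ℤ)⟧ ⟶ N at χ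
    change f ^ a • φ = c ≫ χ at hχ
    let e := (shiftFunctorCompIsoId (DerivedCategory (ModuleCat.{u} R)) (1 : ℤ) (-1) (by simp)).app (kz l)
    obtain ⟨d, hd⟩ := tors_hom_window l (N⟦(-1 : ℤ)⟧)
      (fun i h₁ h₂ => (hN (-1 + i) (by simp only [List.length_cons]; omega) (by omega)).shift)
      (e.inv ≫ χ⟦(-1 : ℤ)⟧')
    refine ⟨d + a, ?_⟩
    have hd' : f ^ d • χ = 0 := by
      apply (shiftFunctor _ (-1 : ℤ)).map_injective
      rw [Functor.map_smul, Functor.map_zero, ← cancel_epi e.inv, Linear.comp_smul, hd, comp_zero]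
    rw [pow_add, mul_smul, hχ, ← Linear.comp_smul, hd', comp_zero]

/-- The structure map of a Koszul object. -/
noncomputable def tz : (l : List R) → (one0 R ⟶ kz l)
  | [] => 𝟙 _
  | g :: l => tz l ≫ (kz_cons g l).choose

/-- The powers of a list. -/
abbrev pw (l : List R) (e : ℕ) : List R := l.map fun a => a ^ e

/-- Transition maps between Koszul objects of powers. -/
lemma exists_trans : ∀ (l : List R) (e e' : ℕ), e ≤ e' →
    ∃ τ : kz (pw l e') ⟶ kz (pw l e), tz (pw l e') ≫ τ = tz (pw l e)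
  | [], _, _, _ => ⟨𝟙 _, Category.comp_id _⟩
  | g :: l, e, e', h => by
    obtain ⟨τ, hτ⟩ := exists_trans l e e' h
    obtain ⟨c, hc⟩ := (kz_cons (g ^ e) (pw l e)).choose_spec
    obtain ⟨c', hc'⟩ := (kz_cons (g ^ e') (pw l e')).choose_spec
    obtain ⟨τ', h₁, -⟩ := complete_distinguished_triangle_morphism _ _ hc' hc (g ^ (e' - e) • τ) τ (by
      change (g ^ e' • 𝟙 (kz (pw l e'))) ≫ τ = (g ^ (e' - e) • τ) ≫ (g ^ e • 𝟙 (kz (pw l e)))
      rw [Linear.smul_comp, Category.id_comp, Linear.comp_smul, Category.comp_id, smul_smul, ← pow_add]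
      congr 2
      omega)
    refine ⟨τ', ?_⟩
    change (tz (pw l e') ≫ (kz_cons (g ^ e') (pw l e')).choose) ≫ τ' =
      tz (pw l e) ≫ (kz_cons (g ^ e) (pw l e)).choose
    rw [Category.assoc]
    exact ((congrArg (tz (pw l e') ≫ ·) h₁).trans (Category.assoc _ _ _).symm).trans
      (congrArg (· ≫ _) hτ)

/-- Classes supported on `V(l)` factor through Koszul objects of powers. -/
theorem exists_factor_kz : ∀ (l : List R) (N : DerivedCategory (ModuleCat.{u} R)),
    (∀ g ∈ l, ∀ i : ℤ, -(l.length : ℤ) < i → i ≤ 0 → TorsAt g N i) →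
    ∀ s : one0 R ⟶ N, ∃ (e : ℕ) (ψ : kz (pw l e) ⟶ N), tz (pw l e) ≫ ψ = s
  | [], N, _, s => ⟨0, s, Category.id_comp _⟩
  | g :: l, N, hN, s => by
    obtain ⟨e₀, ψ₀, h₀⟩ := exists_factor_kz l N
      (fun g' hg' i h₁ h₂ => hN g' (List.mem_cons_of_mem _ hg') i (by simp only [List.length_cons]; omega) h₂) s
    obtain ⟨k, hk⟩ := tors_hom_window (f := g) (pw l e₀) N
      (fun i h₁ h₂ => hN g List.mem_cons_self i (by simp [pw] at h₁ ⊢; omega) h₂) ψ₀
    obtain ⟨τ, hτ⟩ := exists_trans l e₀ (max e₀ k) (le_max_left _ _)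
    obtain ⟨c, hc⟩ := (kz_cons (g ^ max e₀ k) (pw l (max e₀ k))).choose_spec
    obtain ⟨χ, hχ⟩ := Triangle.yoneda_exact₂ _ hc (τ ≫ ψ₀) (by
      change (g ^ max e₀ k • 𝟙 (kz (pw l (max e₀ k)))) ≫ τ ≫ ψ₀ = 0
      rw [Linear.smul_comp, Category.id_comp, ← Linear.comp_smul]
      have : g ^ max e₀ k • ψ₀ = 0 := by
        rw [show max e₀ k = (max e₀ k - k) + k by omega, pow_add, mul_smul, hk, smul_zero]
      rw [this, comp_zero])
    refine ⟨max e₀ k, χ, ?_⟩
    change (tz (pw l (max e₀ k)) ≫ (kz_cons (g ^ max e₀ k) (pw l (max e₀ k))).choose) ≫ χ = s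
    rw [Category.assoc]
    refine (congrArg (tz (pw l (max e₀ k)) ≫ ·) hχ.symm).trans ?_
    rw [← Category.assoc, hτ, h₀]

variable [PreservesFiniteLimits (tilde.functor R)]

/-- Torsion in one degree in terms of stalks. -/
lemma torsAt_iff_support (f : R) (N : DerivedCategory (ModuleCat.{u} R)) (i : ℤ) :
    TorsAt f N i ↔ ∀ x ∈ PrimeSpectrum.basicOpen f,
      Subsingleton ((DCoh.HD ((DCoh.tildeD R).obj N) i).presheaf.stalk x) := by
  let M := (DerivedCategory.homologyFunctor (ModuleCat.{u} R) i).obj N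
  have key : ∀ (x : Spec R),
      Subsingleton ((DCoh.HD ((DCoh.tildeD R).obj N) i).presheaf.stalk x) ↔
        ∀ m : M, ∃ s ∈ x.asIdeal.primeCompl, s • m = 0 := by
    intro x
    let e := (Scheme.Modules.toPresheaf (Spec R) ⋙ TopCat.Presheaf.stalkFunctor _ x).mapIso
      ((mapDCHomologyIso (tilde.functor R) i).app N)
    refine e.addCommGroupIsoToAddEquiv.toEquiv.subsingleton_congr.trans ?_
    let g := (tilde.toStalk M x).hom
    refine ⟨fun h m => ?_, fun h => ⟨fun a b => ?_⟩⟩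
    · haveI : Subsingleton ((tilde M).presheaf.stalk x) := h
      obtain ⟨s, hs⟩ := IsLocalizedModule.exists_of_eq (S := x.asIdeal.primeCompl) (f := g)
        (x₁ := m) (x₂ := 0) (Subsingleton.elim (α := (tilde M).presheaf.stalk x) _ _)
      exact ⟨s, s.2, hs.trans (smul_zero _)⟩
    · have h0 : ∀ a : ((tilde M).presheaf.stalk x), a = 0 := fun a => by
        obtain ⟨⟨m, s⟩, hms⟩ := IsLocalizedModule.surj x.asIdeal.primeCompl g a
        obtain ⟨t, ht, htm⟩ := h m
        have hm : g m = 0 := by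
          have hu := IsLocalizedModule.map_units g ⟨t, ht⟩
          refine ((Module.End.isUnit_iff _).1 hu).1 ?_
          change t • g m = t • 0
          rw [← map_smul, htm, map_zero, smul_zero]
        rw [hm] at hms
        refine ((Module.End.isUnit_iff _).1 (IsLocalizedModule.map_units g s)).1 ?_
        change (s : R) • a = (s : R) • 0
        rw [smul_zero]
        exact hms
      exact (h0 a).trans (h0 b).symm
  refine ⟨fun h x hx => (key x).2 fun m => ?_, fun h m => ?_⟩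
  · obtain ⟨k, hk⟩ := h m
    exact ⟨f ^ k, fun hmem => hx (x.isPrime.mem_of_pow_mem k hmem), hk⟩
  · suffices f ∈ (Submodule.span R {m}).annihilator.radical by
      obtain ⟨k, hk⟩ := this
      exact ⟨k, (Submodule.mem_annihilator_span_singleton m (f ^ k)).1 hk⟩
    rw [Ideal.radical_eq_sInf, Ideal.mem_sInf]
    rintro p ⟨hle, hp⟩
    by_contra hf
    obtain ⟨s, hs, hsm⟩ := (key ⟨p, hp⟩).1 (h ⟨p, hp⟩ hf) m
    exact hs (hle ((Submodule.mem_annihilator_span_singleton m s).2 hsm))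

end Groth.Agent.DQGen
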