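import Groth.Agent.DQGen.Koszul
import Groth.Agent.DQGen.Lift

/-!
# Objects orthogonal to a Koszul object
-/

set_option backward.isDefEq.respectTransparency false

universe u

open CategoryTheory CategoryTheory.Limits AlgebraicGeometry Pretriangulated TopologicalSpace ZeroObject

attribute [local instance] HasDerivedCategory.standard

namespace Groth.Agent.DQGen

open Groth.Agent.KFlatLib

variable {R : CommRingCat.{u}}

/-- The Koszul complex computes `kz`. -/
theorem nonempty_koszul_iso : ∀ l : List R, Nonempty (DerivedCategory.Q.obj (Koszul.koszul R l) ≅ kz l)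
  | [] => ⟨((DerivedCategory.singleFunctorIsoCompQ (ModuleCat.{u} R) 0).app _).symm⟩
  | f :: l => by
    obtain ⟨e⟩ := nonempty_koszul_iso l
    obtain ⟨b, c, hT⟩ := kz_cons f l
    have h := DerivedCategory.mappingCone_triangle_distinguished (f • 𝟙 (Koszul.koszul R l))
    let i := isoTriangleOfIso₁₂ _ _ h hT e e (by
      change DerivedCategory.Q.map (f • 𝟙 (Koszul.koszul R l)) ≫ e.hom = e.hom ≫ (f • 𝟙 (kz l))
      rw [Functor.map_smul, CategoryTheory.Functor.map_id, Linear.smul_comp, Linear.comp_smul,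
        Category.id_comp, Category.comp_id])
    exact ⟨Triangle.π₃.mapIso i⟩

variable [PreservesFiniteLimits (tilde.functor R)]

/-- `kz l` is supported off the union of the basic opens and detects objects supported there. -/
theorem detector_kz (l : List R) (W : (Spec R).Opens) (hW : ∀ x : Spec R, x ∈ W ↔ ∃ f ∈ l, x ∈ PrimeSpectrum.basicOpen f) :
    PP W ((DCoh.tildeD R).obj (kz l)) ∧
      ∀ E, PQ W E → (∀ (n : ℤ) (φ : (DCoh.tildeD R).obj (kz l) ⟶ E⟦n⟧), φ = 0) → IsZero E := by
  have hiff : ∀ N, (∀ g ∈ l, Tors g N) ↔ IsZero ((rho W.ι).obj ((DCoh.tildeD R).obj N)) := fun N => by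
    refine ⟨fun h => (isZero_rho_iff_support W _).2 fun i x hx hxW => hx ?_, fun h g hg => ?_⟩
    · obtain ⟨g, hg, hxg⟩ := (hW x).1 hxW
      exact (tors_iff_support g N).1 (h g hg) i x hxg
    · exact (tors_iff_support g N).2 fun i x hx =>
        not_not.1 fun hne => (isZero_rho_iff_support W _).1 h i hne ((hW x).2 ⟨g, hg, hx⟩)
  refine ⟨⟨isPerfect_tildeD_kz l, (hiff _).1 (tors_kz l)⟩, fun E hE h => ?_⟩
  obtain ⟨N, ⟨eN⟩⟩ := exists_tildeD_iso hE.1
  refine ((DCoh.tildeD R).map_isZero (isZero_of_kz_orth l N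
    ((hiff N).2 ((PQ W).prop_of_iso eN.symm hE).2) fun n ψ => (tildeD_map_bijective _ _).1 ?_)).of_iso eN.symm
  rw [Functor.map_zero, ← cancel_mono (((DCoh.tildeD R).commShiftIso n).hom.app N ≫ eN.hom⟦n⟧'),
    zero_comp]
  exact h n _

/-- An object orthogonal to a detector of `PQ W` comes from `W`, and conversely. -/
theorem orth_iff_pushforward {X : Scheme.{u}} (W : X.Opens) [QuasiCompact W.ι] {P : DCoh.D X}
    (hP : IsZero ((rho W.ι).obj P))
    (hdet : ∀ E, PQ W E → (∀ (n : ℤ) (φ : P ⟶ E⟦n⟧), φ = 0) → IsZero E)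
    {E : DCoh.D X} (hE : DCoh.IsQCohD E) :
    (∃ M : DCoh.D (W : Scheme.{u}), DCoh.IsQCohD M ∧ Nonempty (E ≅ (DCoh.Rpush W.ι).obj M)) ↔
      ∀ (n : ℤ) (φ : P⟦n⟧ ⟶ E), φ = 0 := by
  constructor
  · rintro ⟨M, -, ⟨e⟩⟩ n φ
    rw [← cancel_mono e.hom, zero_comp]
    exact eq_zero_of_restrict_isZero W.ι (isZero_rho_shift W hP n) _
  · intro h
    obtain ⟨C, b, c, hT⟩ := distinguished_cocone_triangle ((adj W.ι).unit.app E)
    have hq := isQCohD_rpush W.ι (isQCohD_rho W.ι hE)
    have hC : PQ W C := ⟨isQCohD_obj₃ hT hE hq,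
      isZero_rho_of_range_le W.ι _ le_rfl (isZero_rho_cone_unit W.ι b c hT)⟩
    have hC0 : IsZero C := hdet C hC (eq_zero_of_forall_shift fun n φ => by
      have h1 : φ ≫ c = 0 := by
        apply (shiftFunctor _ (-1 : ℤ)).map_injective
        rw [Functor.map_zero,
          ← cancel_epi ((shiftFunctorAdd' (DCoh.D X) n (-1) (n + -1) rfl).hom.app P),
          ← cancel_mono ((shiftFunctorCompIsoId (DCoh.D X) (1 : ℤ) (-1) (by simp)).hom.app E),
          comp_zero, zero_comp]
        exact h _ _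
      obtain ⟨χ, hχ⟩ := Triangle.coyoneda_exact₃ _ hT φ h1
      rw [hχ, eq_zero_of_restrict_isZero W.ι (isZero_rho_shift W hP n) χ, zero_comp])
    haveI : IsIso ((adj W.ι).unit.app E) := (Triangle.isZero₃_iff_isIso₁ _ hT).1 hC0
    exact ⟨_, isQCohD_rho W.ι hE, ⟨asIso ((adj W.ι).unit.app E)⟩⟩

lemma mem_puncturedOpen_iff (A : Type u) [CommRing A] (fs : List A) (x : Spec (CommRingCat.of A)) :
    x ∈ LocCoh.puncturedOpen A (Ideal.span {a | a ∈ fs}) ↔ ∃ f ∈ fs, x ∈ PrimeSpectrum.basicOpen f := by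
  change x ∈ (PrimeSpectrum.zeroLocus (R := A) (Ideal.span {a | a ∈ fs} : Ideal A) : Set (PrimeSpectrum A))ᶜ ↔ _
  rw [PrimeSpectrum.zeroLocus_span]
  constructor
  · intro h
    by_contra hne
    push Not at hne
    exact h fun a ha => not_not.1 fun hn => hne a ha hn
  · rintro ⟨f, hf, hx⟩ h
    exact hx (h hf)

lemma quasiCompact_puncturedOpen (A : Type u) [CommRing A] (fs : List A) :
    QuasiCompact (LocCoh.puncturedOpen A (Ideal.span {a | a ∈ fs})).ι := by
  classical
  let W := LocCoh.puncturedOpen A (Ideal.span {a | a ∈ fs})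
  have h : (W : Set (Spec (CommRingCat.of A))) =
      ⋃ f ∈ fs.toFinset, (PrimeSpectrum.basicOpen f : Set (PrimeSpectrum A)) := by
    ext x
    simp only [SetLike.mem_coe, mem_puncturedOpen_iff, W, Set.mem_iUnion, List.mem_toFinset, exists_prop]
  have hc : IsCompact (W : Set (Spec (CommRingCat.of A))) := by
    rw [h]
    exact fs.toFinset.isCompact_biUnion fun f _ => PrimeSpectrum.isCompact_basicOpen f
  haveI := compactSpace_opens hc
  infer_instance

end Groth.Agent.DQGen
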