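import Groth.Agent.DQGen.Approx
import Groth.Agent.TriCat.HocolimHomological
import Groth.Agent.KFlatLib.Scheme.RpushCoprodQCoh
import Groth.Agent.KFlatLib.Scheme.KFlat
import Mathlib.CategoryTheory.Limits.Constructions.EventuallyConstant

/-!
# Pseudo-coherent objects are sequential colimits of perfect objects
-/

set_option backward.isDefEq.respectTransparency false

universe u

open CategoryTheory CategoryTheory.Limits AlgebraicGeometry Pretriangulated TopologicalSpace ZeroObject DerLim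

attribute [local instance] HasDerivedCategory.standard

namespace Groth.Agent.DQGen

open Groth.Agent.KFlatLib

variable {X : Scheme.{u}}

local notation "t" => DerivedCategory.TStructure.t

/-- A pseudo-coherent colimit. -/
theorem locPC_of_approx (K : DCoh.D X) (E : ℕ → DCoh.D X) (i : ∀ n, E n ⟶ K)
    (hE : ∀ n, DCoh.IsPerfect (E n))
    (hi : ∀ n : ℕ, IsIso ((DerivedCategory.TStructure.t.truncGE (-(n : ℤ))).map (i n))) (m : ℤ) :
    LocPC m K := by
  intro x
  obtain ⟨U, j, _, hx, P, hP, ⟨e⟩⟩ := (isPerfect_iff _).1 (hE m.natAbs) x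
  refine ⟨U, j, inferInstance, hx, P, e.hom ≫ (rho j).map (i m.natAbs), hP,
    IsPcMap.comp (isPcMap_of_isIso m _)
      ((show IsPcMap m (i m.natAbs) from ⟨fun q hq => ?_, ?_⟩).map_exact (Scheme.Modules.restrictFunctor j))⟩
  · exact (isIso_truncGE_map_iff_homology _ _).1 (hi _) q (by omega)
  · haveI := (isIso_truncGE_map_iff_homology _ _).1 (hi m.natAbs) m (by omega)
    infer_instance

variable [CompactSpace X] [QuasiSeparatedSpace X]

/-- The approximating sequence. -/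
theorem exists_hocolim_of_locPC [HasColimitsOfShape (Discrete ℕ) (DCoh.D X)] (W : X.Opens)
    (hW : IsCompact (W : Set X)) (K : DCoh.D X) (hK : ∀ m, LocPC m K)
    (hs : ∀ i, CohB1.support (DCoh.HD K i) ⊆ (W : Set X)ᶜ) :
    ∃ (E : ℕ → DCoh.D X) (f : ∀ n, E n ⟶ E (n + 1)) (i : ∀ n, E n ⟶ K),
      (∀ n, PP W (E n)) ∧ IsHocolim E f K i ∧
      ∀ n : ℕ, IsIso ((DerivedCategory.TStructure.t.truncGE (-(n : ℤ))).map (i n)) := by
  classical
  obtain ⟨r, hr⟩ := hasApprox X W (fun Q hQ hQo => QuasiSeparatedSpace.inter_isCompact _ _ W.2 hW hQo hQ)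
  have hKq : DCoh.IsQCohD K := fun q =>
    isQCoh_HD_of_pseudoCoherent ((isPseudoCoherentD_iff _ _).2 (hK (q - 1))) q (by omega)
  -- objects under `K`
  let St : ℕ → Type (u + 1) := fun n => { p : Σ D : DCoh.D X, (K ⟶ D) //
    (∃ (C : DCoh.D X) (b : p.1 ⟶ C) (c : C ⟶ K⟦(1 : ℤ)⟧), Triangle.mk p.2 b c ∈ distTriang _ ∧ PP W C) ∧
      ∀ q : ℤ, -(n : ℤ) - 1 ≤ q → IsZero (DCoh.HD p.1 q) }
  have hinit : Nonempty (St 0) := by
    obtain ⟨D, C, g, b, c, hT, hC, hD⟩ := hr (-1) K hKq (hK _) fun q _ => hs q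
    exact ⟨⟨⟨D, g⟩, ⟨C, b, c, hT, hC⟩, fun q hq => hD q (by simpa using hq)⟩⟩
  have hstep : ∀ n (p : St n), ∃ (q : St (n + 1)) (g : p.1.1 ⟶ q.1.1), p.1.2 ≫ g = q.1.2 := by
    rintro n ⟨⟨D, g₀⟩, ⟨C, b, c, hT, hC⟩, hD⟩
    have hDq : DCoh.IsQCohD D := isQCohD_obj₂ (T := Triangle.mk g₀ b c) hT hKq (isQCohD_of_isPerfect hC.1)
    have hDpc : ∀ m, LocPC m D := fun m =>
      (locPC_two_of_three m _ hT).2.1 (hK m) (((isPerfect_iff _).1 hC.1).locPC m)
    have hDs : ∀ q, CohB1.support (DCoh.HD D q) ⊆ (W : Set X)ᶜ := fun q => support_subset_of_isZero_HD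
      ((DerivedCategory.HomologySequence.exact₂ _ ((rho W.ι).map_distinguished _ hT) q).isZero_of_both_zeros
        ((isZero_HD_of_stalks (hs q)).eq_of_src _ _) ((Functor.map_isZero _ hC.2).eq_of_tgt _ _))
    obtain ⟨D', C', g, b', c', hT', hC', hD'⟩ := hr (-(n : ℤ) - 2) D hDq (hDpc _) fun q _ => hDs q
    obtain ⟨C'', b'', c'', hT''⟩ := distinguished_cocone_triangle (g₀ ≫ g)
    exact ⟨⟨⟨D', g₀ ≫ g⟩, ⟨C'', b'', c'', hT'', ObjectProperty.ext_of_isTriangulatedClosed₂ _ _
      (Triangulated.someOctahedron rfl hT hT' hT'').mem hC hC'⟩,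
      fun q hq => hD' q (by push_cast at hq; omega)⟩, g, rfl⟩
  choose next gnext hnext using hstep
  let S : ∀ n, St n := fun n => Nat.rec hinit.some (fun k p => next k p) n
  let g : ∀ n, (S n).1.1 ⟶ (S (n + 1)).1.1 := fun n => gnext n (S n)
  have hg : ∀ n, (S n).1.2 ≫ g n = (S (n + 1)).1.2 := fun n => hnext n (S n)
  have htri : ∀ n, ∃ (E : DCoh.D X) (i : E ⟶ K) (d : (S n).1.1 ⟶ E⟦(1 : ℤ)⟧),
      Triangle.mk i (S n).1.2 d ∈ distTriang _ ∧ PP W E := fun n => by
    obtain ⟨C, b, c, hT, hC⟩ := (S n).2.1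
    exact ⟨_, _, _, inv_rot_of_distTriang _ hT, (PP W).le_shift (-1 : ℤ) _ hC⟩
  choose E i d hT hE using htri
  have hmor : ∀ n, ∃ f : E n ⟶ E (n + 1), f ≫ i (n + 1) = i n := fun n => by
    obtain ⟨f, h₁, -⟩ := complete_distinguished_triangle_morphism₁ _ _ (hT n) (hT (n + 1)) (𝟙 K) (g n)
      ((hg n).trans (Category.id_comp _).symm)
    exact ⟨f, h₁.symm.trans (Category.comp_id _)⟩
  choose f hf using hmor
  have hiso : ∀ (n : ℕ) (q : ℤ), -(n : ℤ) ≤ q →
      IsIso ((DerivedCategory.homologyFunctor X.Modules q).map (i n)) := fun n q hq =>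
    isIso_mor₁_of_isZero (hT n) q ((S n).2.2 _ (by omega)) ((S n).2.2 _ (by omega))
  refine ⟨E, f, i, hE, ?_, fun n => (isIso_truncGE_map_iff_homology _ _).2 (hiso n)⟩
  obtain ⟨L, inc, hL⟩ := TriCat.exists_isHocolim E f
  obtain ⟨h, hh⟩ := TriCat.IsHocolim.exists_desc hL i hf
  haveI : IsIso h := (DerivedCategory.isIso_iff _ _).2 fun q => by
    let H := DerivedCategory.homologyFunctor X.Modules q
    haveI : HasColimitsOfShape (Discrete ℕ) X.Modules := inferInstance
    haveI : PreservesColimitsOfShape (Discrete ℕ) H := ⟨fun {F} =>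
      haveI : PreservesColimit (Discrete.functor (F.obj ∘ Discrete.mk)) H :=
        preservesColimit_homology (F.obj ∘ Discrete.mk) q
      preservesColimit_of_iso_diagram H (Discrete.natIsoFunctor (F := F)).symm⟩
    obtain ⟨e, he⟩ := TriCat.exists_colimit_iso H E f L inc hL
    let N := (-q).toNat
    let F := Functor.ofSequence fun n => H.map (f n)
    have hcomp : ∀ n, H.map (f n) ≫ H.map (i (n + 1)) = H.map (i n) := fun n => by
      rw [← H.map_comp, hf]
    have hev : F.IsEventuallyConstantFrom N := fun j φ => by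
      have hle : ∀ k, N ≤ k → IsIso (F.map (homOfLE (Nat.le_succ k))) := fun k hk => by
        rw [show F.map (homOfLE (Nat.le_succ k)) = H.map (f k) from Functor.ofSequence_map_homOfLE_succ _ k]
        haveI := hiso k q (by omega)
        haveI := hiso (k + 1) q (by omega)
        exact IsIso.of_isIso_fac_right (hcomp k)
      obtain ⟨hNj⟩ : Nonempty (PLift (N ≤ j)) := ⟨⟨leOfHom φ⟩⟩
      rw [Subsingleton.elim φ (homOfLE hNj.down)]
      induction j, hNj.down using Nat.le_induction with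
      | base => exact (congrArg F.map (Subsingleton.elim _ (𝟙 N))).trans (F.map_id N) ▸ inferInstance
      | succ k hk ih =>
        haveI := ih (homOfLE hk) ⟨hk⟩
        haveI := hle k hk
        rw [← homOfLE_comp hk (Nat.le_succ k), F.map_comp]
        infer_instance
    haveI : IsIso (colimit.ι F N) := hev.isIso_ι_of_isColimit (colimit.isColimit F)
    haveI := hiso N q (by omega)
    have hfac : (colimit.ι F N ≫ e.hom) ≫ H.map h = H.map (i N) := by
      rw [he, ← H.map_comp, hh]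
    exact IsIso.of_isIso_fac_left hfac
  obtain ⟨c, hc⟩ := hL
  refine ⟨inv h ≫ c, isomorphic_distinguished _ hc _
    (Triangle.isoMk _ _ (Iso.refl _) (Iso.refl _) (asIso h).symm ?_ ?_ ?_)⟩
  · exact (Category.comp_id _).trans (Category.id_comp _).symm
  · refine Sigma.hom_ext _ _ fun n => ?_
    change Sigma.ι E n ≫ Sigma.desc i ≫ inv h = Sigma.ι E n ≫ 𝟙 _ ≫ Sigma.desc inc
    rw [Category.id_comp, Sigma.ι_desc, Sigma.ι_desc_assoc, IsIso.comp_inv_eq, hh]
  · change (inv h ≫ c) ≫ (𝟙 (∐ E))⟦(1 : ℤ)⟧' = inv h ≫ c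
    rw [CategoryTheory.Functor.map_id, Category.comp_id]

end Groth.Agent.DQGen
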