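import Groth.Agent.DQGen.PCHocolim
import Groth.Agent.QCoh.Qcqs
import Groth.Prelude.Def_KLin

/-!
# Powers of a function kill maps into objects supported on its zero locus
-/

set_option backward.isDefEq.respectTransparency false

universe w v u

open CategoryTheory CategoryTheory.Limits AlgebraicGeometry Pretriangulated TopologicalSpace ZeroObject DerLim Opposite

attribute [local instance] HasDerivedCategory.standard

namespace Groth.Agent.DQGen

open Groth.Agent.KFlatLib

/-- Homology is linear. -/
lemma homology_map_smul_id {C : Type u} [Category.{v} C] [Abelian C] {R : Type w} [CommRing R] [Linear R C]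
    (n : ℤ) (f : R) (M : DerivedCategory C) :
    (DerivedCategory.homologyFunctor C n).map (f • 𝟙 M) =
      f • 𝟙 ((DerivedCategory.homologyFunctor C n).obj M) := by
  let H := DerivedCategory.homologyFunctor C n
  let K := DerivedCategory.Q.objPreimage M
  let e : DerivedCategory.Q.obj K ≅ M := DerivedCategory.Q.objObjPreimageIso M
  have hM : f • 𝟙 M = e.inv ≫ DerivedCategory.Q.map (f • 𝟙 K) ≫ e.hom := by
    rw [Functor.map_smul, CategoryTheory.Functor.map_id, Linear.smul_comp, Linear.comp_smul,
      Category.id_comp, Iso.inv_hom_id]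
  have hC : H.map (DerivedCategory.Q.map (f • 𝟙 K)) = f • 𝟙 _ := by
    let α := DerivedCategory.homologyFunctorFactors C n
    rw [← cancel_mono (α.hom.app K)]
    refine (α.hom.naturality (f • 𝟙 K)).trans ?_
    have : HomologicalComplex.homologyMap (f • 𝟙 K) n = f • 𝟙 _ := by
      have hs : (HomologicalComplex.shortComplexFunctor C (ComplexShape.up ℤ) n).map (f • 𝟙 K) =
          f • 𝟙 (K.sc n) := by
        ext <;> rfl
      change ShortComplex.homologyMap _ = _
      rw [hs, ShortComplex.homologyMap_smul, ShortComplex.homologyMap_id]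
      rfl
    change α.hom.app K ≫ HomologicalComplex.homologyMap (f • 𝟙 K) n = _
    rw [this]
    exact (Linear.comp_smul _ _ _ _ _ _).trans (((congrArg (f • ·) ((Category.comp_id _).trans
      (Category.id_comp _).symm))).trans (Linear.smul_comp _ _ _ _ _ _).symm)
  rw [hM, Functor.map_comp, Functor.map_comp, hC, Linear.smul_comp, Linear.comp_smul,
    Category.id_comp, ← H.map_comp, Iso.inv_hom_id, CategoryTheory.Functor.map_id]

variable {A : Type u} [CommRing A] {X : Scheme.{u}} [X.Over (Spec (CommRingCat.of A))]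

/-- Sections of a quasi-coherent module supported on the zero locus are killed by powers. -/
lemma exists_pow_smul_app_eq_zero {M : X.Modules} (hM : Coh.IsQCoh M) (a : A)
    (hs : CohB1.support M ⊆ (X.zeroLocus (U := ⊤) {Coh.toGlobal (X ↘ Spec (CommRingCat.of A)) a} : Set X))
    {V : X.Opens} (hV : IsAffineOpen V) (m : Γ(M, V)) :
    ∃ k : ℕ, ((a ^ k) • 𝟙 M).app V m = 0 := by
  let g := Coh.toGlobal (X ↘ Spec (CommRingCat.of A)) a
  let f : Γ(X, V) := X.presheaf.map (homOfLE (le_top : V ≤ ⊤)).op g
  have h0 : M.presheaf.map (homOfLE (X.basicOpen_le f)).op m = 0 := by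
    refine TopCat.Presheaf.section_ext (show TopCat.Sheaf AddCommGrpCat.{u} X.toPresheafedSpace.carrier
      from ⟨M.presheaf, M.isSheaf⟩) (X.basicOpen f) _ _ fun x hx => ?_
    have hxg : x ∈ X.basicOpen g := by
      have := (Scheme.basicOpen_res X g (homOfLE (le_top : V ≤ ⊤)).op).le hx
      exact this.2
    haveI : Subsingleton (M.presheaf.stalk x) := not_not.1 fun hne =>
      (X.mem_zeroLocus_iff _ x).1 (hs hne) g rfl hxg
    exact Subsingleton.elim (α := M.presheaf.stalk x) _ _
  obtain ⟨k, hk⟩ := Groth.Agent.QCoh.exists_pow_smul_eq_zero hM hV f m h0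
  refine ⟨k, ?_⟩
  rw [KLin.smul_app_apply, map_pow, map_pow]
  exact hk

variable [CompactSpace X] [QuasiSeparatedSpace X]

theorem exists_pow_smul_eq_zero_hom (a : A) {E E' : DCoh.D X} (hE : DCoh.IsPerfect E) (hE' : DCoh.IsQCohD E')
    (hs : ∀ i : ℤ, CohB1.support (DCoh.HD E' i) ⊆
      (X.zeroLocus (U := ⊤) {Coh.toGlobal (X ↘ Spec (CommRingCat.of A)) a} : Set X))
    (α : E ⟶ E') : ∃ n : ℕ, (a ^ n) • α = 0 := by
  classical
  haveI : HasColimitsOfShape (Discrete ℕ) (DCoh.D X) := hasNatSums_D
  let f : ℕ → (E' ⟶ E') := fun _ => a • 𝟙 E'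
  let G : ℕ ⥤ DCoh.D X := Functor.ofSequence f
  have hG : ∀ k, G.map (homOfLE (Nat.zero_le k)) = (a ^ k) • 𝟙 E' := fun k => by
    induction k with
    | zero => exact (congrArg G.map (Subsingleton.elim _ (𝟙 0))).trans ((G.map_id 0).trans (by simp; rfl))
    | succ k ih =>
      rw [← homOfLE_comp (Nat.zero_le k) (Nat.le_succ k), G.map_comp, ih,
        show G.map (homOfLE (Nat.le_succ k)) = f k from Functor.ofSequence_map_homOfLE_succ f k]
      change (a ^ k • 𝟙 E') ≫ (a • 𝟙 E') = a ^ (k + 1) • 𝟙 E'
      rw [Linear.smul_comp, Category.id_comp, smul_smul, pow_succ]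
  obtain ⟨L, inc, hL⟩ := TriCat.exists_isHocolim G.obj (fun n => G.map (homOfLE (Nat.le_succ n)))
  have hcomp : ∀ n, (a • 𝟙 E') ≫ inc (n + 1) = inc n := fun n => by
    have := TriCat.IsHocolim.comp_i hL n
    rwa [show G.map (homOfLE (Nat.le_succ n)) = f n from Functor.ofSequence_map_homOfLE_succ f n] at this
  have hpow : ∀ k n, (a ^ k • 𝟙 E') ≫ inc (n + k) = inc n := fun k => by
    induction k with
    | zero => intro n; rw [pow_zero, one_smul]; exact Category.id_comp _
    | succ k ih =>
      intro n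
      have := ih (n + 1)
      rw [show n + (k + 1) = n + 1 + k by omega, pow_succ', mul_smul]
      rw [Linear.smul_comp, this, ← hcomp n, Linear.smul_comp, Category.id_comp]
  have hL0 : IsZero L := by
    haveI : IsIso (0 : L ⟶ (0 : DCoh.D X)) := (DerivedCategory.isIso_iff _ _).2 fun q => by
      let H := DerivedCategory.homologyFunctor X.Modules q
      haveI : PreservesColimitsOfShape (Discrete ℕ) H := ⟨fun {F} =>
        haveI : PreservesColimit (Discrete.functor (F.obj ∘ Discrete.mk)) H :=
          preservesColimit_homology (F.obj ∘ Discrete.mk) q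
        preservesColimit_of_iso_diagram H (Discrete.natIsoFunctor (F := F)).symm⟩
      obtain ⟨e, he⟩ := TriCat.exists_colimit_iso H G.obj _ L inc hL
      have hι : ∀ n, H.map (inc n) = 0 := fun n => by
        refine Scheme.Modules.hom_ext _ _ fun U => ?_
        ext m
        refine Groth.Agent.QCoh.eq_zero_of_locally U _ fun x hx => ?_
        obtain ⟨_, ⟨V, hV, rfl⟩, hxV, hVU⟩ :=
          X.isBasis_affineOpens.exists_subset_of_mem_open (show x ∈ U from hx) U.2
        refine ⟨V, homOfLE hVU, hxV, ?_⟩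
        let m' := ((DCoh.HD E' q)).presheaf.map (homOfLE hVU).op m
        obtain ⟨k, hk⟩ := exists_pow_smul_app_eq_zero (hE' q) a (hs q) hV m'
        have hf : H.map (inc n) = ((a ^ k) • 𝟙 (DCoh.HD E' q)) ≫ H.map (inc (n + k)) := by
          rw [← hpow k n, H.map_comp]
          exact congrArg (· ≫ H.map (inc (n + k))) (homology_map_smul_id q (a ^ k) E')
        have hnat := congrArg (fun φ => φ.hom m) ((H.map (inc n)).mapPresheaf.naturality (homOfLE hVU).op)
        refine hnat.symm.trans ?_
        change (H.map (inc n)).app V m' = 0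
        rw [hf]
        change (H.map (inc (n + k))).app V ((((a ^ k) • 𝟙 (DCoh.HD E' q)).app V) m') = 0
        rw [hk, map_zero]
      have hz : e.hom = 0 := colimit.hom_ext fun n => by rw [he, hι, comp_zero]
      have hzL : IsZero (H.obj L) := by
        rw [IsZero.iff_id_eq_zero, ← e.inv_hom_id, hz, comp_zero]
      exact ⟨0, hzL.eq_of_src _ _, (Functor.map_isZero H (isZero_zero _)).eq_of_src _ _⟩
    exact (isZero_zero _).of_iso (asIso (0 : L ⟶ (0 : DCoh.D X)))
  have hc : CompactFor.{u} (𝟭 (DCoh.D X)) (PQ (⊥ : X.Opens)) E := compactIn_of_isPerfect _ hE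
  obtain ⟨k, hk⟩ := killed_of_isHocolim hc G hL (fun n => (pq_bot_iff _).2 hE') α
    (((hL0).eq_of_tgt _ _))
  refine ⟨k, ?_⟩
  change α ≫ G.map (homOfLE (Nat.zero_le k)) = 0 at hk
  rw [hG, Linear.comp_smul] at hk
  exact ((congrArg (a ^ k • ·) (Category.comp_id α)).symm.trans hk)

end Groth.Agent.DQGen
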