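import Groth.Agent.KFlatLib.Scheme.CohD
import Groth.Agent.KFlatLib.Scheme.RpushQCoh
import Groth.Agent.QCoh.RpushClosed

/-!
# Coherence of `Rf_*` of coherent complexes with proper support
-/

set_option linter.style.haveILetI false
set_option backward.isDefEq.respectTransparency false

universe u

open CategoryTheory CategoryTheory.Limits AlgebraicGeometry Pretriangulated

attribute [local instance] HasDerivedCategory.standard

namespace Groth.Agent.DQGen

open Groth.Agent.KFlatLib

variable {X Y : Scheme.{u}} (f : X ⟶ Y)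

/-- All higher direct images are coherent, and almost all vanish. -/
def GoodPush [HasInjectiveResolutions X.Modules] (M : X.Modules) : Prop :=
  (∀ p : ℕ, Coh.IsCoh ((Coh.Rpush f p).obj M)) ∧
    ∃ N : ℕ, ∀ p : ℕ, N ≤ p → IsZero ((Coh.Rpush f p).obj M)

variable [IsLocallyNoetherian Y] [HasInjectiveResolutions X.Modules]

lemma GoodPush.of_isZero {M : X.Modules} (h : IsZero M) : GoodPush f M := by
  have hz : ∀ p, IsZero ((Coh.Rpush f p).obj M) := fun p => by
    haveI : (Coh.Rpush f p).Additive := by delta Coh.Rpush; infer_instance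
    exact Functor.map_isZero _ h
  exact ⟨fun p => KFlatLib.isCoh_of_isZero (hz p), 0, fun p _ => hz p⟩

lemma GoodPush.of_iso {M N : X.Modules} (e : M ≅ N) (h : GoodPush f M) : GoodPush f N :=
  ⟨fun p => KFlatLib.isCoh_of_iso ((Coh.Rpush f p).mapIso e) (h.1 p),
    h.2.choose, fun p hp => (h.2.choose_spec p hp).of_iso ((Coh.Rpush f p).mapIso e).symm⟩

variable [DCoh.HasRpush f]

lemma isCohD_rpush_bounded : ∀ (m : ℕ) (a : ℤ) (K : DCoh.D X), K.IsGE a → K.IsLE (a + m) →
    (∀ i, GoodPush f (DCoh.HD K i)) → DCoh.IsCohD ((DCoh.Rpush f).obj K) ∧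
      ∃ b : ℤ, ∀ i, b ≤ i → IsZero (DCoh.HD ((DCoh.Rpush f).obj K) i) := by
  intro m
  induction m with
  | zero =>
    intro a K hge hle hq
    haveI := hge
    haveI : K.IsLE a := by simpa using hle
    obtain ⟨M, ⟨e⟩⟩ := DerivedCategory.exists_iso_singleFunctor_obj_of_isGE_of_isLE K a
    let es : K ≅ (DCoh.inD X M)⟦(-a : ℤ)⟧ :=
      e ≪≫ (((DerivedCategory.singleFunctors X.Modules).shiftIso (-a) a 0 (by omega)).app M).symm
    obtain ⟨eS⟩ := nonempty_rpush_shift f (DCoh.inD X M) (-a)
    let eR := (DCoh.Rpush f).mapIso es ≪≫ eS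
    have hM : GoodPush f M := (hq a).of_iso f
      ((DerivedCategory.homologyFunctor X.Modules a).mapIso e ≪≫
        (DerivedCategory.singleFunctorCompHomologyFunctorIso X.Modules a).app M)
    obtain ⟨hM, N, hN⟩ := hM
    refine ⟨isCohD_of_iso eR.symm (isCohD_shift (fun i => ?_) _), a + N, fun i hi => ?_⟩
    rotate_left
    · obtain ⟨n, hn⟩ := Int.eq_ofNat_of_zero_le (show 0 ≤ i - a by omega)
      refine (hN n (by omega)).of_iso ((DerivedCategory.homologyFunctor Y.Modules i).mapIso eR ≪≫
        ((DerivedCategory.homologyFunctor Y.Modules 0).shiftIso (-a) i (i - a) (by omega)).app _ ≪≫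
        (show DCoh.HD ((DCoh.Rpush f).obj (DCoh.inD X M)) (i - a) ≅ _ from
          eqToIso (congrArg (DCoh.HD _) hn) ≪≫ (nonempty_hd_rpush_single f M n).some))
    rcases lt_or_ge i 0 with h | h
    · exact KFlatLib.isCoh_of_isZero (isZero_hd_rpush_of_lt f _ 0 _ h)
    · obtain ⟨n, hn⟩ := Int.eq_ofNat_of_zero_le h
      rw [hn]
      exact KFlatLib.isCoh_of_iso (nonempty_hd_rpush_single f M n).some.symm (hM n)
  | succ m ih =>
    intro a K hge hle hq
    haveI := hge
    haveI := hle
    let t : Triangulated.TStructure (DCoh.D X) := DerivedCategory.TStructure.t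
    let T := (t.triangleLTGE (a + 1)).obj K
    have hT : T ∈ distTriang _ := t.triangleLTGE_distinguished _ K
    haveI h₁le : T.obj₁.IsLE a := t.isLE_truncLT_obj K _ _ (by omega)
    haveI h₃ge : T.obj₃.IsGE (a + 1) := t.isGE_truncGE_obj K _ _ le_rfl
    haveI h₁ge : T.obj₁.IsGE a := by
      rw [DerivedCategory.isGE_iff]
      intro i hi
      exact (DerivedCategory.HomologySequence.exact₁ T hT (i - 1) i (by omega)).isZero_X₂
        ((DerivedCategory.isZero_of_isGE T.obj₃ (a + 1) (i - 1) (by omega)).eq_of_src _ _)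
        ((DerivedCategory.isZero_of_isGE K a i hi).eq_of_tgt _ _)
    haveI h₃le : T.obj₃.IsLE (a + 1 + m) := by
      rw [DerivedCategory.isLE_iff]
      intro i hi
      exact (DerivedCategory.HomologySequence.exact₃ T hT i (i + 1) rfl).isZero_X₂
        ((DerivedCategory.isZero_of_isLE K (a + (m + 1 : ℕ)) i (by omega)).eq_of_src _ _)
        ((DerivedCategory.isZero_of_isLE T.obj₁ a (i + 1) (by omega)).eq_of_tgt _ _)
    have hq₃ : ∀ i, GoodPush f (DCoh.HD T.obj₃ i) := fun i => by
      by_cases hi : a + 1 ≤ i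
      · haveI : Mono ((DerivedCategory.homologyFunctor X.Modules i).map T.mor₂) :=
          (DerivedCategory.HomologySequence.exact₂ T hT i).mono_g
            ((DerivedCategory.isZero_of_isLE T.obj₁ a i (by omega)).eq_of_src _ _)
        haveI : Epi ((DerivedCategory.homologyFunctor X.Modules i).map T.mor₂) :=
          (DerivedCategory.HomologySequence.exact₃ T hT i (i + 1) rfl).epi_f
            ((DerivedCategory.isZero_of_isLE T.obj₁ a (i + 1) (by omega)).eq_of_tgt _ _)
        haveI := isIso_of_mono_of_epi ((DerivedCategory.homologyFunctor X.Modules i).map T.mor₂)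
        exact (hq i).of_iso f (asIso ((DerivedCategory.homologyFunctor X.Modules i).map T.mor₂))
      · exact GoodPush.of_isZero f (DerivedCategory.isZero_of_isGE T.obj₃ (a + 1) i (by omega))
    have hq₁ : ∀ i, GoodPush f (DCoh.HD T.obj₁ i) := fun i => by
      by_cases hi : i ≤ a
      · haveI : Epi ((DerivedCategory.homologyFunctor X.Modules i).map T.mor₁) :=
          (DerivedCategory.HomologySequence.exact₂ T hT i).epi_f
            ((DerivedCategory.isZero_of_isGE T.obj₃ (a + 1) i (by omega)).eq_of_tgt _ _)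
        haveI : Mono ((DerivedCategory.homologyFunctor X.Modules i).map T.mor₁) :=
          (DerivedCategory.HomologySequence.exact₁ T hT (i - 1) i (by omega)).mono_g
            ((DerivedCategory.isZero_of_isGE T.obj₃ (a + 1) (i - 1) (by omega)).eq_of_src _ _)
        haveI := isIso_of_mono_of_epi ((DerivedCategory.homologyFunctor X.Modules i).map T.mor₁)
        exact (hq i).of_iso f (asIso ((DerivedCategory.homologyFunctor X.Modules i).map T.mor₁)).symm
      · exact GoodPush.of_isZero f (DerivedCategory.isZero_of_isLE T.obj₁ a i (by omega))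
    obtain ⟨c, hc⟩ := exists_rpush_triangle f T hT
    obtain ⟨r₁, b₁, v₁⟩ := ih a T.obj₁ h₁ge (DerivedCategory.TStructure.t.isLE_of_le _ a _ (by omega)) hq₁
    obtain ⟨r₃, b₃, v₃⟩ := ih (a + 1) T.obj₃ h₃ge h₃le hq₃
    exact ⟨isCohD_obj₂ hc r₁ r₃, max b₁ b₃, fun i hi =>
      (DerivedCategory.HomologySequence.exact₂ _ hc i).isZero_X₂
        ((v₁ i (by omega)).eq_of_src _ _) ((v₃ i (by omega)).eq_of_tgt _ _)⟩

/-- `Rf_*` of a bounded below object with coherent higher direct images is coherent. -/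
theorem isCohD_rpush_of_isGE (K : DCoh.D X) (a : ℤ) [K.IsGE a] (hq : ∀ i, GoodPush f (DCoh.HD K i)) :
    DCoh.IsCohD ((DCoh.Rpush f).obj K) := fun i => by
  rcases lt_or_ge i a with h | h
  · exact KFlatLib.isCoh_of_isZero (isZero_hd_rpush_of_lt f K a i h)
  let t : Triangulated.TStructure (DCoh.D X) := DerivedCategory.TStructure.t
  let T := (t.triangleLTGE (i + 2)).obj K
  have hT : T ∈ distTriang _ := t.triangleLTGE_distinguished _ K
  haveI h₁le : T.obj₁.IsLE (i + 1) := t.isLE_truncLT_obj K _ _ (by omega)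
  haveI h₃ge : T.obj₃.IsGE (i + 2) := t.isGE_truncGE_obj K _ _ le_rfl
  haveI h₁ge : T.obj₁.IsGE a := by
    rw [DerivedCategory.isGE_iff]
    intro j hj
    exact (DerivedCategory.HomologySequence.exact₁ T hT (j - 1) j (by omega)).isZero_X₂
      ((DerivedCategory.isZero_of_isGE T.obj₃ (i + 2) (j - 1) (by omega)).eq_of_src _ _)
      ((DerivedCategory.isZero_of_isGE K a j hj).eq_of_tgt _ _)
  have hq₁ : ∀ j, GoodPush f (DCoh.HD T.obj₁ j) := fun j => by
    by_cases hj : j ≤ i + 1
    · haveI : Epi ((DerivedCategory.homologyFunctor X.Modules j).map T.mor₁) :=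
        (DerivedCategory.HomologySequence.exact₂ T hT j).epi_f
          ((DerivedCategory.isZero_of_isGE T.obj₃ (i + 2) j (by omega)).eq_of_tgt _ _)
      haveI : Mono ((DerivedCategory.homologyFunctor X.Modules j).map T.mor₁) :=
        (DerivedCategory.HomologySequence.exact₁ T hT (j - 1) j (by omega)).mono_g
          ((DerivedCategory.isZero_of_isGE T.obj₃ (i + 2) (j - 1) (by omega)).eq_of_src _ _)
      haveI := isIso_of_mono_of_epi ((DerivedCategory.homologyFunctor X.Modules j).map T.mor₁)
      exact (hq j).of_iso f (asIso ((DerivedCategory.homologyFunctor X.Modules j).map T.mor₁)).symm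
    · exact GoodPush.of_isZero f (DerivedCategory.isZero_of_isLE T.obj₁ (i + 1) j (by omega))
  obtain ⟨r₁, -⟩ := isCohD_rpush_bounded f (i + 1 - a).toNat a T.obj₁ h₁ge
    (DerivedCategory.TStructure.t.isLE_of_le _ (i + 1) _ (by omega)) hq₁
  obtain ⟨c, hc⟩ := exists_rpush_triangle f T hT
  let Tc := Triangle.mk ((DCoh.Rpush f).map T.mor₁) ((DCoh.Rpush f).map T.mor₂) c
  haveI : Mono ((DerivedCategory.homologyFunctor Y.Modules i).map Tc.mor₁) :=
    (DerivedCategory.HomologySequence.exact₁ Tc hc (i - 1) i (by omega)).mono_g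
      ((isZero_hd_rpush_of_lt f T.obj₃ (i + 2) (i - 1) (by omega)).eq_of_src _ _)
  haveI : Epi ((DerivedCategory.homologyFunctor Y.Modules i).map Tc.mor₁) :=
    (DerivedCategory.HomologySequence.exact₂ Tc hc i).epi_f
      ((isZero_hd_rpush_of_lt f T.obj₃ (i + 2) i (by omega)).eq_of_tgt _ _)
  haveI := isIso_of_mono_of_epi ((DerivedCategory.homologyFunctor Y.Modules i).map Tc.mor₁)
  exact KFlatLib.isCoh_of_iso (asIso ((DerivedCategory.homologyFunctor Y.Modules i).map Tc.mor₁)) (r₁ i)

/-- `Rf_*` of bounded objects with bounded higher direct images is bounded above. -/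
theorem exists_isLE_rpush (K : DCoh.D X) (a b : ℤ) [K.IsGE a] [K.IsLE b]
    (hq : ∀ i, GoodPush f (DCoh.HD K i)) : ∃ b' : ℤ, ((DCoh.Rpush f).obj K).IsLE b' := by
  obtain ⟨-, c, hc⟩ := isCohD_rpush_bounded f (b - a).toNat a K ‹_›
    (DerivedCategory.TStructure.t.isLE_of_le _ b _ (by omega)) hq
  exact ⟨c, (DerivedCategory.isLE_iff _ _).2 fun i hi => hc i hi.le⟩

end Groth.Agent.DQGen
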