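import Groth.Agent.DQGen.Generator
import Groth.Agent.DQGen.LiftSupport

/-!
# Extending a perfect complex plus a far shift
-/

set_option linter.style.haveILetI false
set_option backward.isDefEq.respectTransparency false

universe u v w

open CategoryTheory CategoryTheory.Limits AlgebraicGeometry Pretriangulated ZeroObject

attribute [local instance] HasDerivedCategory.standard

namespace Groth.Agent.DQGen

section Cone

variable {D : Type w} [Category.{v} D] [Preadditive D] [HasZeroObject D] [HasShift D ℤ]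
  [∀ n : ℤ, (shiftFunctor D n).Additive] [Pretriangulated D] [HasBinaryBiproducts D]

/-- The cone of a map killing one summand. -/
theorem nonempty_cone_fst_inr {A B C Z : D} (g : C ⊞ A ⟶ Z) (h : Z ⟶ (A ⊞ B)⟦(1 : ℤ)⟧)
    (hT : Triangle.mk ((biprod.fst : A ⊞ B ⟶ A) ≫ (biprod.inr : A ⟶ C ⊞ A)) g h ∈ distTriang D) :
    Nonempty (Z ≅ C ⊞ B⟦(1 : ℤ)⟧) := by
  let f : A ⊞ B ⟶ C ⊞ A := biprod.fst ≫ biprod.inr
  have h0 : f ≫ g = 0 := comp_distTriang_mor_zero₁₂ _ hT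
  have h1 : g ≫ h = 0 := comp_distTriang_mor_zero₂₃ _ hT
  have h2 : h ≫ f⟦(1 : ℤ)⟧' = 0 := comp_distTriang_mor_zero₃₁ _ hT
  obtain ⟨s, hs⟩ := Triangle.yoneda_exact₂ _ hT (biprod.fst : C ⊞ A ⟶ C) (by simp)
  change Z ⟶ C at s
  change biprod.fst = g ≫ s at hs
  obtain ⟨t₀, ht₀⟩ := Triangle.coyoneda_exact₃ _ (rot_of_distTriang _ hT)
    ((biprod.inr : B ⟶ A ⊞ B)⟦(1 : ℤ)⟧') (by
    change (biprod.inr : B ⟶ A ⊞ B)⟦(1 : ℤ)⟧' ≫ (-f⟦(1 : ℤ)⟧') = 0
    rw [Preadditive.comp_neg, ← Functor.map_comp]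
    simp [f])
  change B⟦(1 : ℤ)⟧ ⟶ Z at t₀
  change _ = t₀ ≫ h at ht₀
  let a : C ⟶ Z := biprod.inl ≫ g
  let b : Z ⟶ B⟦(1 : ℤ)⟧ := h ≫ (biprod.snd : A ⊞ B ⟶ B)⟦(1 : ℤ)⟧'
  let t := t₀ - t₀ ≫ s ≫ a
  have has : a ≫ s = 𝟙 C := by simp only [a, Category.assoc, ← hs, biprod.inl_fst]
  have hah : a ≫ h = 0 := by simp only [a, Category.assoc, h1, comp_zero]
  have hab : a ≫ b = 0 := by simp only [b, ← Category.assoc, hah, zero_comp]
  have hth : t ≫ h = (biprod.inr : B ⟶ A ⊞ B)⟦(1 : ℤ)⟧' := by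
    simp only [t, Preadditive.sub_comp, Category.assoc, hah, comp_zero, sub_zero, ht₀]
  have htb : t ≫ b = 𝟙 _ := by
    simp only [b]
    rw [← Category.assoc, hth, ← Functor.map_comp, biprod.inr_snd, CategoryTheory.Functor.map_id]
  have hts : t ≫ s = 0 := by
    simp only [t, Preadditive.sub_comp, Category.assoc, has, Category.comp_id, sub_self]
  let d := 𝟙 Z - s ≫ a - b ≫ t
  have hfst : h ≫ (biprod.fst : A ⊞ B ⟶ A)⟦(1 : ℤ)⟧' = 0 := by
    have hi : (biprod.inr : A ⟶ C ⊞ A)⟦(1 : ℤ)⟧' ≫ (biprod.snd : C ⊞ A ⟶ A)⟦(1 : ℤ)⟧' = 𝟙 _ := by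
      rw [← Functor.map_comp, biprod.inr_snd, CategoryTheory.Functor.map_id]
    have := congrArg (· ≫ (biprod.snd : C ⊞ A ⟶ A)⟦(1 : ℤ)⟧') h2
    simp only [f, Functor.map_comp, Category.assoc, hi, Category.comp_id, zero_comp] at this
    exact this
  have hdh : d ≫ h = 0 := by
    simp only [d, Preadditive.sub_comp, Category.id_comp, Category.assoc, hah, hth, comp_zero, sub_zero]
    have e : h = h ≫ ((biprod.fst ≫ biprod.inl + biprod.snd ≫ biprod.inr : A ⊞ B ⟶ A ⊞ B)⟦(1 : ℤ)⟧') := by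
      rw [biprod.total, CategoryTheory.Functor.map_id, Category.comp_id]
    rw [Functor.map_add, Preadditive.comp_add, Functor.map_comp, ← Category.assoc, hfst, zero_comp,
      zero_add, Functor.map_comp, ← Category.assoc] at e
    simp only [b, Category.assoc] at e ⊢
    rw [← e, sub_self]
  obtain ⟨k, hk⟩ := Triangle.coyoneda_exact₃ _ hT d hdh
  change Z ⟶ C ⊞ A at k
  change d = k ≫ g at hk
  have hg : g = biprod.fst ≫ a := by
    have hinr : (biprod.inr : A ⟶ C ⊞ A) ≫ g = 0 := by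
      have := congrArg ((biprod.inl : A ⟶ A ⊞ B) ≫ ·) h0
      simpa [f] using this
    apply biprod.hom_ext' <;> simp [a, hinr]
  have hds : d ≫ s = 0 := by
    simp only [d, Preadditive.sub_comp, Category.id_comp, Category.assoc, has, hts, Category.comp_id,
      comp_zero, sub_self]
  have hd : d = 0 := by
    rw [hk, Category.assoc, ← hs] at hds
    rw [hk, hg, ← Category.assoc, hds, zero_comp]
  refine ⟨{ hom := biprod.lift s b, inv := biprod.desc a t, hom_inv_id := ?_, inv_hom_id := ?_ }⟩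
  · rw [biprod.lift_desc]
    simp only [d] at hd
    rw [sub_sub, sub_eq_zero] at hd
    exact hd.symm
  · apply biprod.hom_ext' <;> apply biprod.hom_ext <;> simp [has, hab, hts, htb]

end Cone

open Groth.Agent.KFlatLib

variable {X U : Scheme.{u}} (j : U ⟶ X) [IsOpenImmersion j] [CompactSpace X] [QuasiSeparatedSpace X]
  [CompactSpace U]

/-- A perfect object of a quasi-compact open, plus its `2k+1`-st shift, extends. -/
theorem exists_extension_shift {E : DCoh.D U} (hE : DCoh.IsPerfect E) (k : ℕ) :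
    ∃ P : DCoh.D X, DCoh.IsPerfect P ∧ Nonempty ((rho j).obj P ≅ E ⊞ E⟦(2 * k + 1 : ℤ)⟧) := by
  obtain ⟨C₁, hC₁, ⟨e₁⟩⟩ := exists_extension_double j (hasDetector X) ⊥ (by simp) hE
    ((isZero_rho_iff_support _ E).2 fun i x _ h => h)
  · induction k with
    | zero => exact ⟨C₁, hC₁.1, ⟨e₁⟩⟩
    | succ k ih =>
      obtain ⟨P, hP, ⟨eP⟩⟩ := ih
      let N : ℤ := 2 * k + 1
      haveI : PreservesBinaryBiproducts (shiftFunctor (DCoh.D U) N) :=
        preservesBinaryBiproducts_of_preservesBiproducts _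
      let eS : (rho j).obj (C₁⟦N⟧) ≅ E⟦N⟧ ⊞ E⟦(1 : ℤ)⟧⟦N⟧ :=
        ((rho j).commShiftIso N).app C₁ ≪≫ (shiftFunctor _ N).mapIso e₁ ≪≫
          (shiftFunctor (DCoh.D U) N).mapBiprod _ _
      let f : (rho j).obj (C₁⟦N⟧) ⟶ (rho j).obj P :=
        eS.hom ≫ (biprod.fst ≫ biprod.inr) ≫ eP.inv
      obtain ⟨E₁, β, γ, hE₁, hβ, hγ⟩ := exists_lift_map j (hasDetector X) ⊥ (by simp)
        (E := C₁⟦N⟧) (E' := P) ((PP ⊥).le_shift N _ hC₁)
        ((pq_bot_iff P).2 (isQCohD_of_isPerfect hP)) f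
      haveI := hβ
      obtain ⟨Z, g, d, hT⟩ := distinguished_cocone_triangle γ
      refine ⟨Z, (isPerfect_iff _).2 ((locSP_two_of_three _ hT).1 ((isPerfect_iff _).1 hE₁.1)
        ((isPerfect_iff _).1 hP)), ?_⟩
      let eA : (rho j).obj E₁ ≅ E⟦N⟧ ⊞ E⟦(1 : ℤ)⟧⟦N⟧ := asIso ((rho j).map β) ≪≫ eS
      have hT' := (rho j).map_distinguished _ hT
      let T₂ : Triangle (DCoh.D U) := Triangle.mk
        ((biprod.fst : E⟦N⟧ ⊞ E⟦(1 : ℤ)⟧⟦N⟧ ⟶ _) ≫ (biprod.inr : _ ⟶ E ⊞ E⟦N⟧))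
        (eP.inv ≫ (rho j).map g)
        (((rho j).map d ≫ ((rho j).commShiftIso (1 : ℤ)).hom.app E₁) ≫ eA.hom⟦(1 : ℤ)⟧')
      have hT₂ : T₂ ∈ distTriang _ := by
        refine isomorphic_distinguished _ hT' _ (Triangle.isoMk _ _ eA.symm eP.symm (Iso.refl _) ?_ ?_ ?_)
        · change ((biprod.fst : E⟦N⟧ ⊞ E⟦(1 : ℤ)⟧⟦N⟧ ⟶ _) ≫ (biprod.inr : _ ⟶ E ⊞ E⟦N⟧)) ≫ eP.inv =
            eA.inv ≫ (rho j).map γ
          rw [← hγ]
          simp [eA, f]
        · change (eP.inv ≫ (rho j).map g) ≫ 𝟙 _ = eP.inv ≫ (rho j).map g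
          exact Category.comp_id _
        · change (((rho j).map d ≫ ((rho j).commShiftIso (1 : ℤ)).hom.app E₁) ≫ eA.hom⟦(1 : ℤ)⟧') ≫
            eA.inv⟦(1 : ℤ)⟧' = 𝟙 _ ≫ ((rho j).map d ≫ ((rho j).commShiftIso (1 : ℤ)).hom.app E₁)
          rw [Category.assoc, ← Functor.map_comp, Iso.hom_inv_id, CategoryTheory.Functor.map_id]
          exact (Category.comp_id _).trans (Category.id_comp _).symm
      obtain ⟨eZ⟩ := nonempty_cone_fst_inr _ _ hT₂
      exact ⟨eZ ≪≫ biprod.mapIso (Iso.refl E)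
        (((shiftFunctorAdd' (DCoh.D U) N 1 (N + 1) rfl).symm.app _) ≪≫
          (shiftFunctorAdd' (DCoh.D U) 1 (N + 1) (2 * ((k + 1 : ℕ) : ℤ) + 1)
            (by simp only [N]; push_cast; ring)).symm.app E)⟩

end Groth.Agent.DQGen
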