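import Groth.Agent.DQGen.Koszul
import Groth.Agent.KFlatLib.Scheme.GlueD

/-!
# Extending from opens, idempotent cones
-/

set_option backward.isDefEq.respectTransparency false

universe v u u'

open CategoryTheory CategoryTheory.Limits AlgebraicGeometry Pretriangulated TopologicalSpace ZeroObject

attribute [local instance] HasDerivedCategory.standard

namespace Groth.Agent.DQGen

open Groth.Agent.KFlatLib

section Cone

variable {D : Type u'} [Category.{v} D] [Preadditive D] [HasZeroObject D] [HasShift D ℤ]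
  [∀ n : ℤ, (shiftFunctor D n).Additive] [Pretriangulated D]

/-- The cone of `1 - e` is the image of `e` plus its shift. -/
theorem nonempty_cone_iso {p Q Z : D} (ψ : p ⟶ Q) (r : Q ⟶ p) (hψr : ψ ≫ r = 𝟙 p) (g : Q ⟶ Z)
    (h : Z ⟶ Q⟦(1 : ℤ)⟧) (hT : Triangle.mk (𝟙 Q - r ≫ ψ) g h ∈ distTriang D) :
    Nonempty (Z ≅ p ⊞ p⟦(1 : ℤ)⟧) := by
  have h0 : (𝟙 Q - r ≫ ψ) ≫ g = 0 := comp_distTriang_mor_zero₁₂ _ hT
  have h1 : g ≫ h = 0 := comp_distTriang_mor_zero₂₃ _ hT
  have h2 : h ≫ (𝟙 Q - r ≫ ψ)⟦(1 : ℤ)⟧' = 0 := comp_distTriang_mor_zero₃₁ _ hT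
  have hfr : (𝟙 Q - r ≫ ψ) ≫ r = 0 := by simp [hψr]
  have hψf : ψ ≫ (𝟙 Q - r ≫ ψ) = 0 := by simp [reassoc_of% hψr]
  obtain ⟨s, hs⟩ := Triangle.yoneda_exact₂ _ hT r hfr
  change Z ⟶ p at s
  change r = g ≫ s at hs
  obtain ⟨t₀, ht₀⟩ := Triangle.coyoneda_exact₃ _ (rot_of_distTriang _ hT) (ψ⟦(1 : ℤ)⟧') (by
    change ψ⟦(1 : ℤ)⟧' ≫ (-(𝟙 Q - r ≫ ψ)⟦(1 : ℤ)⟧') = 0
    rw [Preadditive.comp_neg, ← Functor.map_comp, hψf, Functor.map_zero, neg_zero])
  change p⟦(1 : ℤ)⟧ ⟶ Z at t₀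
  change ψ⟦(1 : ℤ)⟧' = t₀ ≫ h at ht₀
  let a := ψ ≫ g
  let b := h ≫ r⟦(1 : ℤ)⟧'
  let t := t₀ - t₀ ≫ s ≫ a
  have has : a ≫ s = 𝟙 p := by simp only [a, Category.assoc, ← hs, hψr]
  have hah : a ≫ h = 0 := by simp only [a, Category.assoc, h1, comp_zero]
  have hab : a ≫ b = 0 := by simp only [b, ← Category.assoc, hah, zero_comp]
  have hth : t ≫ h = ψ⟦(1 : ℤ)⟧' := by
    simp only [t, Preadditive.sub_comp, Category.assoc, hah, comp_zero, sub_zero, ht₀]
  have htb : t ≫ b = 𝟙 _ := by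
    simp only [b]
    rw [← Category.assoc, hth, ← Functor.map_comp, hψr, CategoryTheory.Functor.map_id]
  have hts : t ≫ s = 0 := by
    simp only [t, Preadditive.sub_comp, Category.assoc, has, Category.comp_id, sub_self]
  let d := 𝟙 Z - s ≫ a - b ≫ t
  have hdh : d ≫ h = 0 := by
    have hhe : h - h ≫ (r ≫ ψ)⟦(1 : ℤ)⟧' = 0 := by
      rwa [Functor.map_sub, CategoryTheory.Functor.map_id, Preadditive.comp_sub, Category.comp_id] at h2
    simp only [d, Preadditive.sub_comp, Category.id_comp, Category.assoc, hah, hth, comp_zero, sub_zero]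
    simpa [b] using hhe
  obtain ⟨k, hk⟩ := Triangle.coyoneda_exact₃ _ hT d hdh
  change Z ⟶ Q at k
  change d = k ≫ g at hk
  have hg : g = r ≫ a := by
    rw [Preadditive.sub_comp, Category.id_comp, sub_eq_zero, Category.assoc] at h0
    exact h0
  have hkr : k ≫ r = 0 := by
    have hds : d ≫ s = 0 := by
      simp only [d, Preadditive.sub_comp, Category.id_comp, Category.assoc, has, hts, Category.comp_id,
        comp_zero, sub_self]
    rw [hk, hg, Category.assoc, Category.assoc, has, Category.comp_id] at hds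
    exact hds
  have hd : d = 0 := by rw [hk, hg, ← Category.assoc, hkr, zero_comp]
  refine ⟨{ hom := biprod.lift s b, inv := biprod.desc a t, hom_inv_id := ?_, inv_hom_id := ?_ }⟩
  · rw [biprod.lift_desc]
    simp only [d] at hd
    rw [sub_sub, sub_eq_zero] at hd
    exact hd.symm
  · apply biprod.hom_ext' <;> apply biprod.hom_ext <;> simp [has, hab, hts, htb]

end Cone

variable {X U Z : Scheme.{u}}

/-- Vanishing passes to smaller ranges. -/
lemma isZero_rho_of_range_le (j : U ⟶ X) [IsOpenImmersion j] (k : Z ⟶ X) [IsOpenImmersion k]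
    (h : k.opensRange ≤ j.opensRange) {K : DCoh.D X} (hK : IsZero ((rho j).obj K)) :
    IsZero ((rho k).obj K) := by
  let i := IsOpenImmersion.lift j k h
  haveI : IsOpenImmersion (i ≫ j) := by rw [IsOpenImmersion.lift_fac]; infer_instance
  haveI : IsOpenImmersion i := IsOpenImmersion.of_comp i j
  exact (isZero_rho_comp i j k (IsOpenImmersion.lift_fac _ _ _) K).1 (Functor.map_isZero _ hK)

lemma isZero_rho_preimage (j : U ⟶ X) [IsOpenImmersion j] (W : X.Opens) {K : DCoh.D X}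
    (hK : IsZero ((rho W.ι).obj K)) : IsZero ((rho (j ⁻¹ᵁ W).ι).obj ((rho j).obj K)) := by
  refine (isZero_rho_comp _ j ((j ⁻¹ᵁ W).ι ≫ j) rfl K).2 (isZero_rho_of_range_le W.ι _ ?_ hK)
  rw [Scheme.Hom.opensRange_comp, Scheme.Opens.opensRange_ι, Scheme.Opens.opensRange_ι]
  exact j.image_preimage_le W

/-- Pushforwards vanish where the object does. -/
lemma isZero_rho_rpush (j : U ⟶ X) [IsOpenImmersion j] (W : X.Opens) {F : DCoh.D U}
    (hF : IsZero ((rho (j ⁻¹ᵁ W).ι).obj F)) : IsZero ((rho W.ι).obj ((DCoh.Rpush j).obj F)) := by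
  obtain ⟨e⟩ := nonempty_rpush_restrictD_iso j W
  exact (Functor.map_isZero (DCoh.Rpush (j ∣_ W)) hF).of_iso (e.app F)

/-- The unit is invertible on objects vanishing off the open. -/
lemma isIso_unit (j : U ⟶ X) [IsOpenImmersion j] (W : X.Opens) (hW : j.opensRange ⊔ W = ⊤)
    {K : DCoh.D X} (hK : IsZero ((rho W.ι).obj K)) : IsIso ((adj j).unit.app K) := by
  obtain ⟨C, b, c, h⟩ := distinguished_cocone_triangle ((adj j).unit.app K)
  have h1 : IsZero ((rho j.opensRange.ι).obj C) :=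
    isZero_rho_of_range_le j _ (by rw [Scheme.Opens.opensRange_ι]) (isZero_rho_cone_unit j b c h)
  have h2 : IsZero ((rho W.ι).obj C) :=
    isZero_rho_obj₂ W (rot_of_distTriang _ h) (isZero_rho_rpush j W (isZero_rho_preimage j W hK))
      (isZero_rho_shift W hK 1)
  have h3 := isZero_rho_inf h1 h2
  rw [hW] at h3
  exact (Triangle.isZero₃_iff_isIso₁ _ h).1 (isZero_of_isZero_rho_top C h3)

/-- With an invertible unit every map on the open extends. -/
lemma exists_preimage (j : U ⟶ X) [IsOpenImmersion j] {A B : DCoh.D X}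
    [IsIso ((adj j).unit.app B)] (ψ : (rho j).obj A ⟶ (rho j).obj B) :
    ∃ φ : A ⟶ B, (rho j).map φ = ψ := by
  refine ⟨(adj j).homEquiv _ _ ψ ≫ inv ((adj j).unit.app B), ?_⟩
  rw [Functor.map_comp, Functor.map_inv, IsIso.comp_inv_eq, ← cancel_mono ((adj j).counit.app _),
    Category.assoc, (adj j).left_triangle_components, Category.comp_id]
  exact ((adj j).homEquiv_counit _ _ _).symm.trans ((adj j).homEquiv _ _ |>.symm_apply_apply ψ)

lemma isPerfect_biprod {A B : DCoh.D X} (hA : DCoh.IsPerfect A) (hB : DCoh.IsPerfect B) :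
    DCoh.IsPerfect (A ⊞ B) :=
  (prop_biprod (PP (⊥ : X.Opens)) (A := A) (B := B) ⟨hA, isZero_rho_bot A⟩ ⟨hB, isZero_rho_bot B⟩).1

lemma isPerfect_of_cover {U V : X.Opens} (hUV : U ⊔ V = ⊤) {K : DCoh.D X}
    (hU : DCoh.IsPerfect ((rho U.ι).obj K)) (hV : DCoh.IsPerfect ((rho V.ι).obj K)) :
    DCoh.IsPerfect K := by
  refine (isPerfect_iff _).2 (LocSP.of_local fun x => ?_)
  rcases Opens.mem_sup.1 (show x ∈ U ⊔ V by rw [hUV]; trivial) with hx | hx
  · exact ⟨_, U.ι, inferInstance, ⟨⟨x, hx⟩, rfl⟩, (isPerfect_iff _).1 hU⟩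
  · exact ⟨_, V.ι, inferInstance, ⟨⟨x, hx⟩, rfl⟩, (isPerfect_iff _).1 hV⟩

lemma isCompact_preimage (j : U ⟶ X) [IsOpenImmersion j] [CompactSpace U] [QuasiSeparatedSpace X]
    {W : X.Opens} (hW : IsCompact (W : Set X)) : IsCompact ((j ⁻¹ᵁ W : U.Opens) : Set U) :=
  QuasiCompact.isCompact_preimage (f := j) _ W.2 hW

lemma quasiSeparatedSpace_of_imm (j : U ⟶ X) [IsOpenImmersion j] [QuasiSeparatedSpace X] :
    QuasiSeparatedSpace U :=
  QuasiSeparatedSpace.of_isOpenEmbedding j.isOpenEmbedding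

lemma compactSpace_opens {W : X.Opens} (hW : IsCompact (W : Set X)) : CompactSpace (W : Scheme.{u}) :=
  isCompact_iff_compactSpace.mp hW

/-- A perfect object detecting `PQ W`. -/
def HasDetector (X : Scheme.{u}) : Prop :=
  ∀ W : X.Opens, IsCompact (W : Set X) → ∃ P, PP W P ∧
    ∀ E, PQ W E → (∀ (n : ℤ) (φ : P ⟶ E⟦n⟧), φ = 0) → IsZero E

/-- Detection in terms of all shifts of the detector. -/
lemma eq_zero_of_forall_shift {P E : DCoh.D X} (h : ∀ (n : ℤ) (φ : P⟦n⟧ ⟶ E), φ = 0) (n : ℤ)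
    (φ : P ⟶ E⟦n⟧) : φ = 0 := by
  apply (shiftFunctor _ (-n)).map_injective
  rw [Functor.map_zero, ← cancel_mono ((shiftFunctorCompIsoId (DCoh.D X) n (-n) (by simp)).hom.app E),
    zero_comp]
  exact h _ _

lemma eq_zero_of_forall_shift' {P E : DCoh.D X} (h : ∀ (n : ℤ) (φ : P ⟶ E⟦n⟧), φ = 0) (n : ℤ)
    (φ : P⟦n⟧ ⟶ E) : φ = 0 := by
  apply (shiftFunctor _ (-n)).map_injective
  rw [Functor.map_zero, ← cancel_epi ((shiftFunctorCompIsoId (DCoh.D X) n (-n) (by simp)).inv.app P),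
    comp_zero]
  exact h _ _

/-- The affine case. -/
theorem hasDetector_of_isAffine (X : Scheme.{u}) [IsAffine X] : HasDetector X := by
  intro W hW
  let j := X.isoSpec.inv
  have hj : j.opensRange = ⊤ := Scheme.Hom.opensRange_of_isIso _
  have hu : ∀ K : DCoh.D X, IsIso ((adj j).unit.app K) := fun K =>
    isIso_unit j ⊥ (by rw [hj]; exact top_sup_eq _) (isZero_rho_bot K)
  haveI : QuasiSeparatedSpace X := inferInstance
  obtain ⟨P₀, hP₀, hdet⟩ := exists_detector_spec _ (j ⁻¹ᵁ W) (isCompact_preimage j hW)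
  refine ⟨(DCoh.Rpush j).obj P₀, ⟨?_, isZero_rho_rpush j W hP₀.2⟩, fun E hE h => ?_⟩
  · exact (isPerfect_iff _).2 (LocSP.of_local fun x => ⟨_, j, inferInstance,
      (hj.ge (Opens.mem_top x)), (isPerfect_iff _).1 (isPerfect_of_iso (restrictPushIso j P₀).symm hP₀.1)⟩)
  · refine isZero_of_isZero_rho j hj (hdet _ ⟨isQCohD_rho j hE.1, isZero_rho_preimage j W hE.2⟩
      fun n ψ => ?_)
    haveI := hu (E⟦n⟧)
    obtain ⟨φ, hφ⟩ := exists_preimage j (A := (DCoh.Rpush j).obj P₀) (B := E⟦n⟧)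
      ((restrictPushIso j P₀).hom ≫ ψ ≫ ((rho j).commShiftIso n).inv.app E)
    rw [h n φ, Functor.map_zero] at hφ
    rw [← cancel_epi (restrictPushIso j P₀).hom, comp_zero,
      ← cancel_mono (((rho j).commShiftIso n).inv.app E), Category.assoc, ← hφ, zero_comp]

end Groth.Agent.DQGen
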