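import Groth.Agent.DQGen.BoundsGen
import Groth.Agent.DQGen.KoszulOrth
import Groth.Agent.H9Misc.TFactor

/-!
# Truncated units and Koszul orthogonality
-/

set_option backward.isDefEq.respectTransparency false

universe w v u

open CategoryTheory CategoryTheory.Limits AlgebraicGeometry Pretriangulated TopologicalSpace ZeroObject

attribute [local instance] HasDerivedCategory.standard

namespace Groth.Agent.DQGen

open Groth.Agent.KFlatLib DerivedCategory

section General

variable {C : Type u} [Category.{v} C] [Abelian C]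

local notation "tS" => (DerivedCategory.TStructure.t (C := C))
local notation "H" => DerivedCategory.homologyFunctor C

lemma isIso_truncLT_map_iff_homology {A B : DerivedCategory C} (f : A ⟶ B) (m : ℤ) :
    IsIso ((tS).truncLT m |>.map f) ↔ ∀ i < m, IsIso ((H i).map f) := by
  have hnat : ∀ i, (H i).map ((tS).truncLT m |>.map f) ≫ (H i).map (((tS).truncLTι m).app B) =
      (H i).map (((tS).truncLTι m).app A) ≫ (H i).map f := fun i => by
    rw [← Functor.map_comp, ← Functor.map_comp, ((tS).truncLTι m).naturality]; rfl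
  refine ⟨fun h i hi => ?_, fun h => (DerivedCategory.isIso_iff C _).2 fun i => ?_⟩
  · haveI := H9Misc.isIso_map_truncLTι m i hi A
    haveI := H9Misc.isIso_map_truncLTι m i hi B
    exact IsIso.of_isIso_fac_left (hnat i).symm
  · rcases lt_or_ge i m with hi | hi
    · haveI := H9Misc.isIso_map_truncLTι m i hi A
      haveI := H9Misc.isIso_map_truncLTι m i hi B
      haveI := h i hi
      exact IsIso.of_isIso_fac_right (hnat i)
    · haveI : (((tS).truncLT m).obj A).IsLE (m - 1) := (tS).isLE_truncLT_obj ..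
      haveI : (((tS).truncLT m).obj B).IsLE (m - 1) := (tS).isLE_truncLT_obj ..
      exact ⟨0, (isZero_of_isLE (((tS).truncLT m).obj A) (m - 1) i (by omega)).eq_of_src _ _,
        (isZero_of_isLE (((tS).truncLT m).obj B) (m - 1) i (by omega)).eq_of_src _ _⟩

lemma isIso_truncGE_map_iff_homology {A B : DerivedCategory C} (f : A ⟶ B) (m : ℤ) :
    IsIso ((tS).truncGE m |>.map f) ↔ ∀ i, m ≤ i → IsIso ((H i).map f) := by
  have hnat : ∀ i, (H i).map (((tS).truncGEπ m).app A) ≫ (H i).map ((tS).truncGE m |>.map f) =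
      (H i).map f ≫ (H i).map (((tS).truncGEπ m).app B) := fun i => by
    rw [← Functor.map_comp, ← Functor.map_comp, ← ((tS).truncGEπ m).naturality]; rfl
  refine ⟨fun h i hi => ?_, fun h => (DerivedCategory.isIso_iff C _).2 fun i => ?_⟩
  · haveI := H9Misc.isIso_map_truncGEπ m i hi A
    haveI := H9Misc.isIso_map_truncGEπ m i hi B
    exact IsIso.of_isIso_fac_right (hnat i).symm
  · rcases lt_or_ge i m with hi | hi
    · haveI : (((tS).truncGE m).obj A).IsGE m := (tS).isGE_truncGE_obj ..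
      haveI : (((tS).truncGE m).obj B).IsGE m := (tS).isGE_truncGE_obj ..
      exact ⟨0, (isZero_of_isGE (((tS).truncGE m).obj A) m i hi).eq_of_src _ _,
        (isZero_of_isGE (((tS).truncGE m).obj B) m i hi).eq_of_src _ _⟩
    · haveI := H9Misc.isIso_map_truncGEπ m i hi A
      haveI := H9Misc.isIso_map_truncGEπ m i hi B
      haveI := h i hi
      exact IsIso.of_isIso_fac_left (hnat i)

variable {T : Triangle (DerivedCategory C)} (hT : T ∈ distTriang _)
include hT

lemma isIso_mor₁_of_isZero (i : ℤ) (h₁ : IsZero ((H (i - 1)).obj T.obj₃))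
    (h₂ : IsZero ((H i).obj T.obj₃)) : IsIso ((H i).map T.mor₁) :=
  have := (HomologySequence.mono_homologyMap_mor₁_iff _ hT (i - 1) i).2 (h₁.eq_of_src _ _)
  have := (HomologySequence.epi_homologyMap_mor₁_iff _ hT i).2 (h₂.eq_of_tgt _ _)
  isIso_of_mono_of_epi _

lemma isZero_obj₃_of_isIso (i : ℤ) (h₁ : IsIso ((H i).map T.mor₁))
    (h₂ : IsIso ((H (i + 1)).map T.mor₁)) : IsZero ((H i).obj T.obj₃) := by
  have e1 : (H i).map T.mor₂ = 0 :=
    (HomologySequence.epi_homologyMap_mor₁_iff _ hT i).1 inferInstance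
  have e2 : HomologySequence.δ T i (i + 1) = 0 :=
    (HomologySequence.mono_homologyMap_mor₁_iff _ hT i (i + 1)).1 inferInstance
  exact (HomologySequence.exact₃ _ hT i (i + 1)).isZero_of_both_zeros e1 e2

end General

section Scheme

variable {R : CommRingCat.{u}} [PreservesFiniteLimits (tilde.functor R)]

/-- The generalized unit triangle and maps out of an object supported off the open. -/
lemma hom_cone_iff {X : Scheme.{u}} {W : X.Opens} {P : DCoh.D X}
    (hP : IsZero ((rho W.ι).obj P)) {E : DCoh.D X} {M : DCoh.D (W : Scheme.{u})}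
    (η : E ⟶ (DCoh.Rpush W.ι).obj M) {C : DCoh.D X} (b : (DCoh.Rpush W.ι).obj M ⟶ C)
    (c : C ⟶ E⟦(1 : ℤ)⟧) (hT : Triangle.mk η b c ∈ distTriang _) (k n : ℤ) (hk : k + 1 = n) :
    (∀ φ : P ⟶ E⟦n⟧, φ = 0) ↔ ∀ φ : P ⟶ C⟦k⟧, φ = 0 := by
  subst hk
  have hR : ∀ (m : ℤ) (φ : P ⟶ ((DCoh.Rpush W.ι).obj M)⟦m⟧), φ = 0 := fun m =>
    eq_zero_of_forall_shift (fun n φ => eq_zero_of_restrict_isZero W.ι (isZero_rho_shift W hP n) φ) m
  have hTk := Triangle.shift_distinguished _ hT k
  refine ⟨fun h φ => ?_, fun h φ => ?_⟩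
  · have h3 : φ ≫ ((Triangle.shiftFunctor (DCoh.D X) k).obj (Triangle.mk η b c)).mor₃ = 0 := by
      rw [← cancel_mono ((shiftFunctorAdd' (DCoh.D X) k 1 (k + 1) rfl).inv.app E), zero_comp]
      exact h _
    obtain ⟨χ, hχ⟩ := Triangle.coyoneda_exact₃ _ hTk φ h3
    rw [hχ, hR k χ, zero_comp]
  · obtain ⟨χ, hχ⟩ := Triangle.coyoneda_exact₁ _ hTk
      (φ ≫ (shiftFunctorAdd' (DCoh.D X) k 1 (k + 1) rfl).hom.app E) (by
        rw [← cancel_mono ((shiftFunctorAdd' (DCoh.D X) k 1 (k + 1) rfl).inv.app ((DCoh.Rpush W.ι).obj M)), zero_comp]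
        exact hR _ _)
    rw [← cancel_mono ((shiftFunctorAdd' (DCoh.D X) k 1 (k + 1) rfl).hom.app E), zero_comp, hχ, h χ,
      zero_comp]

/-- Amplitude of the Koszul complex. -/
lemma koszul_bounds : ∀ (l : List R),
    (∀ i : ℤ, i < -(l.length : ℤ) ∨ 0 < i → IsZero ((Koszul.koszul R l).X i)) ∧
      ∀ i : ℤ, Module.Projective R ((Koszul.koszul R l).X i)
  | [] => ⟨fun i hi => HomologicalComplex.isZero_single_obj_X _ _ _ _ (by simp at hi; omega), fun i => by
      by_cases hi : i = 0
      · subst hi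
        exact Module.Projective.of_equiv (HomologicalComplex.singleObjXSelf (ComplexShape.up ℤ) (0 : ℤ)
          (ModuleCat.of R R)).toLinearEquiv.symm
      · haveI : Subsingleton ((Koszul.koszul R []).X i : Type u) := ModuleCat.subsingleton_of_isZero
          (HomologicalComplex.isZero_single_obj_X (ComplexShape.up ℤ) 0 (ModuleCat.of R R) i hi)
        infer_instance⟩
  | f :: l => by
    obtain ⟨hz, hp⟩ := koszul_bounds l
    refine ⟨fun i hi => ?_, fun i => ?_⟩
    · simp only [List.length_cons] at hi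
      exact IsZero.of_iso ((biprod_isZero_iff _ _).2 ⟨hz (i + 1) (by omega), hz i (by omega)⟩)
        (HomologicalComplex.homotopyCofiber.XIsoBiprod (f • 𝟙 (Koszul.koszul R l)) i (i + 1) rfl)
    · haveI := hp (i + 1)
      haveI := hp i
      exact Module.Projective.of_equiv
        ((HomologicalComplex.homotopyCofiber.XIsoBiprod (f • 𝟙 (Koszul.koszul R l)) i (i + 1) rfl) ≪≫
          ModuleCat.biprodIsoProd _ _).toLinearEquiv.symm

end Scheme

lemma additive_tilde (R : CommRingCat.{u}) : (tilde.functor R).Additive := inferInstance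

lemma pfc_tilde (R : CommRingCat.{u}) : PreservesFiniteColimits (tilde.functor R) := inferInstance

section Main

variable (A : Type u) [CommRing A] (fs : List A) [PreservesFiniteLimits (tilde.functor (CommRingCat.of A))]

/-- The complement of the zero locus. -/
abbrev koszU : (Spec (CommRingCat.of A)).Opens := LocCoh.puncturedOpen A (Ideal.span {a | a ∈ fs})

/-- The sheafified Koszul complex. -/
noncomputable abbrev koszP : DCoh.D (Spec (CommRingCat.of A)) :=
  (DCoh.tildeD (CommRingCat.of A)).obj (DerivedCategory.Q.obj (Koszul.koszul A fs))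

lemma isZero_rho_koszul : IsZero ((rho (koszU A fs).ι).obj (koszP A fs)) := by
  obtain ⟨hP, -⟩ := detector_kz (R := CommRingCat.of A) fs (koszU A fs) (fun x => mem_puncturedOpen_iff A fs x)
  obtain ⟨e⟩ := nonempty_koszul_iso (R := CommRingCat.of A) fs
  exact hP.2.of_iso ((rho (koszU A fs).ι).mapIso ((DCoh.tildeD (CommRingCat.of A)).mapIso e))

/-- Maps from the Koszul object detect cohomology of torsion objects degree by degree. -/
lemma isZero_HD_of_koszul {C : DCoh.D (Spec (CommRingCat.of A))} (hC : PQ (koszU A fs) C) (n : ℤ)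
    (h : ∀ φ : (koszP A fs) ⟶ C⟦n⟧, φ = 0) : IsZero (DCoh.HD C n) := by
  let R := CommRingCat.of A
  obtain ⟨e⟩ := nonempty_koszul_iso (R := R) fs
  obtain ⟨N, ⟨eN⟩⟩ := exists_tildeD_iso hC.1
  have htors : ∀ g ∈ fs, Tors (R := R) g N := fun g hg => (tors_iff_support (R := R) g N).2 fun i x hx =>
    not_not.1 fun hne => (isZero_rho_iff_support _ _).1 ((PQ (koszU A fs)).prop_of_iso eN.symm hC).2 i hne
      ((mem_puncturedOpen_iff A fs x).2 ⟨g, hg, hx⟩)
  have h0 := isZero_homology_of_kz (R := R) fs N htors n fun ψ => (tildeD_map_bijective _ _).1 (by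
    rw [Functor.map_zero, ← cancel_mono (((DCoh.tildeD R).commShiftIso n).hom.app N ≫ eN.hom⟦n⟧'),
      zero_comp, ← cancel_epi ((DCoh.tildeD R).map e.hom), comp_zero]
    exact h _)
  haveI := additive_tilde R
  haveI := pfc_tilde R
  exact (((tilde.functor R).map_isZero h0).of_iso ((mapDCHomologyIso (tilde.functor R) n).app N)).of_iso
    ((DerivedCategory.homologyFunctor _ n).mapIso eN.symm)

lemma isIso_rho_unit {X U : Scheme.{u}} (j : U ⟶ X) [IsOpenImmersion j] (a : rho j ⊣ DCoh.Rpush j)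
    (E : DCoh.D X) : IsIso ((rho j).map (a.unit.app E)) := by
  haveI := (adj j).fullyFaithfulROfIsIsoCounit.full
  haveI := (adj j).fullyFaithfulROfIsIsoCounit.faithful
  haveI : IsIso a.counit := Adjunction.counit_isIso_of_R_fully_faithful a
  haveI : IsIso (a.counit.app ((rho j).obj E)) := inferInstance
  exact (IsIso.inv_eq_of_inv_hom_id (a.left_triangle_components E)) ▸ (inferInstance : IsIso (inv (a.counit.app ((rho j).obj E))))

lemma pq_cone (a : rho (koszU A fs).ι ⊣ DCoh.Rpush (koszU A fs).ι) {E : DCoh.D (Spec (CommRingCat.of A))}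
    (hE : DCoh.IsQCohD E) {C : DCoh.D (Spec (CommRingCat.of A))}
    (b : (DCoh.Rpush (koszU A fs).ι).obj ((rho (koszU A fs).ι).obj E) ⟶ C) (c : C ⟶ E⟦(1 : ℤ)⟧)
    (hT : Triangle.mk (a.unit.app E) b c ∈ distTriang _) : PQ (koszU A fs) C := by
  haveI := quasiCompact_puncturedOpen A fs
  refine ⟨isQCohD_obj₃ hT hE (isQCohD_rpush _ (isQCohD_rho _ hE)), ?_⟩
  exact (Triangle.isZero₃_iff_isIso₁ _ ((rho (koszU A fs).ι).map_distinguished _ hT)).2 (isIso_rho_unit _ a E)

theorem truncLE_iff_orth (a : rho (koszU A fs).ι ⊣ DCoh.Rpush (koszU A fs).ι) (E : DCoh.D (Spec (CommRingCat.of A)))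
    (hE : DCoh.IsQCohD E) (m : ℤ) :
    ((∀ n : ℤ, n ≤ m → ∀ φ : (koszP A fs)⟦-n⟧ ⟶ E, φ = 0) → ∀ i < m, IsIso ((DerivedCategory.homologyFunctor _ i).map (a.unit.app E))) ∧
    ((∀ i < m, IsIso ((DerivedCategory.homologyFunctor _ i).map (a.unit.app E))) →
      ∀ n : ℤ, n ≤ m - 1 → ∀ φ : (koszP A fs)⟦-n⟧ ⟶ E, φ = 0) := by
  obtain ⟨C, b, c, hT⟩ := distinguished_cocone_triangle (a.unit.app E)
  have hC := pq_cone A fs a hE b c hT
  have hk := hom_cone_iff (isZero_rho_koszul A fs) (a.unit.app E) b c hT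
  refine ⟨fun h i hi => ?_, fun h n hn => ?_⟩
  · have hz : ∀ k, k < m → IsZero (DCoh.HD C k) := fun k hkm =>
      isZero_HD_of_koszul A fs hC k ((hk k (k + 1) rfl).1 fun φ => by
        apply (shiftFunctor _ (-(k + 1))).map_injective
        rw [Functor.map_zero,
          ← cancel_mono ((shiftFunctorCompIsoId (DCoh.D _) (k + 1) (-(k + 1)) (by simp)).hom.app E), zero_comp]
        exact h (k + 1) (by omega) _)
    exact isIso_mor₁_of_isZero hT i (hz (i - 1) (by omega)) (hz i hi)
  · have hge : C.IsGE (m - 1) := (DerivedCategory.isGE_iff _ _).2 fun i hi =>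
      isZero_obj₃_of_isIso hT i (h i (by omega)) (h (i + 1) (by omega))
    refine eq_zero_of_shift (-n) n (by simp) ((hk (n - 1) n (by omega)).2 fun φ => ?_)
    haveI : (DerivedCategory.Q.obj (Koszul.koszul A fs)).IsLE 0 := by
      haveI : (Koszul.koszul A fs).IsStrictlyLE 0 := (CochainComplex.isStrictlyLE_iff _ _).2 fun i hi =>
        (koszul_bounds (R := CommRingCat.of A) fs).1 i (Or.inr hi)
      infer_instance
    haveI := additive_tilde (CommRingCat.of A)
    haveI := pfc_tilde (CommRingCat.of A)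
    have hle : DerivedCategory.IsLE (koszP A fs) 0 := (DerivedCategory.isLE_iff _ _).2 fun i hi =>
      ((tilde.functor (CommRingCat.of A)).map_isZero
        (isZero_of_isLE (DerivedCategory.Q.obj (Koszul.koszul A fs)) 0 i hi)).of_iso
        ((mapDCHomologyIso (tilde.functor (CommRingCat.of A)) i).app _)
    exact DerivedCategory.TStructure.t.zero_of_isLE_of_isGE φ 0 1 (by omega) hle
      (isGE_shift (m - 1) (n - 1) 1 hge (by omega))

theorem truncGE_iff_orth (a : rho (koszU A fs).ι ⊣ DCoh.Rpush (koszU A fs).ι) (E : DCoh.D (Spec (CommRingCat.of A)))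
    (hE : DCoh.IsQCohD E) (m : ℤ) :
    ((∀ n : ℤ, m ≤ n → ∀ φ : (koszP A fs)⟦-n⟧ ⟶ E, φ = 0) →
      IsIso ((DerivedCategory.TStructure.t.truncGE m).map (a.unit.app E))) ∧
    (IsIso ((DerivedCategory.TStructure.t.truncGE m).map (a.unit.app E)) →
      ∀ n : ℤ, m + (fs.length : ℤ) ≤ n → ∀ φ : (koszP A fs)⟦-n⟧ ⟶ E, φ = 0) := by
  obtain ⟨C, b, c, hT⟩ := distinguished_cocone_triangle (a.unit.app E)
  have hC := pq_cone A fs a hE b c hT
  have hk := hom_cone_iff (isZero_rho_koszul A fs) (a.unit.app E) b c hT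
  refine ⟨fun h => (isIso_truncGE_map_iff_homology _ m).2 fun i hi => ?_, fun h n hn => ?_⟩
  · have hz : ∀ k, m - 1 ≤ k → IsZero (DCoh.HD C k) := fun k hkm =>
      isZero_HD_of_koszul A fs hC k ((hk k (k + 1) rfl).1 fun φ => by
        apply (shiftFunctor _ (-(k + 1))).map_injective
        rw [Functor.map_zero,
          ← cancel_mono ((shiftFunctorCompIsoId (DCoh.D _) (k + 1) (-(k + 1)) (by simp)).hom.app E), zero_comp]
        exact h (k + 1) (by omega) _)
    exact isIso_mor₁_of_isZero hT i (hz (i - 1) (by omega)) (hz i (by omega))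
  · let t := (DerivedCategory.TStructure.t : Triangulated.TStructure (DCoh.D (Spec (CommRingCat.of A))))
    refine eq_zero_of_shift (-n) n (by simp) fun φ => ?_
    have hL : ((t.truncLT m).obj E).IsLE (m - 1) := t.isLE_truncLT_obj _ _ _
    have hq : DCoh.IsQCohD ((t.truncLT m).obj E) :=
      (isQCohD_of_trunc hE (m - 1) hL (t.isGE_truncGE_obj E m (m - 1 + 1) (by omega)) _ _ _
        (t.triangleLTGE_distinguished m E)).1
    have h0 : ∀ ψ : (koszP A fs) ⟶ ((t.truncLT m).obj E)⟦n⟧, ψ = 0 := fun ψ =>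
      eq_zero_of_projective (CommRingCat.of A) (Koszul.koszul A fs) (-(fs.length : ℤ)) 0
        (koszul_bounds (R := CommRingCat.of A) fs).1 (koszul_bounds (R := CommRingCat.of A) fs).2
        (Iso.refl _) (isQCohD_shift hq n) (-(fs.length : ℤ) - 1) (by omega)
        (isLE_shift (m - 1) n _ hL (by omega)) ψ
    have h1 : φ ≫ (a.unit.app E)⟦n⟧' = 0 :=
      eq_zero_of_forall_shift (fun n φ => eq_zero_of_restrict_isZero (koszU A fs).ι
        (isZero_rho_shift _ (isZero_rho_koszul A fs) n) φ) n _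
    have h2 : φ ≫ ((t.truncGEπ m).app E)⟦n⟧' = 0 := by
      haveI := h
      rw [← cancel_mono (((t.truncGE m).map (a.unit.app E))⟦n⟧'), zero_comp, Category.assoc,
        ← Functor.map_comp]
      erw [← (t.truncGEπ m).naturality]
      rw [Functor.map_comp, ← Category.assoc]
      exact (congrArg (· ≫ _) h1).trans zero_comp
    obtain ⟨χ, hχ⟩ := Triangle.coyoneda_exact₂ _
      (Triangle.shift_distinguished _ (t.triangleLTGE_distinguished m E) n) φ (by
        change φ ≫ (n.negOnePow • ((t.truncGEπ m).app E)⟦n⟧') = 0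
        rw [Units.smul_def, Preadditive.comp_zsmul, h2, smul_zero])
    rw [hχ, h0 χ, zero_comp]

end Main

end Groth.Agent.DQGen
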